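import Groth.Agent.Lib.Helper49.HomLoc
import Groth.Agent.Lib.Helper9.AdicComplEquiv

/-!
# Transport of regular homomorphisms along ring isomorphisms; G-ring condition is local-ring-iso invariant
-/

set_option autoImplicit false
set_option linter.style.haveILetI false
set_option linter.overlappingInstances false
universe u

namespace Groth.Agent.Lib.Helper69.GRingLocal

open Groth.Agent.Lib.Helper49

/-- Transport of a regular homomorphism along compatible ring isomorphisms of source and target. -/
theorem isRegularHom_of_ringEquiv {R S R' S' : Type u} [CommRing R] [CommRing S] [CommRing R']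
    [CommRing S'] [Algebra R S] [Algebra R' S'] (e : R ≃+* R') (e' : S ≃+* S')
    (h : ∀ r, e' (algebraMap R S r) = algebraMap R' S' (e r)) (hRS : CAlg.IsRegularHom R S) :
    CAlg.IsRegularHom R' S' := by
  letI : Algebra R R' := e.toRingHom.toAlgebra
  letI : Algebra S S' := e'.toRingHom.toAlgebra
  letI : Algebra R S' := ((algebraMap R' S').comp (algebraMap R R')).toAlgebra
  haveI : IsScalarTower R R' S' := .of_algebraMap_eq' rfl
  haveI : IsScalarTower R S S' := .of_algebraMap_eq (fun r => (h r).symm)
  haveI : IsLocalization (⊥ : Submonoid R) R' := by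
    refine IsLocalization.of_le_isUnit_of_bijective ?_ e.bijective
    rintro _ ⟨r, hr, rfl⟩
    have hr' : r = 1 := Submonoid.mem_bot.1 hr
    subst hr'
    simp
  haveI : IsLocalization (Algebra.algebraMapSubmonoid S (⊥ : Submonoid R)) S' := by
    refine IsLocalization.of_le_isUnit_of_bijective ?_ e'.bijective
    rintro _ ⟨_, ⟨r, hr, rfl⟩, rfl⟩
    have hr' : r = 1 := Submonoid.mem_bot.1 hr
    subst hr'
    simp
  exact HomLoc.isRegularHom_of_isLocalization R S (⊥ : Submonoid R) R' S' hRS

/-- The G-ring condition at a local ring only depends on the isomorphism class of the local ring. -/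
theorem regular_completion_of_ringEquiv {R₁ R₂ : Type u} [CommRing R₁] [CommRing R₂]
    [IsLocalRing R₁] [IsLocalRing R₂] (e : R₁ ≃+* R₂)
    (h : CAlg.IsRegularHom R₁ (AdicCompletion (IsLocalRing.maximalIdeal R₁) R₁)) :
    CAlg.IsRegularHom R₂ (AdicCompletion (IsLocalRing.maximalIdeal R₂) R₂) := by
  letI : Algebra R₁ R₂ := e.toRingHom.toAlgebra
  have hmap : ∀ r, algebraMap R₁ R₂ r = e r := fun r => rfl
  have hmax : ∀ r, e r ∈ IsLocalRing.maximalIdeal R₂ ↔ r ∈ IsLocalRing.maximalIdeal R₁ := by
    intro r
    rw [IsLocalRing.mem_maximalIdeal, IsLocalRing.mem_maximalIdeal, mem_nonunits_iff,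
      mem_nonunits_iff]
    exact not_congr ⟨fun hu => by simpa using hu.map e.symm, fun hu => hu.map e⟩
  have hmapideal : (IsLocalRing.maximalIdeal R₁).map (e : R₁ →+* R₂) =
      IsLocalRing.maximalIdeal R₂ := by
    apply le_antisymm
    · rw [Ideal.map_le_iff_le_comap]
      intro r hr
      exact (hmax r).2 hr
    · intro y hy
      obtain ⟨r, rfl⟩ := e.surjective y
      exact Ideal.mem_map_of_mem _ ((hmax r).1 hy)
  have hpow : ∀ n, (IsLocalRing.maximalIdeal R₁ ^ n).map (e : R₁ →+* R₂) =
      IsLocalRing.maximalIdeal R₂ ^ n := fun n => by rw [Ideal.map_pow, hmapideal]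
  obtain ⟨E⟩ := Groth.Agent.Lib.Helper9.AdicComplEquiv.exists_algEquiv (R := R₁)
    (IsLocalRing.maximalIdeal R₁) (IsLocalRing.maximalIdeal R₂) (Algebra.ofId R₁ R₂)
    (fun r hr => (hmax r).2 hr)
    (fun n a ha => by
      have ha' : e a ∈ (IsLocalRing.maximalIdeal R₁ ^ n).map (e : R₁ →+* R₂) := by
        rw [hpow]; exact ha
      obtain ⟨b, hb, hbe⟩ := (Ideal.mem_map_iff_of_surjective (e : R₁ →+* R₂) e.surjective).1 ha'
      have : b = a := e.injective hbe
      exact this ▸ hb)
    (fun n b => ⟨e.symm b, by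
      have : (Algebra.ofId R₁ R₂) (e.symm b) = b := e.apply_symm_apply b
      rw [this, sub_self]
      exact Ideal.zero_mem _⟩)
  refine isRegularHom_of_ringEquiv e E.toRingEquiv (fun r => ?_) h
  have h1 := E.commutes r
  rw [AdicCompletion.algebraMap_apply] at h1
  exact h1

end Groth.Agent.Lib.Helper69.GRingLocal
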