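import Groth.Agent.Lib.Helper69.GUTransport

/-!
# Geometric unibranchness of a localization at a prime, reduced to the domain case (helper69)

For `A = R_p`: `A_red` is a domain iff there is a unique minimal prime `P₀ ⊆ p`, and then `A` is geometrically
unibranch iff `(R/P₀)_{p/P₀}` is.
-/

set_option autoImplicit false
set_option linter.style.haveILetI false
universe u

namespace Groth.Agent.Lib.Helper69.GULoc

open IsLocalRing Groth.Agent.Lib.Helper69.GUTransport

variable {R : Type u} [CommRing R] (p : Ideal R) [p.IsPrime] (A : Type u) [CommRing A] [Algebra R A]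
  [IsLocalization.AtPrime A p]

theorem disjoint_of_le {P : Ideal R} (hP : P ≤ p) : Disjoint (p.primeCompl : Set R) (P : Set R) := by
  rw [Set.disjoint_left]
  intro x hx hxP
  exact hx (hP hxP)

/-- every prime of `R` below `p` contains the contraction of the nilradical of `R_p`. -/
theorem comap_nilradical_le {P : Ideal R} [hPp : P.IsPrime] (hP : P ≤ p) :
    (nilradical A).comap (algebraMap R A) ≤ P := by
  have h1 := IsLocalization.isPrime_of_isPrime_disjoint p.primeCompl A P hPp (disjoint_of_le p hP)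
  have h2 := IsLocalization.comap_map_of_isPrime_disjoint p.primeCompl A hPp (disjoint_of_le p hP)
  calc (nilradical A).comap (algebraMap R A)
      ≤ (P.map (algebraMap R A)).comap (algebraMap R A) :=
        Ideal.comap_mono (nilradical_le_prime _)
    _ = P := h2

variable [IsLocalRing A]

theorem exists_minimalPrimes_of_isDomain_red (h : IsDomain (CAlg2.red A)) :
    ∃ P₀ ∈ minimalPrimes R, P₀ ≤ p ∧ ∀ P ∈ minimalPrimes R, P ≤ p → P = P₀ := by
  have hnil : (nilradical A).IsPrime := (Ideal.Quotient.isDomain_iff_prime _).mp h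
  have hP₀ : ((nilradical A).comap (algebraMap R A)).IsPrime := Ideal.comap_isPrime _ _
  have hle : (nilradical A).comap (algebraMap R A) ≤ p := by
    rw [← IsLocalization.AtPrime.comap_maximalIdeal A p]
    exact Ideal.comap_mono (IsLocalRing.le_maximalIdeal hnil.ne_top)
  refine ⟨(nilradical A).comap (algebraMap R A), ⟨⟨hP₀, bot_le⟩, ?_⟩, hle, ?_⟩
  · intro Q hQ hQle
    haveI := hQ.1
    exact comap_nilradical_le p A (hQle.trans hle)
  · intro P hP hPp
    haveI := hP.1.1
    have h1 : (nilradical A).comap (algebraMap R A) ≤ P := comap_nilradical_le p A hPp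
    exact le_antisymm (hP.2 ⟨hP₀, bot_le⟩ h1) h1

variable (P₀ : Ideal R) [P₀.IsPrime] (p' : Ideal (R ⧸ P₀)) [p'.IsPrime]
  (hp' : p'.comap (Ideal.Quotient.mk P₀) = p)

include hp' in
theorem primeCompl_le : p.primeCompl ≤ p'.primeCompl.comap (Ideal.Quotient.mk P₀) := by
  intro r hr
  rw [Submonoid.mem_comap]
  intro h
  apply hr
  rw [← hp']
  exact h

/-- the comparison map `R_p → (R/P₀)_{p/P₀}`. -/
noncomputable def toQuot : A →+* Localization.AtPrime p' :=
  IsLocalization.map (M := p.primeCompl) (Localization.AtPrime p') (Ideal.Quotient.mk P₀)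
    (primeCompl_le p P₀ p' hp')

theorem toQuot_surjective : Function.Surjective (toQuot p A P₀ p' hp') := by
  intro z
  obtain ⟨d, s, rfl⟩ := IsLocalization.exists_mk'_eq p'.primeCompl z
  obtain ⟨r, rfl⟩ := Ideal.Quotient.mk_surjective d
  obtain ⟨s', hs'⟩ := Ideal.Quotient.mk_surjective (s : R ⧸ P₀)
  have hs'p : s' ∈ p.primeCompl := by
    intro h
    apply s.2
    rw [← hs']
    rw [← hp'] at h
    exact h
  refine ⟨IsLocalization.mk' A r (⟨s', hs'p⟩ : p.primeCompl), ?_⟩
  unfold toQuot
  rw [IsLocalization.map_mk']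
  congr 1
  exact Subtype.ext hs'

include hp' in
theorem ker_toQuot_le (huniq : ∀ P ∈ minimalPrimes R, P ≤ p → P = P₀) :
    RingHom.ker (toQuot p A P₀ p' hp') ≤ nilradical A := by
  intro x hx
  rw [RingHom.mem_ker] at hx
  obtain ⟨r, s, rfl⟩ := IsLocalization.exists_mk'_eq p.primeCompl x
  unfold toQuot at hx
  rw [IsLocalization.map_mk', IsLocalization.mk'_eq_zero_iff] at hx
  obtain ⟨t, ht⟩ := hx
  have ht0 : (t : R ⧸ P₀) ≠ 0 := by
    intro h
    exact t.2 (h ▸ p'.zero_mem)
  have hr : r ∈ P₀ := by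
    rcases mul_eq_zero.mp ht with h | h
    · exact absurd h ht0
    · exact Ideal.Quotient.eq_zero_iff_mem.mp h
  rw [nilradical_eq_sInf, Ideal.mem_sInf]
  intro Q hQ
  haveI : Q.IsPrime := hQ
  -- `r` lies in the contraction of `Q`
  have hQd : Disjoint (p.primeCompl : Set R) ((Q.comap (algebraMap R A) : Ideal R) : Set R) := by
    have := (IsLocalization.isPrime_iff_isPrime_disjoint p.primeCompl A Q).mp hQ
    exact this.2
  have hQp : Q.comap (algebraMap R A) ≤ p := by
    intro y hy
    by_contra hyp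
    exact Set.disjoint_left.mp hQd hyp hy
  obtain ⟨P, hP, hPle⟩ := Ideal.exists_minimalPrimes_le (I := (⊥ : Ideal R))
    (J := Q.comap (algebraMap R A)) bot_le
  have hPP₀ : P = P₀ := huniq P hP (hPle.trans hQp)
  have hrQ : algebraMap R A r ∈ Q := hPle (hPP₀ ▸ hr)
  have hspec : IsLocalization.mk' A r s * algebraMap R A s = algebraMap R A r :=
    IsLocalization.mk'_spec A r s
  rw [← hspec] at hrQ
  rcases hQ.mem_or_mem hrQ with h | h
  · exact h
  · exfalso
    exact hQ.ne_top (Ideal.eq_top_of_isUnit_mem _ h (IsLocalization.map_units A s))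

include hp' in
/-- `R_p` is geometrically unibranch iff `(R/P₀)_{p/P₀}` is, `P₀` the unique minimal prime below `p`. -/
theorem isGeomUnibranch_iff_quotient (huniq : ∀ P ∈ minimalPrimes R, P ≤ p → P = P₀) :
    CAlg2.IsGeomUnibranch A ↔ CAlg2.IsGeomUnibranch (Localization.AtPrime p') :=
  isGeomUnibranch_iff_of_surjective (toQuot p A P₀ p' hp') (toQuot_surjective p A P₀ p' hp')
    (ker_toQuot_le p A P₀ p' hp' huniq)

end Groth.Agent.Lib.Helper69.GULoc
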