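import Groth.Agent.S4567
import Groth.Agent.Lib.Helper69.GULoc
import Groth.Prelude.Def_EGA4Misc

/-!
# Geometric unibranchness of `D_p` (D a domain) = radiciality of the normalization at `p` (helper69)
-/

set_option autoImplicit false
set_option linter.style.haveILetI false
set_option linter.unusedSectionVars false
set_option backward.isDefEq.respectTransparency.types false
universe u

namespace Groth.Agent.Lib.Helper69.GURad

open IsLocalRing AlgebraicGeometry CategoryTheory

theorem specMap_apply_eq_iff {D T : Type u} [CommRing D] [CommRing T] (ψ : D →+* T)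
    (x : PrimeSpectrum T) (p : PrimeSpectrum D) :
    (Spec.map (CommRingCat.ofHom ψ)) x = p ↔ x.asIdeal.comap ψ = p.asIdeal :=
  ⟨fun h => congrArg PrimeSpectrum.asIdeal h, fun h => PrimeSpectrum.ext h⟩

variable {D T : Type u} [CommRing D] [IsDomain D] [CommRing T] [IsDomain T] [Algebra D T]
  [Algebra.IsIntegral D T] [IsIntegrallyClosed T]

theorem isGeomUnibranch_iff_isRadicialAt
    (hinj : Function.Injective (algebraMap D T))
    (hfrac : ∀ s : T, ∃ a b : D, b ≠ 0 ∧ algebraMap D T b * s = algebraMap D T a)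
    (p : Ideal D) [hp : p.IsPrime] :
    CAlg2.IsGeomUnibranch (Localization.AtPrime p) ↔
      RadPt.IsRadicialAt (Spec.map (CommRingCat.ofHom (algebraMap D T)))
        (⟨p, hp⟩ : PrimeSpectrum D) := by
  obtain ⟨Q, -, hQprime, hQ⟩ := Ideal.exists_ideal_over_prime_of_isIntegral p (⊥ : Ideal T)
    (by rw [← RingHom.ker_eq_comap_bot, (RingHom.injective_iff_ker_eq_bot _).mp hinj]; exact bot_le)
  subst hQ
  let q : PrimeSpectrum T := ⟨Q, hQprime⟩
  obtain ⟨e, he⟩ := Groth.Agent.S4567.key hinj hfrac q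
  constructor
  · intro hGU
    haveI hloc : IsLocalRing (CAlg2.normRed (Localization.AtPrime (Q.comap (algebraMap D T)))) :=
      hGU.1.2
    have hsub : ∀ m₁ m₂ : MaximalSpectrum
        (CAlg2.normRed (Localization.AtPrime (Q.comap (algebraMap D T)))), m₁ = m₂ := by
      intro m₁ m₂
      apply MaximalSpectrum.ext
      rw [IsLocalRing.eq_maximalIdeal m₁.isMaximal, IsLocalRing.eq_maximalIdeal m₂.isMaximal]
    have hfib : ∀ x : PrimeSpectrum T,
        x.asIdeal.comap (algebraMap D T) = Q.comap (algebraMap D T) → x = q := by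
      intro x hx
      have := e.injective (hsub (e ⟨x, hx⟩) (e ⟨q, rfl⟩))
      exact congrArg Subtype.val this
    refine ⟨fun x x' hx hx' => ?_, fun x hx => ?_⟩
    · rw [specMap_apply_eq_iff] at hx hx'
      rw [hfib x hx, hfib x' hx']
    · rw [specMap_apply_eq_iff] at hx
      obtain rfl := hfib x hx
      refine he.mp ?_
      exact hGU.2 (e ⟨q, rfl⟩).asIdeal
  · intro hrad
    have hfib : ∀ x : PrimeSpectrum T,
        x.asIdeal.comap (algebraMap D T) = Q.comap (algebraMap D T) → x = q := by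
      intro x hx
      exact hrad.1 x q ((specMap_apply_eq_iff _ _ _).mpr hx) ((specMap_apply_eq_iff _ _ _).mpr rfl)
    have hsub : ∀ m₁ m₂ : MaximalSpectrum
        (CAlg2.normRed (Localization.AtPrime (Q.comap (algebraMap D T)))), m₁ = m₂ := by
      intro m₁ m₂
      apply e.symm.injective
      apply Subtype.ext
      rw [hfib _ (e.symm m₁).2, hfib _ (e.symm m₂).2]
    have hloc : IsLocalRing (CAlg2.normRed (Localization.AtPrime (Q.comap (algebraMap D T)))) := by
      apply IsLocalRing.of_unique_max_ideal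
      refine ⟨(e ⟨q, rfl⟩).asIdeal, (e ⟨q, rfl⟩).isMaximal, fun I hI => ?_⟩
      exact congrArg MaximalSpectrum.asIdeal (hsub ⟨I, hI⟩ (e ⟨q, rfl⟩))
    refine ⟨⟨inferInstance, hloc⟩, ?_⟩
    intro m' hm'
    have hm'e : m' = (e ⟨q, rfl⟩).asIdeal :=
      congrArg MaximalSpectrum.asIdeal (hsub ⟨m', hm'⟩ (e ⟨q, rfl⟩))
    subst hm'e
    exact he.mpr (hrad.2 q ((specMap_apply_eq_iff _ _ _).mpr rfl))

end Groth.Agent.Lib.Helper69.GURad
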