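import Groth.Agent.S5863
import Mathlib.RingTheory.RingHom.PurelyInseparable

/-!
# Radicial at a point: composition, ring-level form for spectra, passage to quotients (helper69)
-/

set_option autoImplicit false
set_option linter.style.haveILetI false
set_option linter.unusedSectionVars false
set_option backward.isDefEq.respectTransparency.types false
universe u

namespace Groth.Agent.Lib.Helper69.RadComp

open IsLocalRing AlgebraicGeometry CategoryTheory

section fields

variable {F E K : Type*} [Field F] [Field E] [Field K] {f : F →+* E} {g : E →+* K}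

theorem isPurelyInseparable_of_comp_bot {k : F →+* K} (hk : k = g.comp f)
    (h : k.IsPurelyInseparable) : f.IsPurelyInseparable := by
  subst hk
  algebraize [f, g, g.comp f]
  exact IsPurelyInseparable.tower_bot F E K

theorem isPurelyInseparable_of_comp_top {k : F →+* K} (hk : k = g.comp f)
    (h : k.IsPurelyInseparable) : g.IsPurelyInseparable := by
  subst hk
  algebraize [f, g, g.comp f]
  exact IsPurelyInseparable.tower_top F E K

theorem isPurelyInseparable_comp {k : F →+* K} (hk : k = g.comp f)
    (hf : f.IsPurelyInseparable) (hg : g.IsPurelyInseparable) : k.IsPurelyInseparable := by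
  subst hk
  exact RingHom.IsPurelyInseparable.comp hf hg

end fields

/-- radicial at a point for a composite `h ≫ g` with `h` surjective. -/
theorem isRadicialAt_comp_iff {X Z W : Scheme.{u}} (h : X ⟶ Z) (g : Z ⟶ W) [Surjective h] (w : W) :
    RadPt.IsRadicialAt (h ≫ g) w ↔
      RadPt.IsRadicialAt g w ∧ ∀ z : Z, g z = w → RadPt.IsRadicialAt h z := by
  constructor
  · intro H
    refine ⟨⟨fun z z' hz hz' => ?_, fun z hz => ?_⟩, fun z hz => ⟨fun t t' ht ht' => ?_, fun t ht => ?_⟩⟩
    · obtain ⟨t, rfl⟩ := h.surjective z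
      obtain ⟨t', rfl⟩ := h.surjective z'
      rw [H.1 t t' (by rw [Scheme.Hom.comp_apply]; exact hz) (by rw [Scheme.Hom.comp_apply]; exact hz')]
    · obtain ⟨t, rfl⟩ := h.surjective z
      have := H.2 t (by rw [Scheme.Hom.comp_apply]; exact hz)
      exact isPurelyInseparable_of_comp_bot
        (congrArg CommRingCat.Hom.hom (Scheme.residueFieldMap_comp h g t)) this
    · exact H.1 t t' (by rw [Scheme.Hom.comp_apply, ht]; exact hz)
        (by rw [Scheme.Hom.comp_apply, ht']; exact hz)
    · subst ht
      have := H.2 t (by rw [Scheme.Hom.comp_apply]; exact hz)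
      exact isPurelyInseparable_of_comp_top
        (congrArg CommRingCat.Hom.hom (Scheme.residueFieldMap_comp h g t)) this
  · rintro ⟨Hg, Hh⟩
    refine ⟨fun t t' ht ht' => ?_, fun t ht => ?_⟩
    · rw [Scheme.Hom.comp_apply] at ht ht'
      have h1 : h t = h t' := Hg.1 _ _ ht ht'
      exact (Hh (h t) ht).1 t t' rfl h1.symm
    · rw [Scheme.Hom.comp_apply] at ht
      exact isPurelyInseparable_comp
        (congrArg CommRingCat.Hom.hom (Scheme.residueFieldMap_comp h g t))
        (Hg.2 _ ht) ((Hh (h t) ht).2 t rfl)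

/-- ring-level form of "radicial at `p`" for `Spec S → Spec R`. -/
def RadR {R S : Type u} [CommRing R] [CommRing S] (φ : R →+* S) (p : Ideal R) : Prop :=
  ∀ (K : Type u) [Field K] (α β : S →+* K), α.comp φ = β.comp φ → RingHom.ker (α.comp φ) = p → α = β

theorem specMap_closedPoint_asIdeal {S K : Type u} [CommRing S] [Field K] (α : S →+* K) :
    ((Spec.map (CommRingCat.ofHom α)) (IsLocalRing.closedPoint K) : PrimeSpectrum S).asIdeal =
      RingHom.ker α := by
  change Ideal.comap α (IsLocalRing.maximalIdeal K) = RingHom.ker α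
  rw [IsLocalRing.maximalIdeal_eq_bot, RingHom.ker_eq_comap_bot]

theorem isRadicialAt_specMap_iff {R S : Type u} [CommRing R] [CommRing S] (φ : R →+* S)
    (p : PrimeSpectrum R) :
    RadPt.IsRadicialAt (Spec.map (CommRingCat.ofHom φ)) p ↔ RadR φ p.asIdeal := by
  rw [Groth.Agent.S5863.isRadicialAt_iff_radK]
  constructor
  · intro H K _ α β hαβ hker
    have := H K (Spec.map (CommRingCat.ofHom α)) (Spec.map (CommRingCat.ofHom β))
      (by rw [← Spec.map_comp, ← Spec.map_comp, ← CommRingCat.ofHom_comp, ← CommRingCat.ofHom_comp,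
        hαβ])
      (by
        rw [← Spec.map_comp, ← CommRingCat.ofHom_comp]
        apply PrimeSpectrum.ext
        rw [specMap_closedPoint_asIdeal]
        exact hker)
    have h2 := Spec.map_injective this
    exact congrArg CommRingCat.Hom.hom h2
  · intro H K _ g₁ g₂ hg hy
    obtain ⟨a, rfl⟩ : ∃ a : CommRingCat.of S ⟶ CommRingCat.of K, g₁ = Spec.map a :=
      ⟨Spec.preimage g₁, (Spec.map_preimage g₁).symm⟩
    obtain ⟨b, rfl⟩ : ∃ b : CommRingCat.of S ⟶ CommRingCat.of K, g₂ = Spec.map b :=
      ⟨Spec.preimage g₂, (Spec.map_preimage g₂).symm⟩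
    rw [← Spec.map_comp, ← Spec.map_comp] at hg
    have hg' := Spec.map_injective hg
    have h1 : a.hom.comp φ = b.hom.comp φ := congrArg CommRingCat.Hom.hom hg'
    have h2 : RingHom.ker (a.hom.comp φ) = p.asIdeal := by
      rw [← Spec.map_comp] at hy
      have := congrArg PrimeSpectrum.asIdeal hy
      rw [← this]
      exact (specMap_closedPoint_asIdeal (a.hom.comp φ)).symm
    have := H K a.hom b.hom h1 h2
    congr 1
    exact CommRingCat.hom_ext this

section quot

variable {R S : Type u} [CommRing R] [CommRing S] [Algebra R S]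
  (P₀ : Ideal R) (Q₀ : Ideal S) [Q₀.LiesOver P₀]

/-- passage to quotients `R/P₀ → S/Q₀`, when all primes over `p` contain `Q₀`. -/
theorem radR_quotient_iff (p : Ideal R) (p' : Ideal (R ⧸ P₀))
    (hp' : p'.comap (Ideal.Quotient.mk P₀) = p)
    (hQ : ∀ q : Ideal S, q.IsPrime → q.comap (algebraMap R S) = p → Q₀ ≤ q) :
    RadR (algebraMap R S) p ↔ RadR (algebraMap (R ⧸ P₀) (S ⧸ Q₀)) p' := by
  have hsq : ∀ r : R, algebraMap (R ⧸ P₀) (S ⧸ Q₀) (Ideal.Quotient.mk P₀ r) =
      Ideal.Quotient.mk Q₀ (algebraMap R S r) := fun r => rfl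
  constructor
  · intro H K _ α β hαβ hker
    have h1 : (α.comp (Ideal.Quotient.mk Q₀)).comp (algebraMap R S) =
        (β.comp (Ideal.Quotient.mk Q₀)).comp (algebraMap R S) := by
      ext r
      have := congrArg (fun f => f (Ideal.Quotient.mk P₀ r)) hαβ
      simpa [hsq] using this
    have h2 : RingHom.ker ((α.comp (Ideal.Quotient.mk Q₀)).comp (algebraMap R S)) = p := by
      rw [← hp', ← hker]
      ext r
      simp only [RingHom.mem_ker, RingHom.comp_apply, Ideal.mem_comap, hsq]
    have := H K _ _ h1 h2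
    exact RingHom.cancel_right Ideal.Quotient.mk_surjective |>.mp this
  · intro H K _ α β hαβ hker
    have hkα : Q₀ ≤ RingHom.ker α := by
      apply hQ _ (RingHom.ker_isPrime α)
      rw [← hker]; rfl
    have hkβ : Q₀ ≤ RingHom.ker β := by
      apply hQ _ (RingHom.ker_isPrime β)
      rw [← hker, hαβ]; rfl
    let α' : S ⧸ Q₀ →+* K := Ideal.Quotient.lift Q₀ α (fun s hs => hkα hs)
    let β' : S ⧸ Q₀ →+* K := Ideal.Quotient.lift Q₀ β (fun s hs => hkβ hs)
    have h1 : α'.comp (algebraMap (R ⧸ P₀) (S ⧸ Q₀)) = β'.comp (algebraMap (R ⧸ P₀) (S ⧸ Q₀)) := by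
      apply Ideal.Quotient.ringHom_ext
      ext r
      have := congrArg (fun f => f r) hαβ
      simp only [RingHom.comp_apply, hsq, α', β', Ideal.Quotient.lift_mk]
      exact this
    have h2 : RingHom.ker (α'.comp (algebraMap (R ⧸ P₀) (S ⧸ Q₀))) = p' := by
      ext x
      obtain ⟨r, rfl⟩ := Ideal.Quotient.mk_surjective x
      have h3 : Ideal.Quotient.mk P₀ r ∈ p' ↔ r ∈ p := by rw [← hp']; rfl
      rw [h3, ← hker]
      simp only [RingHom.mem_ker, RingHom.comp_apply, hsq, α', Ideal.Quotient.lift_mk]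
    have := H K α' β' h1 h2
    ext s
    have h4 := congrArg (fun f => f (Ideal.Quotient.mk Q₀ s)) this
    simpa [α', β'] using h4

end quot

end Groth.Agent.Lib.Helper69.RadComp
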