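import Groth.Agent.Lib.Helper69.GULoc2
import Groth.Agent.Lib.Helper69.GURad
import Groth.Agent.Lib.Helper69.RadComp
import Mathlib.RingTheory.Polynomial.IsIntegral
import Mathlib.RingTheory.TensorProduct.MvPolynomial
import Mathlib.RingTheory.Polynomial.Quotient

/-!
# Polynomial rings over a ring geometrically unibranch at `p` (EGA IV 6.15.? ring level) (helper69)

`R_p` geometrically unibranch, `𝔓` a prime of `R[T_1..T_n]` over `p`  ⟹  `R[T]_𝔓` geometrically unibranch.
-/

set_option autoImplicit false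
set_option linter.style.haveILetI false
set_option linter.unusedSectionVars false
set_option backward.isDefEq.respectTransparency.types false
universe u

namespace Groth.Agent.Lib.Helper69.GUPoly

open IsLocalRing AlgebraicGeometry CategoryTheory
open Groth.Agent.Lib.Helper69

attribute [local instance] MvPolynomial.algebraMvPolynomial

section IC

theorem isIntegrallyClosed_fin (R : Type u) [CommRing R] [IsDomain R] [IsIntegrallyClosed R] (n : ℕ) :
    IsIntegrallyClosed (MvPolynomial (Fin n) R) := by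
  induction n with
  | zero => exact IsIntegrallyClosed.of_equiv (MvPolynomial.isEmptyAlgEquiv R (Fin 0)).symm.toRingEquiv
  | succ n ih =>
    haveI := ih
    exact IsIntegrallyClosed.of_equiv (MvPolynomial.finSuccEquiv R n).symm.toRingEquiv

theorem isIntegrallyClosed_mvPolynomial (R : Type u) [CommRing R] [IsDomain R] [IsIntegrallyClosed R]
    (σ : Type u) [Finite σ] : IsIntegrallyClosed (MvPolynomial σ R) := by
  obtain ⟨n, ⟨e⟩⟩ := Finite.exists_equiv_fin σ
  haveI := isIntegrallyClosed_fin R n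
  exact IsIntegrallyClosed.of_equiv (MvPolynomial.renameEquiv R e).symm.toRingEquiv

end IC

section domain

variable {D D' : Type u} [CommRing D] [IsDomain D] [CommRing D'] [IsDomain D'] [Algebra D D']
  [Algebra.IsIntegral D D'] [IsIntegrallyClosed D'] (σ : Type u) [Finite σ]

theorem isIntegral_mvPolynomial :
    Algebra.IsIntegral (MvPolynomial σ D) (MvPolynomial σ D') :=
  ⟨fun _ => MvPolynomial.isIntegral_iff_isIntegral_coeff.mpr
    fun _ => Algebra.IsIntegral.isIntegral _⟩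

theorem hfrac_mvPolynomial
    (hfrac : ∀ s : D', ∃ a b : D, b ≠ 0 ∧ algebraMap D D' b * s = algebraMap D D' a)
    (s : MvPolynomial σ D') : ∃ a b : MvPolynomial σ D, b ≠ 0 ∧
      algebraMap (MvPolynomial σ D) (MvPolynomial σ D') b * s =
        algebraMap (MvPolynomial σ D) (MvPolynomial σ D') a := by
  induction s using MvPolynomial.induction_on' with
  | monomial u c =>
    obtain ⟨a, b, hb, hab⟩ := hfrac c
    refine ⟨MvPolynomial.monomial u a, MvPolynomial.C b, ?_, ?_⟩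
    · rwa [Ne, MvPolynomial.C_eq_zero]
    · rw [MvPolynomial.algebraMap_def, MvPolynomial.map_C, MvPolynomial.map_monomial,
        MvPolynomial.C_mul_monomial, hab]
  | add s₁ s₂ h₁ h₂ =>
    obtain ⟨a₁, b₁, hb₁, h1⟩ := h₁
    obtain ⟨a₂, b₂, hb₂, h2⟩ := h₂
    refine ⟨b₂ * a₁ + b₁ * a₂, b₁ * b₂, mul_ne_zero hb₁ hb₂, ?_⟩
    rw [map_mul, map_add, map_mul, map_mul, ← h1, ← h2]
    ring

/-- Step B: the domain case. -/
theorem isGeomUnibranch_mvPolynomial_of_isDomain
    (hinj : Function.Injective (algebraMap D D'))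
    (hfrac : ∀ s : D', ∃ a b : D, b ≠ 0 ∧ algebraMap D D' b * s = algebraMap D D' a)
    (𝔓 : Ideal (MvPolynomial σ D)) [𝔓.IsPrime] (p : Ideal D) [p.IsPrime]
    (hp : 𝔓.comap (MvPolynomial.C : D →+* MvPolynomial σ D) = p)
    (hGU : CAlg2.IsGeomUnibranch (Localization.AtPrime p)) :
    CAlg2.IsGeomUnibranch (Localization.AtPrime 𝔓) := by
  haveI := isIntegrallyClosed_mvPolynomial D' σ
  haveI := isIntegral_mvPolynomial (D := D) (D' := D') σ
  have hinjT : Function.Injective (algebraMap (MvPolynomial σ D) (MvPolynomial σ D')) :=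
    MvPolynomial.map_injective _ hinj
  rw [GURad.isGeomUnibranch_iff_isRadicialAt hinjT (hfrac_mvPolynomial σ hfrac) 𝔓]
  have hrad := (GURad.isGeomUnibranch_iff_isRadicialAt hinj hfrac p).mp hGU
  have hpush := CommRingCat.isPushout_of_isPushout D D' (MvPolynomial σ D) (MvPolynomial σ D')
  have sq := isPullback_SpecMap_of_isPushout _ _ _ _ hpush
  have key := Groth.Agent.S5863.result sq
    ((⟨𝔓, inferInstance⟩ : PrimeSpectrum (MvPolynomial σ D)) : Spec (.of (MvPolynomial σ D)))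
  refine key.mp ?_
  convert hrad using 1
  exact PrimeSpectrum.ext hp

end domain

/-- `R_p` geometrically unibranch, `𝔓` a prime of `R[T_σ]` (`σ` finite) over `p`: `R[T_σ]_𝔓` is
geometrically unibranch. -/
theorem isGeomUnibranch_mvPolynomial (R : Type u) [CommRing R] (σ : Type u) [Finite σ]
    (𝔓 : Ideal (MvPolynomial σ R)) [𝔓.IsPrime] (p : Ideal R) [p.IsPrime]
    (hp : 𝔓.comap (MvPolynomial.C : R →+* MvPolynomial σ R) = p)
    (hGU : CAlg2.IsGeomUnibranch (Localization.AtPrime p)) :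
    CAlg2.IsGeomUnibranch (Localization.AtPrime 𝔓) := by
  obtain ⟨P₀, hP₀min, hP₀p, huniq⟩ := GULoc.exists_minimalPrimes_of_isDomain_red p
    (Localization.AtPrime p) hGU.1.1
  haveI : P₀.IsPrime := hP₀min.1.1
  let D := R ⧸ P₀
  let ρ₀ : R →+* D := Ideal.Quotient.mk P₀
  let ρ : MvPolynomial σ R →+* MvPolynomial σ D := MvPolynomial.map ρ₀
  have hρ : Function.Surjective ρ := MvPolynomial.map_surjective _ Ideal.Quotient.mk_surjective
  have hkerρ : RingHom.ker ρ = Ideal.map (MvPolynomial.C : R →+* MvPolynomial σ R) P₀ := by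
    rw [MvPolynomial.ker_map, Ideal.mk_ker]
  have hker𝔓 : RingHom.ker ρ ≤ 𝔓 := by
    rw [hkerρ, Ideal.map_le_iff_le_comap, hp]
    exact hP₀p
  let 𝔓₁ : Ideal (MvPolynomial σ D) := 𝔓.map ρ
  haveI h𝔓₁prime : 𝔓₁.IsPrime := Ideal.map_isPrime_of_surjective hρ hker𝔓
  have h𝔓₁ : 𝔓₁.comap ρ = 𝔓 := by
    rw [Ideal.comap_map_of_surjective ρ hρ, ← RingHom.ker_eq_comap_bot]
    exact sup_eq_left.mpr hker𝔓
  let p' : Ideal D := p.map ρ₀
  haveI hp'prime : p'.IsPrime := Ideal.map_isPrime_of_surjective Ideal.Quotient.mk_surjective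
    (by rw [Ideal.mk_ker]; exact hP₀p)
  have hp' : p'.comap ρ₀ = p := by
    rw [Ideal.comap_map_of_surjective _ Ideal.Quotient.mk_surjective, ← RingHom.ker_eq_comap_bot,
      Ideal.mk_ker]
    exact sup_eq_left.mpr hP₀p
  have hC : 𝔓₁.comap (MvPolynomial.C : D →+* MvPolynomial σ D) = p' := by
    apply Ideal.comap_injective_of_surjective ρ₀ Ideal.Quotient.mk_surjective
    rw [hp', ← hp, ← h𝔓₁, Ideal.comap_comap, Ideal.comap_comap]
    congr 1
    ext r
    simp [ρ]
  have huniqT : ∀ 𝔔 ∈ minimalPrimes (MvPolynomial σ R), 𝔔 ≤ 𝔓 → 𝔔 = RingHom.ker ρ := by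
    intro 𝔔 h𝔔 h𝔔le
    haveI := h𝔔.1.1
    haveI : (𝔔.comap (MvPolynomial.C : R →+* MvPolynomial σ R)).IsPrime := Ideal.comap_isPrime _ _
    obtain ⟨P₂, hP₂, hP₂le⟩ := Ideal.exists_minimalPrimes_le (I := (⊥ : Ideal R))
      (J := 𝔔.comap (MvPolynomial.C : R →+* MvPolynomial σ R)) bot_le
    have h1 : P₂ = P₀ := huniq P₂ hP₂ (hP₂le.trans (hp ▸ Ideal.comap_mono h𝔔le))
    have h2 : RingHom.ker ρ ≤ 𝔔 := by
      rw [hkerρ, Ideal.map_le_iff_le_comap, ← h1]
      exact hP₂le
    exact le_antisymm (h𝔔.2 ⟨RingHom.ker_isPrime ρ, bot_le⟩ h2) h2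
  rw [GULoc2.isGeomUnibranch_iff_of_surjective_loc 𝔓 (Localization.AtPrime 𝔓) ρ hρ 𝔓₁ h𝔓₁ huniqT]
  rw [GULoc.isGeomUnibranch_iff_quotient p (Localization.AtPrime p) P₀ p' hp' huniq] at hGU
  exact isGeomUnibranch_mvPolynomial_of_isDomain (D := D)
    (D' := integralClosure D (FractionRing D)) σ Groth.Agent.S4567.hinjS
    Groth.Agent.S4567.hfracS 𝔓₁ p' hC hGU

end Groth.Agent.Lib.Helper69.GUPoly
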