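import Groth.Agent.Lib.Helper7.GURed

/-!
# Transport of "geometrically unibranch" along surjections with nil kernel and ring isomorphisms (helper69)

* `GUTransport.isGeomUnibranch_iff_of_surjective`: `A` local, `D` a local domain, `π : A → D` surjective with
  kernel contained in the nilradical: `A` is geometrically unibranch iff `D` is.
* `GUTransport.isGeomUnibranch_of_ringEquiv`: invariance under ring isomorphisms.
-/

set_option autoImplicit false
set_option linter.style.haveILetI false
universe u

namespace Groth.Agent.Lib.Helper69.GUTransport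

open IsLocalRing Groth.Agent.Lib.Helper7 Groth.Agent.Lib.Helper7.NormRed

section Model

variable {A : Type u} [CommRing A] {D : Type u} [CommRing D] [IsDomain D]
  (π : A →+* D) (hπ : Function.Surjective π) (hker : RingHom.ker π ≤ nilradical A)

include hker in
theorem nilradical_eq_ker : nilradical A = RingHom.ker π := by
  apply le_antisymm
  · intro a ha
    rw [RingHom.mem_ker]
    have h1 : IsNilpotent (π a) := (mem_nilradical.mp ha).map π
    exact h1.eq_zero
  · exact hker

/-- `A_red ≃ D`. -/
noncomputable def redEquiv : CAlg2.red A ≃+* D :=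
  (Ideal.quotEquivOfEq (nilradical_eq_ker π hker)).trans (RingHom.quotientKerEquivOfSurjective hπ)

@[simp] theorem redEquiv_mk (a : A) : redEquiv π hπ hker (Ideal.Quotient.mk _ a) = π a := rfl

include hπ hker in
theorem isDomain_red : IsDomain (CAlg2.red A) := (redEquiv π hπ hker).toMulEquiv.isDomain D

variable (L : Type u) [Field L] [Algebra D L] [IsFractionRing D L]

noncomputable def fracEquiv : FractionRing (CAlg2.red A) ≃+* L :=
  IsFractionRing.ringEquivOfRingEquiv (redEquiv π hπ hker)

theorem fracEquiv_algebraMap (x : CAlg2.red A) :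
    fracEquiv π hπ hker L (algebraMap _ _ x) = algebraMap D L (redEquiv π hπ hker x) :=
  IsFractionRing.ringEquivOfRingEquiv_algebraMap _ _

theorem isIntegral_fracEquiv (z : FractionRing (CAlg2.red A)) (hz : IsIntegral (CAlg2.red A) z) :
    IsIntegral D (fracEquiv π hπ hker L z) := by
  refine IsIntegral.map_of_comp_eq (redEquiv π hπ hker).toRingHom (fracEquiv π hπ hker L).toRingHom ?_ hz
  ext x
  exact (fracEquiv_algebraMap π hπ hker L x).symm

theorem isIntegral_fracEquiv_symm (w : L) (hw : IsIntegral D w) :
    IsIntegral (CAlg2.red A) ((fracEquiv π hπ hker L).symm w) := by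
  refine IsIntegral.map_of_comp_eq (redEquiv π hπ hker).symm.toRingHom
    (fracEquiv π hπ hker L).symm.toRingHom ?_ hw
  ext a
  change algebraMap _ _ ((redEquiv π hπ hker).symm a) = (fracEquiv π hπ hker L).symm (algebraMap D L a)
  rw [RingEquiv.eq_symm_apply, fracEquiv_algebraMap, RingEquiv.apply_symm_apply]

/-- `normRed A ≃ integralClosure D L`. -/
noncomputable def normRedEquiv : CAlg2.normRed A ≃+* integralClosure D L where
  toFun z := ⟨fracEquiv π hπ hker L z.1, isIntegral_fracEquiv π hπ hker L z.1 z.2⟩
  invFun w := ⟨(fracEquiv π hπ hker L).symm w.1, isIntegral_fracEquiv_symm π hπ hker L w.1 w.2⟩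
  left_inv _ := Subtype.ext ((fracEquiv π hπ hker L).symm_apply_apply _)
  right_inv _ := Subtype.ext ((fracEquiv π hπ hker L).apply_symm_apply _)
  map_mul' _ _ := Subtype.ext (map_mul (fracEquiv π hπ hker L) _ _)
  map_add' _ _ := Subtype.ext (map_add (fracEquiv π hπ hker L) _ _)

theorem normRedEquiv_toNormRed (a : A) :
    normRedEquiv π hπ hker L (toNormRed A a) = algebraMap D (integralClosure D L) (π a) := by
  apply Subtype.ext
  change fracEquiv π hπ hker L (algebraMap _ _ (Ideal.Quotient.mk _ a)) = algebraMap D L (π a)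
  rw [fracEquiv_algebraMap, redEquiv_mk]

variable [IsLocalRing A]

include hπ hker in
/-- Recognising geometrically unibranch local rings from a model of the normalization. -/
theorem isGeomUnibranch_of_model [IsLocalRing (integralClosure D L)] (p : ℕ)
    [ExpChar (integralClosure D L ⧸ maximalIdeal (integralClosure D L)) p]
    (hpow : ∀ t : integralClosure D L, ∃ (n : ℕ) (a : A),
      t ^ p ^ n - algebraMap D (integralClosure D L) (π a) ∈ maximalIdeal (integralClosure D L)) :
    CAlg2.IsGeomUnibranch A := by
  let φ := normRedEquiv π hπ hker L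
  haveI hloc : IsLocalRing (CAlg2.normRed A) := φ.symm.isLocalRing
  refine ⟨⟨isDomain_red π hπ hker, hloc⟩, ?_⟩
  intro m' hm' x
  have hm'eq : m' = (maximalIdeal (integralClosure D L)).comap φ.toRingHom := by
    rw [IsLocalRing.eq_maximalIdeal hm']
    symm
    apply IsLocalRing.eq_maximalIdeal
    exact Ideal.comap_isMaximal_of_surjective _ φ.surjective
  let ι : CAlg2.normRed A ⧸ m' →+*
      integralClosure D L ⧸ maximalIdeal (integralClosure D L) :=
    Ideal.quotientMap _ φ.toRingHom (le_of_eq hm'eq)
  have hι : Function.Injective ι :=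
    Ideal.quotientMap_injective' (le_of_eq hm'eq.symm)
  haveI : ExpChar (CAlg2.normRed A ⧸ m') p := ι.expChar hι p
  rw [ringExpChar.eq (CAlg2.normRed A ⧸ m') p]
  obtain ⟨z, rfl⟩ := Ideal.Quotient.mk_surjective x
  obtain ⟨n, d, hnd⟩ := hpow (φ z)
  refine ⟨n, d, ?_⟩
  change _ = Ideal.Quotient.mk m' z ^ p ^ n
  change Ideal.Quotient.mk m' (toNormRed A d) = _
  rw [← map_pow, eq_comm, Ideal.Quotient.eq, hm'eq]
  change φ (z ^ p ^ n - toNormRed A d) ∈ maximalIdeal (integralClosure D L)
  rw [map_sub, map_pow, normRedEquiv_toNormRed]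
  exact hnd

include hπ hker in
theorem isLocalRing_of_isGeomUnibranch (hA : CAlg2.IsGeomUnibranch A) :
    IsLocalRing (integralClosure D L) :=
  haveI : IsLocalRing (CAlg2.normRed A) := hA.1.2
  (normRedEquiv π hπ hker L).isLocalRing

include hπ hker in
theorem exists_pow_sub_mem_of_isGeomUnibranch (hA : CAlg2.IsGeomUnibranch A)
    [IsLocalRing (integralClosure D L)] (p : ℕ)
    [ExpChar (integralClosure D L ⧸ maximalIdeal (integralClosure D L)) p]
    (t : integralClosure D L) : ∃ (n : ℕ) (a : A),
      t ^ p ^ n - algebraMap D (integralClosure D L) (π a) ∈ maximalIdeal (integralClosure D L) := by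
  let φ := normRedEquiv π hπ hker L
  haveI hloc : IsLocalRing (CAlg2.normRed A) := hA.1.2
  set m' := (maximalIdeal (integralClosure D L)).comap φ.toRingHom with hm'
  haveI : m'.IsMaximal := Ideal.comap_isMaximal_of_surjective _ φ.surjective
  let ι : CAlg2.normRed A ⧸ m' →+*
      integralClosure D L ⧸ maximalIdeal (integralClosure D L) :=
    Ideal.quotientMap _ φ.toRingHom le_rfl
  have hι : Function.Injective ι := Ideal.quotientMap_injective' le_rfl
  haveI : ExpChar (CAlg2.normRed A ⧸ m') p := ι.expChar hι p
  obtain ⟨n, hn⟩ := hA.2 m' (Ideal.Quotient.mk m' (φ.symm t))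
  rw [ringExpChar.eq (CAlg2.normRed A ⧸ m') p] at hn
  obtain ⟨d, hd⟩ := hn
  refine ⟨n, d, ?_⟩
  have h1 : Ideal.Quotient.mk m' (toNormRed A d) = Ideal.Quotient.mk m' (φ.symm t) ^ p ^ n := hd
  rw [← map_pow, Ideal.Quotient.eq] at h1
  have h2 : φ (toNormRed A d - φ.symm t ^ p ^ n) ∈ maximalIdeal (integralClosure D L) := h1
  rw [map_sub, map_pow, RingEquiv.apply_symm_apply, normRedEquiv_toNormRed] at h2
  have := (maximalIdeal (integralClosure D L)).neg_mem h2
  rwa [neg_sub] at this

end Model

section Main

variable {A : Type u} [CommRing A] [IsLocalRing A] {D : Type u} [CommRing D] [IsDomain D] [IsLocalRing D]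
  (π : A →+* D) (hπ : Function.Surjective π) (hker : RingHom.ker π ≤ nilradical A)

include hπ hker in
/-- `A` local, `D` a local domain, `π : A → D` surjective with nil kernel: `A` is geometrically unibranch
iff `D` is. -/
theorem isGeomUnibranch_iff_of_surjective :
    CAlg2.IsGeomUnibranch A ↔ CAlg2.IsGeomUnibranch D := by
  constructor
  · intro hA
    haveI := isLocalRing_of_isGeomUnibranch π hπ hker (FractionRing D) hA
    refine GUModel.isGeomUnibranch_of_model D (FractionRing D)
      (ringExpChar (integralClosure D (FractionRing D) ⧸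
        maximalIdeal (integralClosure D (FractionRing D)))) ?_
    intro t
    obtain ⟨n, a, h⟩ := exists_pow_sub_mem_of_isGeomUnibranch π hπ hker (FractionRing D) hA
      (ringExpChar (integralClosure D (FractionRing D) ⧸
        maximalIdeal (integralClosure D (FractionRing D)))) t
    exact ⟨n, π a, h⟩
  · intro hD
    haveI := GUModel.isLocalRing_of_isGeomUnibranch D (FractionRing D) hD
    refine isGeomUnibranch_of_model π hπ hker (FractionRing D)
      (ringExpChar (integralClosure D (FractionRing D) ⧸
        maximalIdeal (integralClosure D (FractionRing D)))) ?_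
    intro t
    obtain ⟨n, d, h⟩ := GUModel.exists_pow_sub_mem_of_isGeomUnibranch D (FractionRing D) hD
      (ringExpChar (integralClosure D (FractionRing D) ⧸
        maximalIdeal (integralClosure D (FractionRing D)))) t
    obtain ⟨a, rfl⟩ := hπ d
    exact ⟨n, a, h⟩

end Main

section Equiv

variable {A A' : Type u} [CommRing A] [IsLocalRing A] [CommRing A'] [IsLocalRing A']

theorem isGeomUnibranch_of_ringEquiv (e : A ≃+* A') (hA : CAlg2.IsGeomUnibranch A) :
    CAlg2.IsGeomUnibranch A' := by
  haveI : IsDomain (CAlg2.red A) := hA.1.1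
  haveI : IsLocalRing (CAlg2.red A) := GURed.isLocalRing_red A
  have h1 : CAlg2.IsGeomUnibranch (CAlg2.red A) :=
    (isGeomUnibranch_iff_of_surjective (Ideal.Quotient.mk (nilradical A))
      Ideal.Quotient.mk_surjective (by rw [Ideal.mk_ker])).mp hA
  refine (isGeomUnibranch_iff_of_surjective
    ((Ideal.Quotient.mk (nilradical A)).comp e.symm.toRingHom)
    (Ideal.Quotient.mk_surjective.comp e.symm.surjective) ?_).mpr h1
  intro a ha
  rw [RingHom.mem_ker, RingHom.comp_apply, Ideal.Quotient.eq_zero_iff_mem, mem_nilradical] at ha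
  rw [mem_nilradical]
  have := ha.map e.toRingHom
  simpa using this

theorem isGeomUnibranch_iff_of_ringEquiv (e : A ≃+* A') :
    CAlg2.IsGeomUnibranch A ↔ CAlg2.IsGeomUnibranch A' :=
  ⟨isGeomUnibranch_of_ringEquiv e, isGeomUnibranch_of_ringEquiv e.symm⟩

end Equiv

end Groth.Agent.Lib.Helper69.GUTransport
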