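import Mathlib
import Groth.Prelude.Def_HTop2

/-!
# Ring-level criteria for `FlatMor.IsUnivHomeo (Spec.map φ)` and `HTop.ResidueFieldsIso (Spec.map φ)`
-/

open AlgebraicGeometry CategoryTheory
universe u

namespace Groth.Agent.Lib.Helper69.SpecResidue

section bridge

variable {R S : CommRingCat.{u}} (f : R ⟶ S) (y : Spec S)

set_option backward.isDefEq.respectTransparency.types false in
/-- ring-level description of the residue field map of `Spec.map f` -/
theorem residueFieldMap_SpecMap :
    (Scheme.Spec.residueFieldIso R ((Spec.map f) y)).inv ≫ (Spec.map f).residueFieldMap y =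
    CommRingCat.ofHom (Ideal.ResidueField.map ((Spec.map f) y).asIdeal y.asIdeal f.hom rfl) ≫
      (Scheme.Spec.residueFieldIso S y).inv := by
  apply CommRingCat.hom_ext
  apply Ideal.ResidueField.ringHom_ext
  have h3 := Scheme.Γevaluation_naturality (Spec.map f) y
  have h4 := Scheme.ΓSpecIso_inv_naturality f
  have h5 : CommRingCat.ofHom (algebraMap R ((Spec.map f) y).asIdeal.ResidueField) ≫
      CommRingCat.ofHom (Ideal.ResidueField.map ((Spec.map f) y).asIdeal y.asIdeal f.hom rfl) =
      f ≫ CommRingCat.ofHom (algebraMap S y.asIdeal.ResidueField) := by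
    apply CommRingCat.hom_ext
    ext a
    exact Ideal.ResidueField.map_algebraMap _ _ f.hom rfl a
  have key : CommRingCat.ofHom (algebraMap R ((Spec.map f) y).asIdeal.ResidueField) ≫
      ((Scheme.Spec.residueFieldIso R ((Spec.map f) y)).inv ≫
      (Spec.map f).residueFieldMap y) =
      CommRingCat.ofHom (algebraMap R ((Spec.map f) y).asIdeal.ResidueField) ≫
      (CommRingCat.ofHom (Ideal.ResidueField.map ((Spec.map f) y).asIdeal y.asIdeal f.hom rfl) ≫
      (Scheme.Spec.residueFieldIso S y).inv) := by
    calc _ = (Scheme.ΓSpecIso R).inv ≫ ((Spec R).Γevaluation ((Spec.map f) y) ≫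
          (Spec.map f).residueFieldMap y) := by
            rw [Scheme.Spec.algebraMap_residueFieldIso_inv_assoc]
            rfl
      _ = (Scheme.ΓSpecIso R).inv ≫ ((Spec.map f).appTop ≫ (Spec S).Γevaluation y) := by rw [h3]
      _ = f ≫ ((Scheme.ΓSpecIso S).inv ≫ (Spec S).Γevaluation y) := by
            rw [← Category.assoc, ← h4, Category.assoc]
      _ = f ≫ (CommRingCat.ofHom (algebraMap S y.asIdeal.ResidueField) ≫
          (Scheme.Spec.residueFieldIso S y).inv) := by
            rw [Scheme.Spec.algebraMap_residueFieldIso_inv]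
            rfl
      _ = _ := by rw [← Category.assoc, ← h5, Category.assoc]
  exact congrArg CommRingCat.Hom.hom key

set_option backward.isDefEq.respectTransparency.types false in
theorem isIso_residueFieldMap_SpecMap_iff :
    IsIso ((Spec.map f).residueFieldMap y) ↔
      Function.Bijective (Ideal.ResidueField.map ((Spec.map f) y).asIdeal y.asIdeal f.hom rfl) := by
  have h := residueFieldMap_SpecMap f y
  set m := CommRingCat.ofHom
    (Ideal.ResidueField.map ((Spec.map f) y).asIdeal y.asIdeal f.hom rfl) with hm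
  constructor
  · intro hiso
    have h1 : m = (Scheme.Spec.residueFieldIso R ((Spec.map f) y)).inv ≫
        (Spec.map f).residueFieldMap y ≫ (Scheme.Spec.residueFieldIso S y).hom := by
      rw [← Category.assoc, h, Category.assoc, Iso.inv_hom_id, Category.comp_id]
    have h2 : IsIso m := by rw [h1]; infer_instance
    exact ConcreteCategory.bijective_of_isIso m
  · intro hbij
    have h2 : IsIso m := (ConcreteCategory.isIso_iff_bijective m).mpr hbij
    have h1 : (Spec.map f).residueFieldMap y =
        (Scheme.Spec.residueFieldIso R ((Spec.map f) y)).hom ≫ m ≫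
          (Scheme.Spec.residueFieldIso S y).inv := by
      rw [← h, ← Category.assoc, Iso.hom_inv_id, Category.id_comp]
    rw [h1]; infer_instance

end bridge

section rings

variable {A B : Type u} [CommRing A] [CommRing B] (φ : A →+* B)

theorem residueFieldsIso_SpecMap_iff :
    HTop.ResidueFieldsIso (Spec.map (CommRingCat.ofHom φ)) ↔
      ∀ Q : PrimeSpectrum B, Function.Bijective
        (Ideal.ResidueField.map (PrimeSpectrum.comap φ Q).asIdeal Q.asIdeal φ rfl) := by
  constructor
  · intro h Q
    exact (isIso_residueFieldMap_SpecMap_iff (CommRingCat.ofHom φ) Q).mp (h Q)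
  · intro h Q
    exact (isIso_residueFieldMap_SpecMap_iff (CommRingCat.ofHom φ) Q).mpr (h Q)

/-- (after helper25) universal homeomorphism = universally closed + universally injective +
surjective -/
theorem isUnivHomeo_iff {X Y : Scheme.{u}} (f : X ⟶ Y) :
    FlatMor.IsUnivHomeo f ↔ UniversallyClosed f ∧ UniversallyInjective f ∧ Surjective f := by
  constructor
  · intro h
    refine ⟨⟨fun X' Y' i₁ i₂ f' hf => (h i₁ i₂ f' hf).isClosedMap⟩,
      ⟨fun X' Y' i₁ i₂ f' hf => (h i₁ i₂ f' hf).injective⟩, ⟨?_⟩⟩
    exact (h (𝟙 _) (𝟙 _) f .of_id_snd).surjective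
  · rintro ⟨h1, h2, h3⟩ X' Y' i₁ i₂ f' hf
    have hs : Surjective f' := MorphismProperty.of_isPullback (P := @Surjective) hf.flip h3
    change IsHomeomorph f'
    rw [isHomeomorph_iff_continuous_isClosedMap_bijective]
    exact ⟨f'.continuous, h1.universally_isClosedMap i₁ i₂ f' hf,
      h2.universally_injective i₁ i₂ f' hf, hs.surj⟩

/-- Ring-level sufficient condition for `Spec.map φ` to be a universal homeomorphism. -/
theorem isUnivHomeo_SpecMap_of (hint : φ.IsIntegral)
    (hsurj : Function.Surjective (PrimeSpectrum.comap φ))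
    (hpts : ∀ (K : Type u) [Field K] (χ₁ χ₂ : B →+* K), χ₁.comp φ = χ₂.comp φ → χ₁ = χ₂) :
    FlatMor.IsUnivHomeo (Spec.map (CommRingCat.ofHom φ)) := by
  rw [isUnivHomeo_iff]
  have h1 : IsIntegralHom (Spec.map (CommRingCat.ofHom φ)) := IsIntegralHom.SpecMap_iff.mpr hint
  refine ⟨inferInstance, ?_, ⟨hsurj⟩⟩
  apply ((tfae_universallyInjective (Spec.map (CommRingCat.ofHom φ))).out 0 1).mpr
  intro K _ g₁ g₂ hg
  obtain ⟨χ₁, rfl⟩ := Spec.map_surjective g₁
  obtain ⟨χ₂, rfl⟩ := Spec.map_surjective g₂
  simp only [← Spec.map_comp] at hg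
  have h2 := Spec.map_injective hg
  have h3 : χ₁.hom.comp φ = χ₂.hom.comp φ := congrArg CommRingCat.Hom.hom h2
  have h4 := hpts K χ₁.hom χ₂.hom h3
  congr 1
  exact CommRingCat.hom_ext h4

/-- Ring-level consequences of `Spec.map φ` being a universal homeomorphism. -/
theorem of_isUnivHomeo_SpecMap (h : FlatMor.IsUnivHomeo (Spec.map (CommRingCat.ofHom φ))) :
    φ.IsIntegral ∧ Function.Bijective (PrimeSpectrum.comap φ) := by
  rw [isUnivHomeo_iff] at h
  obtain ⟨h1, h2, h3⟩ := h
  have h4 : IsIntegralHom (Spec.map (CommRingCat.ofHom φ)) :=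
    IsIntegralHom.iff_universallyClosed_and_isAffineHom.mpr ⟨h1, inferInstance⟩
  refine ⟨IsIntegralHom.SpecMap_iff.mp h4, ?_, ?_⟩
  · exact (Spec.map (CommRingCat.ofHom φ)).injective
  · exact h3.surj

end rings

end Groth.Agent.Lib.Helper69.SpecResidue
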