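import Groth.Agent.S5863
import Mathlib.AlgebraicGeometry.Morphisms.UniversallyOpen
import Mathlib.AlgebraicGeometry.Morphisms.Preimmersion
import Mathlib.AlgebraicGeometry.Properties

/-!
# Pointwise birationality and flat base change (EGA IV 6.15.4-type statement)
-/

set_option autoImplicit false
set_option linter.style.haveILetI false
set_option backward.isDefEq.respectTransparency.types false
universe u
open CategoryTheory CategoryTheory.Limits AlgebraicGeometry

namespace Groth.Agent.Lib.Helper69.BiratBC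

open Groth.Agent.S5863

theorem mem_genericPoints_iff {α : Type*} [TopologicalSpace α] [T0Space α] [QuasiSober α] (x : α) :
    x ∈ genericPoints α ↔ ∀ x' : α, x' ⤳ x → x' = x := by
  constructor
  · intro hx x' hx'
    have hirr : IsIrreducible (closure {x'}) := isIrreducible_singleton.closure
    have hle : closure {x} ⊆ closure {x'} :=
      closure_minimal (Set.singleton_subset_iff.2 hx'.mem_closure) isClosed_closure
    have hge : closure {x'} ⊆ closure {x} := hx.2 hirr hle
    have : Inseparable x' x := inseparable_iff_closure_eq.2 (hge.antisymm hle)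
    exact this.eq
  · intro h
    have hirr : IsIrreducible (closure ({x} : Set α)) := isIrreducible_singleton.closure
    obtain ⟨Z, hZ, hxZ⟩ := exists_mem_irreducibleComponents_subset_of_isIrreducible _ hirr
    have hZc : IsClosed Z := isClosed_of_mem_irreducibleComponents Z hZ
    obtain ⟨z, hz⟩ := QuasiSober.sober hZ.1 hZc
    have hzx : z ⤳ x := by
      rw [specializes_iff_mem_closure, hz.def]
      exact hxZ (subset_closure rfl)
    have := h z hzx
    subst this
    show closure {z} ∈ irreducibleComponents α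
    rw [hz.def]
    exact hZ

section pts

variable {X Y : Scheme.{u}}

/-- `f` is "birational at `y`": exactly one point over `y`, with trivial residue extension. -/
def BirAt (f : X ⟶ Y) (y : Y) : Prop :=
  (∃ x : X, f x = y) ∧ (∀ x x' : X, f x = y → f x' = y → x = x') ∧
    ∀ x : X, f x = y → Function.Bijective (f.residueFieldMap x).hom

/-- `f` is bijective on field-valued points lying over `y`. -/
def IsoK (f : X ⟶ Y) (y : Y) : Prop :=
  ∀ (K : Type u) [Field K] (h : Spec (.of K) ⟶ Y), h (IsLocalRing.closedPoint K) = y →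
    ∃! g : Spec (.of K) ⟶ X, g ≫ f = h

theorem exists_factor_fromSpecResidueField {K : Type u} [Field K] (h : Spec (.of K) ⟶ Y) (y : Y)
    (hy : h (IsLocalRing.closedPoint K) = y) :
    ∃ h₀ : Spec (.of K) ⟶ Spec (Y.residueField y), h₀ ≫ Y.fromSpecResidueField y = h := by
  subst hy
  exact ⟨Spec.map (Y.descResidueField (Scheme.stalkClosedPointTo h)),
    Scheme.descResidueField_stalkClosedPointTo_fromSpecResidueField K Y h⟩

theorem isoK_of_birAt (f : X ⟶ Y) (y : Y) (hb : BirAt f y) : IsoK f y := by
  obtain ⟨⟨x₀, hx₀⟩, huniq, hbij⟩ := hb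
  have hrad : RadPt.IsRadicialAt f y := by
    refine ⟨huniq, fun x hx => ?_⟩
    algebraize [(f.residueFieldMap x).hom]
    show IsPurelyInseparable (Y.residueField (f x)) (X.residueField x)
    rw [isPurelyInseparable_iff]
    intro z
    obtain ⟨a, rfl⟩ := (hbij x hx).2 z
    exact ⟨isIntegral_algebraMap, fun _ => ⟨a, rfl⟩⟩
  have hradK := radK_of_isRadicialAt f y hrad
  intro K _ h hy
  subst hx₀
  obtain ⟨h₀, hh₀⟩ := exists_factor_fromSpecResidueField h (f x₀) hy
  haveI : IsIso (f.residueFieldMap x₀) :=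
    (ConcreteCategory.isIso_iff_bijective _).mpr (hbij x₀ rfl)
  let s : Spec (Y.residueField (f x₀)) ⟶ X :=
    Spec.map (inv (f.residueFieldMap x₀)) ≫ X.fromSpecResidueField x₀
  have hs : s ≫ f = Y.fromSpecResidueField (f x₀) := by
    simp only [s, Category.assoc]
    rw [← f.SpecMap_residueFieldMap_fromSpecResidueField x₀, ← Spec.map_comp_assoc,
      IsIso.hom_inv_id, Spec.map_id, Category.id_comp]
  refine ⟨h₀ ≫ s, by show (h₀ ≫ s) ≫ f = h; rw [Category.assoc, hs, hh₀], fun g' hg' => ?_⟩
  apply hradK K g' (h₀ ≫ s)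
  · rw [hg', Category.assoc, hs, hh₀]
  · rw [hg', hy]

set_option backward.isDefEq.respectTransparency.types false in
theorem birAt_of_isoK (f : X ⟶ Y) (y : Y) (hK : IsoK f y) : BirAt f y := by
  have hradK : RadK f y := by
    intro K _ g₁ g₂ hg hy
    obtain ⟨g, -, hguniq⟩ := hK K (g₁ ≫ f) hy
    rw [hguniq g₁ rfl, hguniq g₂ hg.symm]
  have hrad := isRadicialAt_of_radK f y hradK
  refine ⟨?_, hrad.1, fun x hx => ?_⟩
  · obtain ⟨g, hg, -⟩ := hK (Y.residueField y) (Y.fromSpecResidueField y)
      (Scheme.fromSpecResidueField_apply _ _)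
    refine ⟨g (IsLocalRing.closedPoint _), ?_⟩
    rw [← Scheme.Hom.comp_apply, hg]
    exact Scheme.fromSpecResidueField_apply _ _
  · subst hx
    refine ⟨(f.residueFieldMap x).hom.injective, ?_⟩
    obtain ⟨g, hg, -⟩ := hK (Y.residueField (f x)) (Y.fromSpecResidueField (f x))
      (Scheme.fromSpecResidueField_apply _ _)
    -- the canonical point of `x` factors through `g`
    have h1 : X.fromSpecResidueField x = Spec.map (f.residueFieldMap x) ≫ g := by
      apply hradK (X.residueField x)
      · rw [Category.assoc, hg, f.SpecMap_residueFieldMap_fromSpecResidueField x]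
      · rw [Scheme.Hom.comp_apply]
        exact congrArg f (Scheme.fromSpecResidueField_apply _ _)
    -- decompose `g`
    obtain ⟨x₁, ψ, h2⟩ : ∃ (x₁ : X) (ψ : X.residueField x₁ ⟶ Y.residueField (f x)),
        Spec.map ψ ≫ X.fromSpecResidueField x₁ = g :=
      ⟨_, _, Scheme.descResidueField_stalkClosedPointTo_fromSpecResidueField
        (Y.residueField (f x)) X g⟩
    have h3 : (X.SpecToEquivOfField (X.residueField x)).symm ⟨x, 𝟙 _⟩ =
        (X.SpecToEquivOfField (X.residueField x)).symm ⟨x₁, ψ ≫ f.residueFieldMap x⟩ := by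
      simp only [Scheme.SpecToEquivOfField_symm_apply]
      rw [Spec.map_comp, Category.assoc, h2, ← h1]
      rw [Spec.map_id]
      exact Category.id_comp (X.fromSpecResidueField x)
    have h4 := (X.SpecToEquivOfField (X.residueField x)).symm.injective h3
    obtain ⟨e, he⟩ := Scheme.SpecToEquivOfField_eq_iff.1 h4
    intro z
    refine ⟨ψ.hom ((X.residueFieldCongr e).hom.hom z), ?_⟩
    have := congrArg (fun k => k.hom z) he
    simp only [CommRingCat.hom_comp, RingHom.comp_apply] at this
    exact this.symm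

theorem isoK_baseChange {X' Y' : Scheme.{u}} {f : X ⟶ Y} {g : Y' ⟶ Y} {f' : X' ⟶ Y'}
    {g' : X' ⟶ X} (sq : IsPullback g' f' f g) (y' : Y') (hK : IsoK f (g y')) : IsoK f' y' := by
  intro K _ h hy
  obtain ⟨G, hG, hGuniq⟩ := hK K (h ≫ g) (by rw [Scheme.Hom.comp_apply, hy])
  refine ⟨sq.lift G h hG, sq.lift_snd _ _ _, fun G' hG' => ?_⟩
  apply sq.hom_ext
  · rw [sq.lift_fst]
    apply hGuniq
    rw [Category.assoc, sq.w, ← Category.assoc, hG']
  · rw [sq.lift_snd, hG']

end pts

theorem map_mem_genericPoints_of_flat {Y' Y : Scheme.{u}} (g : Y' ⟶ Y) [Flat g] {y' : Y'}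
    (hy' : y' ∈ genericPoints Y') : g y' ∈ genericPoints Y := by
  rw [mem_genericPoints_iff] at hy' ⊢
  intro η hη
  obtain ⟨η', hη', rfl⟩ := Flat.generalizingMap g hη
  rw [hy' η' hη']

end Groth.Agent.Lib.Helper69.BiratBC
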