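import Groth.Agent.Lib.Helper69.GUBirat
import Groth.Agent.Lib.Helper69.BiratBC
import Mathlib.AlgebraicGeometry.Morphisms.Integral

/-!
# EGA IV 6.15.5 for schemes (helper69)

`f : X ⟶ Y` integral and birational (`RadPt.IsBirational`), `y : Y`: `O_{Y,y}` is geometrically unibranch iff
`f` is radicial at `y` and `O_{X,x}` is geometrically unibranch for the points `x` over `y`.
-/

set_option autoImplicit false
set_option linter.style.haveILetI false
set_option linter.unusedSectionVars false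
set_option backward.isDefEq.respectTransparency.types false
universe u

namespace Groth.Agent.Lib.Helper69.GUBiratSch

open IsLocalRing AlgebraicGeometry CategoryTheory CategoryTheory.Limits
open Groth.Agent.Lib.Helper69 Groth.Agent.Lib.Helper69.BiratBC Groth.Agent.Lib.Helper69.GUBirat
open Groth.Agent.Lib.Helper7.SpecResidue

/-- generic points of a scheme in an affine chart are the minimal primes. -/
theorem mem_genericPoints_iff_of_isOpenImmersion {Y : Scheme.{u}} {R : CommRingCat.{u}}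
    (j : Spec R ⟶ Y) [IsOpenImmersion j] (P : Spec R) :
    j P ∈ genericPoints Y ↔ (P : PrimeSpectrum R).asIdeal ∈ minimalPrimes R := by
  rw [mem_genericPoints_iff]
  constructor
  · intro H
    refine ⟨⟨(P : PrimeSpectrum R).isPrime, bot_le⟩, fun Q hQ hQP => ?_⟩
    let Q' : PrimeSpectrum R := ⟨Q, hQ.1⟩
    have h1 : Q' ⤳ (P : PrimeSpectrum R) := (PrimeSpectrum.le_iff_specializes Q' P).mp hQP
    have h2 : j Q' ⤳ j P := h1.map j.continuous
    have h3 : Q' = P := j.isOpenEmbedding.injective (H _ h2)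
    exact le_of_eq (congrArg PrimeSpectrum.asIdeal h3).symm
  · intro hP y' hy'
    have hmem : y' ∈ Set.range j := hy'.mem_open j.isOpenEmbedding.isOpen_range ⟨P, rfl⟩
    obtain ⟨Q', rfl⟩ := hmem
    have h1 : (Q' : PrimeSpectrum R) ⤳ P := j.isOpenEmbedding.isInducing.specializes_iff.mp hy'
    have h2 : (Q' : PrimeSpectrum R).asIdeal ≤ (P : PrimeSpectrum R).asIdeal :=
      (PrimeSpectrum.le_iff_specializes _ _).mpr h1
    have h3 := hP.2 ⟨(Q' : PrimeSpectrum R).isPrime, bot_le⟩ h2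
    congr 1
    exact PrimeSpectrum.ext (le_antisymm h2 h3)

/-- the stalk at a point of an affine open is geometrically unibranch iff the localization is. -/
theorem isGeomUnibranch_stalk_iff {Y : Scheme.{u}} {U : Y.Opens} (hU : IsAffineOpen U)
    (p : PrimeSpectrum Γ(Y, U)) :
    CAlg2.IsGeomUnibranch (Y.presheaf.stalk (hU.fromSpec p)) ↔
      CAlg2.IsGeomUnibranch (Localization.AtPrime p.asIdeal) := by
  have hy : hU.fromSpec p ∈ U := by
    have : hU.fromSpec p ∈ Set.range hU.fromSpec := ⟨p, rfl⟩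
    rw [hU.range_fromSpec] at this
    exact this
  letI alg : Algebra Γ(Y, U) (Y.presheaf.stalk (hU.fromSpec p)) :=
    TopCat.Presheaf.algebra_section_stalk Y.presheaf ⟨hU.fromSpec p, hy⟩
  have h1 : IsLocalization.AtPrime (Y.presheaf.stalk (hU.fromSpec p)) p.asIdeal :=
    hU.isLocalization_stalk' p hy
  have h2 : IsLocalization p.asIdeal.primeCompl (Y.presheaf.stalk (hU.fromSpec p)) := h1
  exact GUTransport.isGeomUnibranch_iff_of_ringEquiv
    (IsLocalization.algEquiv p.asIdeal.primeCompl (Y.presheaf.stalk (hU.fromSpec p))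
      (Localization.AtPrime p.asIdeal)).toRingEquiv

variable {X Y : Scheme.{u}} (f : X ⟶ Y) [IsIntegralHom f]

section chart

variable {U : Y.Opens} (hU : IsAffineOpen U)

theorem isPullback_chart :
    IsPullback (hU.preimage f).fromSpec (Spec.map (f.app U)) f hU.fromSpec := by
  refine (IsOpenImmersion.isPullback (Spec.map (f.app U)) (hU.preimage f).fromSpec hU.fromSpec f
    ?_ ?_).flip
  · rw [← IsAffineOpen.SpecMap_appLE_fromSpec f hU (hU.preimage f) le_rfl, Scheme.Hom.appLE_eq_app]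
  · rw [hU.opensRange_fromSpec, (hU.preimage f).opensRange_fromSpec]

theorem map_fromSpec_apply (q : Spec Γ(X, f ⁻¹ᵁ U)) :
    f ((hU.preimage f).fromSpec q) = hU.fromSpec ((Spec.map (f.app U)) q) := by
  rw [← Scheme.Hom.comp_apply, ← Scheme.Hom.comp_apply, (isPullback_chart f hU).w]

theorem exists_fromSpec_eq {x : X} (hx : f x ∈ U) :
    ∃ q : Spec Γ(X, f ⁻¹ᵁ U), (hU.preimage f).fromSpec q = x :=
  ⟨(hU.preimage f).primeIdealOf ⟨x, hx⟩, (hU.preimage f).fromSpec_primeIdealOf ⟨x, hx⟩⟩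

theorem fromSpec_mem (p : Spec Γ(Y, U)) : hU.fromSpec p ∈ U := by
  have : hU.fromSpec p ∈ Set.range hU.fromSpec := ⟨p, rfl⟩
  rw [hU.range_fromSpec] at this
  exact this

include hU in
/-- ring-level birationality of a chart of a birational integral morphism. -/
theorem birR_chart (hf : RadPt.IsBirational f) :
    letI : Algebra Γ(Y, U) Γ(X, f ⁻¹ᵁ U) := (f.app U).hom.toAlgebra
    BirR Γ(Y, U) Γ(X, f ⁻¹ᵁ U) := by
  letI : Algebra Γ(Y, U) Γ(X, f ⁻¹ᵁ U) := (f.app U).hom.toAlgebra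
  have sq := isPullback_chart f hU
  constructor
  · intro Q hQ
    let Q' : Spec Γ(X, f ⁻¹ᵁ U) := (⟨Q, hQ.1.1⟩ : PrimeSpectrum Γ(X, f ⁻¹ᵁ U))
    have h1 : (hU.preimage f).fromSpec Q' ∈ genericPoints X :=
      (mem_genericPoints_iff_of_isOpenImmersion _ Q').mpr hQ
    have h2 := hf.1.mapsTo h1
    rw [map_fromSpec_apply f hU, mem_genericPoints_iff_of_isOpenImmersion] at h2
    exact h2
  · intro P hP
    let P' : Spec Γ(Y, U) := (⟨P, hP.1.1⟩ : PrimeSpectrum Γ(Y, U))
    have hy₀ : hU.fromSpec P' ∈ genericPoints Y :=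
      (mem_genericPoints_iff_of_isOpenImmersion _ P').mpr hP
    obtain ⟨x₀, hx₀gen, hx₀⟩ := hf.1.surjOn hy₀
    have hbirat : BirAt f (hU.fromSpec P') := ⟨⟨x₀, hx₀⟩, (hf.2 _ hy₀).1, (hf.2 _ hy₀).2⟩
    have hK := isoK_baseChange sq P' (isoK_of_birAt f _ hbirat)
    obtain ⟨⟨Q, hQP⟩, hQuniq, hQbij⟩ := birAt_of_isoK _ _ hK
    have hQx₀ : (hU.preimage f).fromSpec Q = x₀ := by
      apply (hf.2 _ hy₀).1 _ _ _ hx₀
      rw [map_fromSpec_apply f hU, hQP]
    have hQmin : (Q : PrimeSpectrum Γ(X, f ⁻¹ᵁ U)).asIdeal ∈ minimalPrimes Γ(X, f ⁻¹ᵁ U) := by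
      rw [← mem_genericPoints_iff_of_isOpenImmersion (hU.preimage f).fromSpec Q, hQx₀]
      exact hx₀gen
    refine ⟨(Q : PrimeSpectrum Γ(X, f ⁻¹ᵁ U)).asIdeal, hQmin, congrArg PrimeSpectrum.asIdeal hQP,
      fun Q'' hQ''prime hQ''P => ?_, fun s => ?_⟩
    · let Q₂ : Spec Γ(X, f ⁻¹ᵁ U) := (⟨Q'', hQ''prime⟩ : PrimeSpectrum Γ(X, f ⁻¹ᵁ U))
      have : Q₂ = Q := hQuniq Q₂ Q (PrimeSpectrum.ext hQ''P) hQP
      exact congrArg PrimeSpectrum.asIdeal this
    · obtain ⟨w, hw⟩ := (hQbij Q hQP).2 (specEv Γ(X, f ⁻¹ᵁ U) Q s)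
      obtain ⟨a, b, hb, hab⟩ := fractions_specEv Γ(Y, U) ((Spec.map (f.app U)) Q) w
      refine ⟨a, b, ?_, ?_⟩
      · intro hbP
        apply hb
        have : b ∈ RingHom.ker (specEv Γ(Y, U) ((Spec.map (f.app U)) Q)) := by
          rw [ker_specEv, hQP]
          exact hbP
        exact this
      · have h1 := congrArg ((Spec.map (f.app U)).residueFieldMap Q).hom hab
        rw [map_mul, hw, specEv_naturality, specEv_naturality, ← map_mul, ← sub_eq_zero,
          ← map_sub] at h1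
        have h2 : s * (f.app U).hom b - (f.app U).hom a ∈
            RingHom.ker (specEv Γ(X, f ⁻¹ᵁ U) Q) := h1
        rw [ker_specEv] at h2
        rw [mul_comm]
        exact h2

end chart

/-- EGA IV 6.15.5. -/
theorem main (hf : RadPt.IsBirational f) (y : Y) :
    CAlg2.IsGeomUnibranch (Y.presheaf.stalk y) ↔
      (RadPt.IsRadicialAt f y ∧ ∀ x : X, f x = y → CAlg2.IsGeomUnibranch (X.presheaf.stalk x)) := by
  obtain ⟨_, ⟨U, hU, rfl⟩, hyU, -⟩ :=
    Y.isBasis_affineOpens.exists_subset_of_mem_open (Set.mem_univ y) isOpen_univ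
  obtain ⟨p, rfl⟩ : ∃ p, hU.fromSpec p = y :=
    ⟨hU.primeIdealOf ⟨y, hyU⟩, hU.fromSpec_primeIdealOf ⟨y, hyU⟩⟩
  letI : Algebra Γ(Y, U) Γ(X, f ⁻¹ᵁ U) := (f.app U).hom.toAlgebra
  haveI : Algebra.IsIntegral Γ(Y, U) Γ(X, f ⁻¹ᵁ U) := ⟨IsIntegralHom.isIntegral_app f U hU⟩
  have hbir := birR_chart f hU hf
  have hmain := GUBirat.main hbir p
  have sq := isPullback_chart f hU
  have hR : RadPt.IsRadicialAt f (hU.fromSpec p) ↔
      RadPt.IsRadicialAt (Spec.map (f.app U)) p := Groth.Agent.S5863.result sq p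
  rw [isGeomUnibranch_stalk_iff hU p, hmain, hR]
  refine and_congr_right fun _ => ?_
  constructor
  · intro H x hx
    obtain ⟨q, rfl⟩ := exists_fromSpec_eq f hU (x := x) (by rw [hx]; exact fromSpec_mem hU p)
    rw [isGeomUnibranch_stalk_iff (hU.preimage f) q]
    haveI := (q : PrimeSpectrum Γ(X, f ⁻¹ᵁ U)).isPrime
    apply H
    rw [map_fromSpec_apply f hU] at hx
    have := hU.fromSpec.isOpenEmbedding.injective hx
    exact congrArg PrimeSpectrum.asIdeal this
  · intro H q hq hqp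
    let q' : Spec Γ(X, f ⁻¹ᵁ U) := (⟨q, hq⟩ : PrimeSpectrum Γ(X, f ⁻¹ᵁ U))
    have h1 := H ((hU.preimage f).fromSpec q') (by
      rw [map_fromSpec_apply f hU]
      congr 1
      exact PrimeSpectrum.ext hqp)
    rw [isGeomUnibranch_stalk_iff (hU.preimage f) q'] at h1
    exact h1

end Groth.Agent.Lib.Helper69.GUBiratSch
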