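import Groth.Agent.Lib.Helper69.GUPoly
import Groth.Agent.Lib.Helper69.GUBiratSch
import Mathlib.AlgebraicGeometry.AffineSpace

/-!
# Affine space over a scheme geometrically unibranch at `y` is geometrically unibranch above `y` (helper69)
-/

set_option autoImplicit false
set_option linter.style.haveILetI false
set_option linter.unusedSectionVars false
set_option backward.isDefEq.respectTransparency.types false
universe u

namespace Groth.Agent.Lib.Helper69.GUPolySch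

open IsLocalRing AlgebraicGeometry CategoryTheory CategoryTheory.Limits
open Groth.Agent.Lib.Helper69

theorem exists_preimage_of_isPullback {P X Y Z : Scheme.{u}} {fst : P ⟶ X} {snd : P ⟶ Y}
    {f : X ⟶ Z} {g : Y ⟶ Z} (sq : IsPullback fst snd f g) (x : X) (y : Y) (h : f x = g y) :
    ∃ z : P, fst z = x ∧ snd z = y := by
  obtain ⟨z, hz1, hz2⟩ := Scheme.Pullback.exists_preimage_pullback x y h
  refine ⟨sq.isoPullback.inv z, ?_, ?_⟩
  · rw [← Scheme.Hom.comp_apply, sq.isoPullback_inv_fst, hz1]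
  · rw [← Scheme.Hom.comp_apply, sq.isoPullback_inv_snd, hz2]

/-- stalk of `Spec R` at a prime vs the localization. -/
theorem isGeomUnibranch_spec_stalk_iff (R : CommRingCat.{u}) (x : PrimeSpectrum R) :
    CAlg2.IsGeomUnibranch ((Spec R).presheaf.stalk x) ↔
      CAlg2.IsGeomUnibranch (Localization.AtPrime x.asIdeal) :=
  GUTransport.isGeomUnibranch_iff_of_ringEquiv (Spec.stalkIso R x).commRingCatIsoToRingEquiv

/-- stalks along an open immersion. -/
theorem isGeomUnibranch_stalk_iff_of_isOpenImmersion {X Y : Scheme.{u}} (k : X ⟶ Y)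
    [IsOpenImmersion k] (x : X) :
    CAlg2.IsGeomUnibranch (Y.presheaf.stalk (k x)) ↔ CAlg2.IsGeomUnibranch (X.presheaf.stalk x) :=
  GUTransport.isGeomUnibranch_iff_of_ringEquiv (asIso (k.stalkMap x)).commRingCatIsoToRingEquiv

theorem main {Y : Scheme.{u}} (σ : Type u) [Finite σ] (y' : 𝔸(σ; Y))
    (hy : CAlg2.IsGeomUnibranch (Y.presheaf.stalk ((𝔸(σ; Y) ↘ Y) y'))) :
    CAlg2.IsGeomUnibranch ((𝔸(σ; Y)).presheaf.stalk y') := by
  obtain ⟨_, ⟨U, hU, rfl⟩, hyU, -⟩ :=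
    Y.isBasis_affineOpens.exists_subset_of_mem_open (Set.mem_univ ((𝔸(σ; Y) ↘ Y) y')) isOpen_univ
  have sqA := AffineSpace.isPullback_map (n := σ) hU.fromSpec
  haveI : IsOpenImmersion (AffineSpace.map σ hU.fromSpec) :=
    MorphismProperty.of_isPullback (P := @IsOpenImmersion) sqA.flip inferInstance
  obtain ⟨z, hz1, hz2⟩ := exists_preimage_of_isPullback sqA y' (hU.primeIdealOf ⟨_, hyU⟩)
    (hU.fromSpec_primeIdealOf ⟨_, hyU⟩).symm
  let k : Spec (.of (MvPolynomial σ Γ(Y, U))) ⟶ 𝔸(σ; Y) :=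
    (AffineSpace.SpecIso σ Γ(Y, U)).inv ≫ AffineSpace.map σ hU.fromSpec
  have hk : k ≫ (𝔸(σ; Y) ↘ Y) = Spec.map (CommRingCat.ofHom MvPolynomial.C) ≫ hU.fromSpec := by
    simp only [k, Category.assoc, AffineSpace.map_over, AffineSpace.SpecIso_inv_over_assoc]
  obtain ⟨𝔓, rfl⟩ : ∃ 𝔓, k 𝔓 = y' := by
    refine ⟨(AffineSpace.SpecIso σ Γ(Y, U)).hom z, ?_⟩
    simp only [k, Scheme.Hom.comp_apply]
    rw [← Scheme.Hom.comp_apply (AffineSpace.SpecIso σ Γ(Y, U)).hom, Iso.hom_inv_id]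
    exact hz1
  rw [isGeomUnibranch_stalk_iff_of_isOpenImmersion k 𝔓, isGeomUnibranch_spec_stalk_iff]
  have h1 : (𝔸(σ; Y) ↘ Y) (k 𝔓) =
      hU.fromSpec ((Spec.map (CommRingCat.ofHom MvPolynomial.C)) 𝔓) := by
    rw [← Scheme.Hom.comp_apply, hk, Scheme.Hom.comp_apply]
  rw [h1, GUBiratSch.isGeomUnibranch_stalk_iff hU] at hy
  haveI := (𝔓 : PrimeSpectrum (MvPolynomial σ Γ(Y, U))).isPrime
  exact GUPoly.isGeomUnibranch_mvPolynomial Γ(Y, U) σ
    (𝔓 : PrimeSpectrum (MvPolynomial σ Γ(Y, U))).asIdeal _ rfl hy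

end Groth.Agent.Lib.Helper69.GUPolySch
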