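import Mathlib
import Groth.Agent.S9407

/-!
# Reducedness is local in the smooth topology (helper69)

The two scheme-level lemmas are adapted from `Lib/Helper78/AlgSpReduced` (helper78), restated here
to keep the import closure small; the ring-level input is `S9407` (helper70).
-/

set_option autoImplicit false
universe u

open CategoryTheory CategoryTheory.Limits AlgebraicGeometry MorphismProperty

namespace Groth.Agent.Lib.Helper69.ReducedSmoothLocal

/-- a scheme smooth over a reduced scheme is reduced. -/
theorem isReduced_of_smooth {X Y : Scheme.{u}} (f : X ⟶ Y) [Smooth f] [IsReduced Y] :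
    IsReduced X := by
  have key : ∀ x : X, _root_.IsReduced (X.presheaf.stalk x) := by
    intro x
    obtain ⟨V, hV, hxV, -⟩ := exists_isAffineOpen_mem_and_subset
      (TopologicalSpace.Opens.mem_top (f x))
    have hx' : x ∈ f ⁻¹ᵁ V := hxV
    obtain ⟨U, hU, hxU, hUV⟩ := exists_isAffineOpen_mem_and_subset hx'
    have h := HasRingHomProperty.appLE (P := @Smooth) f inferInstance ⟨V, hV⟩ ⟨U, hU⟩ hUV
    algebraize [(f.appLE V U hUV).hom]
    have : Algebra.Smooth Γ(Y, V) Γ(X, U) := h
    have hred : _root_.IsReduced Γ(X, U) := Groth.Agent.S9407.result Γ(Y, V) Γ(X, U)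
    let _ : Algebra Γ(X, U) (X.presheaf.stalk x) :=
      TopCat.Presheaf.algebra_section_stalk X.presheaf ⟨x, hxU⟩
    have hloc : IsLocalization.AtPrime (X.presheaf.stalk x)
        (hU.primeIdealOf ⟨x, hxU⟩).asIdeal := hU.isLocalization_stalk ⟨x, hxU⟩
    exact isReduced_localizationPreserves (hU.primeIdealOf ⟨x, hxU⟩).asIdeal.primeCompl
      (X.presheaf.stalk x) hred
  exact isReduced_of_isReduced_stalk X

set_option backward.isDefEq.respectTransparency.types false in
/-- reducedness descends along jointly surjective families of flat morphisms. -/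
theorem isReduced_of_flat_of_jointly_surjective {ι : Type*} {S : Scheme.{u}} {X : ι → Scheme.{u}}
    (f : ∀ i, X i ⟶ S) (hflat : ∀ i, Flat (f i)) (hsurj : ∀ s : S, ∃ i, s ∈ Set.range (f i))
    (hred : ∀ i, IsReduced (X i)) : IsReduced S := by
  have key : ∀ y : S, _root_.IsReduced (S.presheaf.stalk y) := by
    intro y
    obtain ⟨i, x, rfl⟩ := hsurj y
    have := hflat i
    have := hred i
    algebraize [((f i).stalkMap x).hom]
    have : Module.FaithfullyFlat (S.presheaf.stalk (f i x)) ((X i).presheaf.stalk x) :=
      @Module.FaithfullyFlat.of_flat_of_isLocalHom _ _ _ _ _ _ _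
        (Flat.stalkMap (f i) x) ((f i).toLRSHom.prop x)
    have hinj : Function.Injective ((f i).stalkMap x).hom := ‹RingHom.FaithfullyFlat _›.injective
    exact isReduced_of_injective ((f i).stalkMap x).hom hinj
  exact isReduced_of_isReduced_stalk S

/-- **S9841** -/
theorem isReduced_iff_of_smooth_cover {ι : Type u} {S : Scheme.{u}} {X : ι → Scheme.{u}}
    (f : ∀ i, X i ⟶ S) (hf : Presieve.ofArrows X f ∈ Scheme.precoverage @Smooth S) :
    IsReduced S ↔ ∀ i, IsReduced (X i) := by
  obtain ⟨hsurj, hsm⟩ := (Scheme.ofArrows_mem_precoverage_iff (P := @Smooth)).mp hf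
  constructor
  · intro hS i
    have := hsm i
    exact isReduced_of_smooth (f i)
  · intro hred
    exact isReduced_of_flat_of_jointly_surjective f (fun i => by have := hsm i; infer_instance)
      hsurj hred

end Groth.Agent.Lib.Helper69.ReducedSmoothLocal
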