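import Mathlib

/-!
# A seminormal Noetherian ring has no proper finite subintegral extension inside a reduced ring

Elementary ("multiplier style") proof of the Traverso–Swan theorem: if `C → D` is finite,
bijective on spectra with trivial residue field extensions, and `b², b³ ∈ C ⇒ b ∈ C`, then `C = D`.
-/

universe u

namespace Groth.Agent.Lib.Helper69.SubIntegral

section multiplier

variable {C D : Type*} [CommRing C] [AddCommGroup D] [Module C D]

/-- A finitely generated submodule whose elements are individually pushed into `W` by a multiplier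
outside the prime `p` is pushed into `W` by a single such multiplier. -/
lemma exists_uniform_multiplier (p : Ideal C) [p.IsPrime] (N W : Submodule C D) (hN : N.FG)
    (h : ∀ x ∈ N, ∃ s : C, s ∉ p ∧ s • x ∈ W) : ∃ s : C, s ∉ p ∧ ∀ x ∈ N, s • x ∈ W := by
  classical
  obtain ⟨G, hG⟩ := hN
  have h' : ∀ x : D, ∃ s : C, s ∉ p ∧ (x ∈ N → s • x ∈ W) := by
    intro x
    by_cases hx : x ∈ N
    · obtain ⟨s, hs, hsx⟩ := h x hx
      exact ⟨s, hs, fun _ => hsx⟩
    · exact ⟨1, fun h1 => Ideal.IsPrime.ne_top' ((Ideal.eq_top_iff_one p).mpr h1),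
        fun hx' => absurd hx' hx⟩
  choose s hs1 hs2 using h'
  refine ⟨∏ g ∈ G, s g, ?_, ?_⟩
  · intro hmem
    obtain ⟨g, -, hg⟩ := (Ideal.IsPrime.prod_mem_iff).mp hmem
    exact hs1 g hg
  · intro x hx
    rw [← hG] at hx
    induction hx using Submodule.span_induction with
    | mem g hg =>
      have hgN : g ∈ N := by rw [← hG]; exact Submodule.subset_span hg
      rw [← Finset.mul_prod_erase G s hg, mul_comm, mul_smul]
      exact W.smul_mem _ (hs2 g hgN)
    | zero => rw [smul_zero]; exact W.zero_mem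
    | add x y _ _ hx hy => rw [smul_add]; exact W.add_mem hx hy
    | smul a x _ hx => rw [smul_comm]; exact W.smul_mem _ hx

end multiplier

section minimal

variable {R : Type*} [CommRing R] [IsNoetherianRing R]

/-- In a Noetherian ring, a power of a minimal prime `P` over `I` is pushed into `I` by a
multiplier outside `P`. -/
lemma exists_multiplier_pow_le (I P : Ideal R) (hP : P ∈ I.minimalPrimes) :
    ∃ t : R, t ∉ P ∧ ∃ n : ℕ, ∀ x ∈ P ^ n, t * x ∈ I := by
  have hPp : P.IsPrime := hP.1.1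
  let A := Localization.AtPrime P
  have h1 : (I.map (algebraMap R A)).radical = P.map (algebraMap R A) :=
    IsLocalization.AtPrime.radical_map_of_mem_minimalPrimes A P I hP
  obtain ⟨n, hn⟩ := Ideal.exists_pow_le_of_le_radical_of_fg (h1.ge)
    (IsNoetherian.noetherian (P.map (algebraMap R A)))
  have h2 : ∀ x ∈ P ^ n, ∃ s : R, s ∉ P ∧ s • x ∈ I := by
    intro x hx
    have hx1 : algebraMap R A x ∈ I.map (algebraMap R A) := by
      apply hn
      rw [← Ideal.map_pow]
      exact Ideal.mem_map_of_mem _ hx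
    rw [IsLocalization.mem_map_algebraMap_iff P.primeCompl A] at hx1
    obtain ⟨⟨i, s⟩, hx2⟩ := hx1
    rw [← map_mul, IsLocalization.eq_iff_exists P.primeCompl A] at hx2
    obtain ⟨s', hs'⟩ := hx2
    refine ⟨s' * s, ?_, ?_⟩
    · exact (s' * s).2
    · change (s' : R) * (s : R) * x ∈ I
      have : (s' : R) * (s : R) * x = s' * i := by
        rw [← hs']; ring
      rw [this]
      exact I.mul_mem_left _ i.2
  obtain ⟨t, ht, htx⟩ := exists_uniform_multiplier P (P ^ n) I
    (IsNoetherian.noetherian (P ^ n)) h2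
  exact ⟨t, ht, n, fun x hx => htx x hx⟩

end minimal

section main

variable {C D : Type*} [CommRing C] [CommRing D] [Algebra C D]

/-- If `q` is the only prime of `D` over `p` (integral extension), any `t ∉ q` has a multiple in
the image of `C ∖ p`. -/
lemma exists_mul_eq_algebraMap_not_mem [Algebra.IsIntegral C D] (p : Ideal C) [p.IsPrime]
    (q : Ideal D)
    (huniq : ∀ Q : Ideal D, Q.IsPrime → Q.comap (algebraMap C D) = p → Q = q) (t : D)
    (ht : t ∉ q) : ∃ (d : D) (u : C), u ∉ p ∧ d * t = algebraMap C D u := by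
  by_contra hcon
  have hle : (Ideal.span {t}).comap (algebraMap C D) ≤ p := by
    intro u hu
    by_contra hup
    rw [Ideal.mem_comap, Ideal.mem_span_singleton'] at hu
    obtain ⟨d, hd⟩ := hu
    exact hcon ⟨d, u, hup, hd⟩
  obtain ⟨Q, hQ1, hQ2, hQ3⟩ := Ideal.exists_ideal_over_prime_of_isIntegral p _ hle
  have := huniq Q hQ2 hQ3
  rw [this] at hQ1
  exact ht (hQ1 (Ideal.subset_span rfl))

/-- **Traverso–Swan**: a finite extension `C → D` of a Noetherian ring which is injective on
spectra, has trivial residue field extensions (elementary form) and such that `C` is seminormal in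
`D` (`b², b³ ∈ C ⇒ b ∈ C`) is surjective. -/
theorem surjective_of_subintegral [IsNoetherianRing C] [Module.Finite C D]
    (hinj : Function.Injective (algebraMap C D))
    (hspec : ∀ Q Q' : Ideal D, Q.IsPrime → Q'.IsPrime →
      Q.comap (algebraMap C D) = Q'.comap (algebraMap C D) → Q = Q')
    (hres : ∀ (Q : Ideal D), Q.IsPrime → ∀ d : D, ∃ s : C, s ∉ Q.comap (algebraMap C D) ∧
      ∃ c : C, s • d - algebraMap C D c ∈ Q)
    (hsn : ∀ b : D, b ^ 2 ∈ (algebraMap C D).range → b ^ 3 ∈ (algebraMap C D).range →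
      b ∈ (algebraMap C D).range) :
    Function.Surjective (algebraMap C D) := by
  classical
  have hint : Algebra.IsIntegral C D := inferInstance
  have hDN : IsNoetherianRing D := IsNoetherianRing.of_finite C D
  have hDNC : IsNoetherian C D := isNoetherian_of_isNoetherianRing_of_finite C D
  -- the image of `C` as a `C`-submodule of `D`
  let W : Submodule C D := LinearMap.range (Algebra.linearMap C D)
  have hW : ∀ d : D, d ∈ W ↔ d ∈ (algebraMap C D).range := fun d => Iff.rfl
  by_contra hns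
  have hWtop : ∃ d : D, d ∉ W := by
    by_contra hall
    push Not at hall
    exact hns (fun d => hall d)
  -- the conductor, as an ideal of `D`
  let 𝔠 : Ideal D :=
    { carrier := {x | ∀ d : D, x * d ∈ W}
      add_mem' := fun {x y} hx hy d => by rw [add_mul]; exact W.add_mem (hx d) (hy d)
      zero_mem' := fun d => by rw [zero_mul]; exact W.zero_mem
      smul_mem' := fun a x hx d => by
        change a * x * d ∈ W
        rw [mul_comm a x, mul_assoc]
        exact hx (a * d) }
  have h𝔠W : ∀ x ∈ 𝔠, x ∈ W := fun x hx => by simpa using hx 1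
  have h𝔠top : 𝔠.comap (algebraMap C D) ≠ ⊤ := by
    intro htop
    obtain ⟨d, hd⟩ := hWtop
    have h1 : (1 : C) ∈ 𝔠.comap (algebraMap C D) := by rw [htop]; trivial
    have h2 : algebraMap C D 1 * d ∈ W := h1 d
    rw [map_one, one_mul] at h2
    exact hd h2
  obtain ⟨p, hp⟩ := Ideal.nonempty_minimalPrimes h𝔠top
  have hpp : p.IsPrime := hp.1.1
  have h𝔠p : 𝔠.comap (algebraMap C D) ≤ p := hp.1.2
  -- the prime over `p`
  obtain ⟨q, -, hqp, hqc⟩ := Ideal.exists_ideal_over_prime_of_isIntegral p (⊥ : Ideal D)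
    (by
      rw [← RingHom.ker_eq_comap_bot, (RingHom.injective_iff_ker_eq_bot _).mp hinj]
      exact bot_le)
  have huniq : ∀ Q : Ideal D, Q.IsPrime → Q.comap (algebraMap C D) = p → Q = q :=
    fun Q hQ hQc => hspec Q q hQ hqp (hQc.trans hqc.symm)
  have h𝔠q : 𝔠 ≤ q := by
    intro x hx
    obtain ⟨c, rfl⟩ := h𝔠W x hx
    have : c ∈ q.comap (algebraMap C D) := by
      rw [hqc]
      exact h𝔠p hx
    exact this
  have hqmin : q ∈ 𝔠.minimalPrimes := by
    refine ⟨⟨hqp, h𝔠q⟩, ?_⟩
    rintro Q' ⟨hQ'p, hQ'c⟩ hQ'q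
    have h1 : Q'.comap (algebraMap C D) ≤ p := by
      rw [← hqc]; exact Ideal.comap_mono hQ'q
    have h2 : p ≤ Q'.comap (algebraMap C D) :=
      hp.2 ⟨Ideal.comap_isPrime _ _, Ideal.comap_mono hQ'c⟩ h1
    have h3 := huniq Q' hQ'p (le_antisymm h1 h2)
    exact h3.ge
  -- (b): a power of `q` is pushed into `C` by a multiplier outside `p`
  obtain ⟨t, htq, N, htN⟩ := exists_multiplier_pow_le 𝔠 q hqmin
  obtain ⟨d₀, u, hup, hu⟩ := exists_mul_eq_algebraMap_not_mem p q huniq t htq
  have hb : ∀ x ∈ q ^ N, u • x ∈ W := by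
    intro x hx
    rw [Algebra.smul_def, ← hu, mul_assoc]
    exact h𝔠W _ (𝔠.mul_mem_left d₀ (htN x hx))
  -- the property `P i`
  let P : ℕ → Prop := fun i => ∃ u : C, u ∉ p ∧ ∀ x ∈ q ^ i, u • x ∈ W
  have hPN : P N := ⟨u, hup, hb⟩
  have hPmono : ∀ i j, i ≤ j → P i → P j := by
    rintro i j hij ⟨u, hu1, hu2⟩
    exact ⟨u, hu1, fun x hx => hu2 x (Ideal.pow_le_pow_right hij hx)⟩
  -- (c): not `P 1`
  have hP1 : ¬ P 1 := by
    rintro ⟨u₁, hu₁, hu₁q⟩
    rw [pow_one] at hu₁q
    have h1 : ∀ d ∈ (⊤ : Submodule C D), ∃ s : C, s ∉ p ∧ s • d ∈ W := by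
      intro d _
      obtain ⟨s, hs, c, hc⟩ := hres q hqp d
      rw [hqc] at hs
      refine ⟨u₁ * s, fun h => (hpp.mem_or_mem h).elim hu₁ hs, ?_⟩
      have h2 := hu₁q _ hc
      rw [smul_sub, ← mul_smul] at h2
      have h3 : u₁ • algebraMap C D c ∈ W := W.smul_mem _ ⟨c, rfl⟩
      have := W.add_mem h2 h3
      rwa [sub_add_cancel] at this
    obtain ⟨s, hs, hsall⟩ := exists_uniform_multiplier p ⊤ W (Module.Finite.fg_top) h1
    apply hs
    apply h𝔠p
    intro d
    have := hsall d trivial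
    rwa [Algebra.smul_def] at this
  -- (d): the largest `i` with `¬ P i`
  have hex : ∃ i, P i := ⟨N, hPN⟩
  let m := Nat.find hex
  have hm : P m := Nat.find_spec hex
  have hm2 : 2 ≤ m := by
    by_contra hlt
    push Not at hlt
    exact hP1 (hPmono m 1 (by omega) hm)
  obtain ⟨u₀, hu₀, hu₀m⟩ := hm
  have hnP : ¬ P (m - 1) := Nat.find_min hex (by omega)
  -- an element of `q^(m-1)` not pushed into `W` by any multiplier
  have hb' : ∃ b ∈ q ^ (m - 1), ∀ s : C, s ∉ p → s • b ∉ W := by
    by_contra hcon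
    push Not at hcon
    apply hnP
    have hfg : ((q ^ (m - 1)).restrictScalars C).FG := IsNoetherian.noetherian _
    obtain ⟨s, hs, hsall⟩ := exists_uniform_multiplier p ((q ^ (m - 1)).restrictScalars C) W hfg
      (fun x hx => hcon x hx)
    exact ⟨s, hs, fun x hx => hsall x hx⟩
  obtain ⟨b, hbq, hbW⟩ := hb'
  have h2 : (u₀ • b) ^ 2 ∈ W := by
    have h : b ^ 2 ∈ q ^ m := by
      have : b ^ 2 ∈ (q ^ (m - 1)) ^ 2 := Ideal.pow_mem_pow hbq 2
      rw [← pow_mul] at this
      exact Ideal.pow_le_pow_right (by omega) this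
    have := W.smul_mem u₀ (hu₀m _ h)
    have e : (u₀ • b) ^ 2 = u₀ • u₀ • b ^ 2 := by
      rw [Algebra.smul_def, Algebra.smul_def, Algebra.smul_def]; ring
    rw [e]; exact this
  have h3 : (u₀ • b) ^ 3 ∈ W := by
    have h : b ^ 3 ∈ q ^ m := by
      have : b ^ 3 ∈ (q ^ (m - 1)) ^ 3 := Ideal.pow_mem_pow hbq 3
      rw [← pow_mul] at this
      exact Ideal.pow_le_pow_right (by omega) this
    have := W.smul_mem u₀ (W.smul_mem u₀ (hu₀m _ h))
    have e : (u₀ • b) ^ 3 = u₀ • u₀ • u₀ • b ^ 3 := by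
      rw [Algebra.smul_def, Algebra.smul_def, Algebra.smul_def, Algebra.smul_def]; ring
    rw [e]; exact this
  exact hbW u₀ hu₀ (hsn _ h2 h3)

end main

end Groth.Agent.Lib.Helper69.SubIntegral
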