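import Mathlib
import Groth.Prelude.Def_HTop2
import Groth.Agent.Lib.Helper69.SubIntegral

/-!
# Descent of elements along a finite subintegral-type extension of a seminormal Noetherian ring
-/

universe u

namespace Groth.Agent.Lib.Helper69.SemiNormalDescent

open Groth.Agent.Lib.Helper69.SubIntegral

section elementary

variable {C C' : Type u} [CommRing C] [CommRing C']

set_option backward.isDefEq.respectTransparency.types false in
/-- Elementary form of "the image of `c'` in `k(q')` comes from `k(q' ∩ C)`". -/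
lemma exists_multiplier_of_mem_range (g : C →+* C') (q' : PrimeSpectrum C') (c' : C')
    (h : algebraMap C' q'.asIdeal.ResidueField c' ∈ Set.range
      (Ideal.ResidueField.map (PrimeSpectrum.comap g q').asIdeal q'.asIdeal g rfl)) :
    ∃ s : C, s ∉ q'.asIdeal.comap g ∧ ∃ c : C, g s * c' - g c ∈ q'.asIdeal := by
  obtain ⟨z, hz⟩ := h
  set P := (PrimeSpectrum.comap g q').asIdeal with hP
  obtain ⟨w, rfl⟩ := IsLocalRing.residue_surjective (R := Localization.AtPrime P) z
  obtain ⟨c, s, rfl⟩ := IsLocalization.exists_mk'_eq P.primeCompl w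
  refine ⟨s, s.2, c, ?_⟩
  have h1 : (IsLocalization.mk' (Localization.AtPrime P) c s) *
      algebraMap C (Localization.AtPrime P) s = algebraMap C (Localization.AtPrime P) c :=
    IsLocalization.mk'_spec _ c s
  have h2 := congrArg (IsLocalRing.residue (Localization.AtPrime P)) h1
  rw [map_mul] at h2
  have h3 := congrArg (Ideal.ResidueField.map P q'.asIdeal g rfl) h2
  rw [map_mul, hz] at h3
  have e1 : ∀ a : C, Ideal.ResidueField.map P q'.asIdeal g rfl
      (IsLocalRing.residue (Localization.AtPrime P) (algebraMap C (Localization.AtPrime P) a)) =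
      algebraMap C' q'.asIdeal.ResidueField (g a) :=
    fun a => Ideal.ResidueField.map_algebraMap P q'.asIdeal g rfl a
  rw [e1, e1, ← map_mul, ← sub_eq_zero, ← map_sub, Ideal.algebraMap_residueField_eq_zero] at h3
  rw [mul_comm]
  exact h3

set_option backward.isDefEq.respectTransparency.types false in
lemma map_comp_algebraMap_apply {A : Type u} [CommRing A] [Algebra A C] [Algebra A C']
    (g : C →ₐ[A] C') (Q : PrimeSpectrum C') (a : A) :
    Ideal.ResidueField.map (PrimeSpectrum.comap g.toRingHom Q).asIdeal Q.asIdeal g.toRingHom rfl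
      (((algebraMap C (PrimeSpectrum.comap g.toRingHom Q).asIdeal.ResidueField).comp
        (algebraMap A C)) a) =
      algebraMap C' Q.asIdeal.ResidueField (algebraMap A C' a) := by
  rw [RingHom.comp_apply, Ideal.ResidueField.map_algebraMap]
  congr 1
  exact g.commutes a

end elementary

section descent

variable {C C' : Type u} [CommRing C] [CommRing C']

lemma isReduced_of_isSeminormalRing (hC : HTop.IsSeminormalRing C) : IsReduced C := by
  rw [isReduced_iff_pow_one_lt 2 (by norm_num)]
  intro a ha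
  obtain ⟨a₀, -, huniq⟩ := hC 0 0 (by ring)
  have h1 : a = a₀ := huniq a ⟨ha.symm, by rw [pow_succ, ha, zero_mul]⟩
  have h2 : (0 : C) = a₀ := huniq 0 ⟨by ring, by ring⟩
  rw [h1, ← h2]

/-- The subalgebra of elements of `C'` whose residues at all primes come from `C`. -/
def resSub (g : C →+* C') : @Subalgebra C C' _ _ g.toAlgebra :=
  letI := g.toAlgebra
  { carrier := {d | ∀ q' : Ideal C', q'.IsPrime →
      ∃ s : C, s ∉ q'.comap g ∧ ∃ c : C, g s * d - g c ∈ q'}
    mul_mem' := by
      intro d₁ d₂ h₁ h₂ q' hq'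
      obtain ⟨s₁, hs₁, c₁, hc₁⟩ := h₁ q' hq'
      obtain ⟨s₂, hs₂, c₂, hc₂⟩ := h₂ q' hq'
      have hp : (q'.comap g).IsPrime := Ideal.comap_isPrime g q'
      refine ⟨s₁ * s₂, fun h => (hp.mem_or_mem h).elim hs₁ hs₂, c₁ * c₂, ?_⟩
      have e : g (s₁ * s₂) * (d₁ * d₂) - g (c₁ * c₂) =
          (g s₁ * d₁) * (g s₂ * d₂ - g c₂) + g c₂ * (g s₁ * d₁ - g c₁) := by
        rw [map_mul, map_mul]; ring
      rw [e]
      exact q'.add_mem (q'.mul_mem_left _ hc₂) (q'.mul_mem_left _ hc₁)
    add_mem' := by
      intro d₁ d₂ h₁ h₂ q' hq'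
      obtain ⟨s₁, hs₁, c₁, hc₁⟩ := h₁ q' hq'
      obtain ⟨s₂, hs₂, c₂, hc₂⟩ := h₂ q' hq'
      have hp : (q'.comap g).IsPrime := Ideal.comap_isPrime g q'
      refine ⟨s₁ * s₂, fun h => (hp.mem_or_mem h).elim hs₁ hs₂, s₂ * c₁ + s₁ * c₂, ?_⟩
      have e : g (s₁ * s₂) * (d₁ + d₂) - g (s₂ * c₁ + s₁ * c₂) =
          g s₂ * (g s₁ * d₁ - g c₁) + g s₁ * (g s₂ * d₂ - g c₂) := by
        rw [map_mul, map_add, map_mul, map_mul]; ring
      rw [e]
      exact q'.add_mem (q'.mul_mem_left _ hc₁) (q'.mul_mem_left _ hc₂)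
    algebraMap_mem' := by
      intro c₀ q' hq'
      have hp : (q'.comap g).IsPrime := Ideal.comap_isPrime g q'
      refine ⟨1, fun h => hp.ne_top ((Ideal.eq_top_iff_one _).mpr h), c₀, ?_⟩
      have : g 1 * (algebraMap C C' c₀) - g c₀ = 0 := by
        rw [map_one, one_mul]
        exact sub_self _
      rw [this]
      exact q'.zero_mem }

lemma mem_resSub (g : C →+* C') (d : C') :
    d ∈ resSub g ↔ ∀ q' : Ideal C', q'.IsPrime →
      ∃ s : C, s ∉ q'.comap g ∧ ∃ c : C, g s * d - g c ∈ q' := Iff.rfl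

/-- **Descent**: `C` Noetherian seminormal (Swan), `g : C → C'` finite, bijective on spectra,
`C'` reduced. An element of `C'` whose residues at all primes come from `C` (elementary form)
lies in the image of `C`. -/
theorem mem_range_of_seminormal [IsNoetherianRing C] (hC : HTop.IsSeminormalRing C)
    [IsReduced C'] (g : C →+* C') (hfin : g.Finite)
    (hspec : Function.Bijective (PrimeSpectrum.comap g)) (c' : C')
    (hc' : ∀ q' : Ideal C', q'.IsPrime →
      ∃ s : C, s ∉ q'.comap g ∧ ∃ c : C, g s * c' - g c ∈ q') :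
    c' ∈ g.range := by
  letI := g.toAlgebra
  have hmf : Module.Finite C C' := hfin
  have hCred := isReduced_of_isSeminormalRing hC
  have hginj : Function.Injective g := by
    rw [injective_iff_map_eq_zero]
    intro c hc
    have hnil : IsNilpotent c := by
      rw [nilpotent_iff_mem_prime]
      intro J hJ
      obtain ⟨Q, hQ⟩ := hspec.2 ⟨J, hJ⟩
      have hJQ : J = Q.asIdeal.comap g := by
        have := congrArg PrimeSpectrum.asIdeal hQ
        exact this.symm
      rw [hJQ, Ideal.mem_comap, hc]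
      exact Q.asIdeal.zero_mem
    exact hnil.eq_zero
  let D := resSub g
  have hDN : IsNoetherian C C' := isNoetherian_of_isNoetherianRing_of_finite C C'
  have hDfin : Module.Finite C D :=
    Module.Finite.of_injective D.val.toLinearMap Subtype.val_injective
  have hint : Algebra.IsIntegral D C' := Algebra.IsIntegral.tower_top (R := C)
  have hDred : IsReduced D := isReduced_of_injective D.val Subtype.val_injective
  have hlo : ∀ Q : Ideal D, Q.IsPrime →
      ∃ q' : Ideal C', q'.IsPrime ∧ q'.comap (algebraMap D C') = Q := by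
    intro Q hQ
    obtain ⟨q', -, hq'p, hq'⟩ := Ideal.exists_ideal_over_prime_of_isIntegral Q (⊥ : Ideal C') (by
      rw [← RingHom.ker_eq_comap_bot,
        (RingHom.injective_iff_ker_eq_bot (algebraMap D C')).mp Subtype.val_injective]
      exact bot_le)
    exact ⟨q', hq'p, hq'⟩
  have hcc : ∀ q' : Ideal C',
      (q'.comap (algebraMap D C')).comap (algebraMap C D) = q'.comap g := by
    intro q'
    rw [Ideal.comap_comap]
    rfl
  have hsurj : Function.Surjective (algebraMap C D) := by
    apply surjective_of_subintegral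
    · intro a a' h
      exact hginj (congrArg Subtype.val h)
    · intro Q Q' hQ hQ' hQQ'
      obtain ⟨q₁, hq₁p, hq₁⟩ := hlo Q hQ
      obtain ⟨q₂, hq₂p, hq₂⟩ := hlo Q' hQ'
      have h12 : q₁ = q₂ := by
        have h1 : (⟨q₁, hq₁p⟩ : PrimeSpectrum C') = ⟨q₂, hq₂p⟩ := by
          apply hspec.1
          apply PrimeSpectrum.ext
          change q₁.comap g = q₂.comap g
          rw [← hcc, ← hcc, hq₁, hq₂, hQQ']
        exact congrArg PrimeSpectrum.asIdeal h1
      rw [← hq₁, ← hq₂, h12]
    · intro Q hQ d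
      obtain ⟨q', hq'p, hq'⟩ := hlo Q hQ
      obtain ⟨s, hs, c, hc⟩ := d.2 q' hq'p
      refine ⟨s, ?_, c, ?_⟩
      · rw [← hq', hcc]
        exact hs
      · rw [← hq', Ideal.mem_comap]
        have e : algebraMap D C' (s • d - algebraMap C D c) = g s * (d : C') - g c := by
          rw [map_sub, Algebra.smul_def, map_mul]
          rfl
        rw [e]
        exact hc
    · intro b hb2 hb3
      obtain ⟨c₂, h2⟩ := hb2
      obtain ⟨c₃, h3⟩ := hb3
      have hinjD : Function.Injective (algebraMap C D) := fun a a' h =>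
        hginj (congrArg Subtype.val h)
      have h23 : c₂ ^ 3 = c₃ ^ 2 := by
        apply hinjD
        rw [map_pow, map_pow, h2, h3]
        ring
      obtain ⟨a, ⟨ha2, ha3⟩, -⟩ := hC c₂ c₃ h23
      have e2 : (algebraMap C D a) ^ 2 = b ^ 2 := by rw [← map_pow, ← ha2, h2]
      have e3 : (algebraMap C D a) ^ 3 = b ^ 3 := by rw [← map_pow, ← ha3, h3]
      have hz : (algebraMap C D a - b) ^ 3 = 0 := by
        linear_combination 4 * e3 - 3 * (algebraMap C D a + b) * e2
      have hz' : algebraMap C D a - b = 0 := IsReduced.eq_zero _ ⟨3, hz⟩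
      exact ⟨a, sub_eq_zero.mp hz'⟩
  obtain ⟨c, hc⟩ := hsurj ⟨c', hc'⟩
  exact ⟨c, congrArg Subtype.val hc⟩

end descent

end Groth.Agent.Lib.Helper69.SemiNormalDescent
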