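import Mathlib
import Groth.Prelude.Def_HTop2
import Groth.Agent.Lib.Helper69.SpecResidue

/-!
# More ring-level consequences of `FlatMor.IsUnivHomeo (Spec.map φ)`
-/

open AlgebraicGeometry CategoryTheory
universe u

namespace Groth.Agent.Lib.Helper69.SpecResidue

section rings

variable {A B : Type u} [CommRing A] [CommRing B] (φ : A →+* B)

/-- If `Spec.map φ` is a universal homeomorphism, field-valued points of `B` are determined
by their restriction to `A`. -/
theorem fieldPts_of_isUnivHomeo_SpecMap
    (h : FlatMor.IsUnivHomeo (Spec.map (CommRingCat.ofHom φ)))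
    (K : Type u) [Field K] (χ₁ χ₂ : B →+* K) (hχ : χ₁.comp φ = χ₂.comp φ) : χ₁ = χ₂ := by
  rw [isUnivHomeo_iff] at h
  obtain ⟨-, h2, -⟩ := h
  have h3' : ∀ (K : Type u) [Field K], Function.Injective
      (fun g : Spec (.of K) ⟶ Spec (CommRingCat.of B) => g ≫ Spec.map (CommRingCat.ofHom φ)) :=
    ((tfae_universallyInjective (Spec.map (CommRingCat.ofHom φ))).out 0 1).mp h2
  have h3 := h3' K
  have h4 : Spec.map (CommRingCat.ofHom χ₁) ≫ Spec.map (CommRingCat.ofHom φ) =
      Spec.map (CommRingCat.ofHom χ₂) ≫ Spec.map (CommRingCat.ofHom φ) := by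
    rw [← Spec.map_comp, ← Spec.map_comp]
    congr 1
    apply CommRingCat.hom_ext
    exact hχ
  have h5 := Spec.map_injective (h3 h4)
  exact congrArg CommRingCat.Hom.hom h5

set_option backward.isDefEq.respectTransparency.types false in
/-- If field points of `B` are determined by their restrictions to `A`, then residue field
extensions of `φ` are purely inseparable. -/
theorem pow_mem_range_map_of_fieldPts
    (hpts : ∀ (K : Type u) [Field K] (χ₁ χ₂ : B →+* K), χ₁.comp φ = χ₂.comp φ → χ₁ = χ₂)
    (Q : PrimeSpectrum B) (x : Q.asIdeal.ResidueField) :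
    ∃ n : ℕ, x ^ ringExpChar (PrimeSpectrum.comap φ Q).asIdeal.ResidueField ^ n ∈
      Set.range (Ideal.ResidueField.map (PrimeSpectrum.comap φ Q).asIdeal Q.asIdeal φ rfl) := by
  set m := Ideal.ResidueField.map (PrimeSpectrum.comap φ Q).asIdeal Q.asIdeal φ rfl with hm
  let _ : Algebra (PrimeSpectrum.comap φ Q).asIdeal.ResidueField Q.asIdeal.ResidueField :=
    m.toAlgebra
  have hpi : IsPurelyInseparable (PrimeSpectrum.comap φ Q).asIdeal.ResidueField
      Q.asIdeal.ResidueField := by
    have : Nonempty (Q.asIdeal.ResidueField →+* AlgebraicClosure Q.asIdeal.ResidueField) :=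
      ⟨algebraMap _ _⟩
    apply IsPurelyInseparable.of_injective_comp_algebraMap
      (F := (PrimeSpectrum.comap φ Q).asIdeal.ResidueField) (E := Q.asIdeal.ResidueField)
      (L := AlgebraicClosure Q.asIdeal.ResidueField)
    intro f g hfg
    have h1 : (f.comp (algebraMap B Q.asIdeal.ResidueField)).comp φ =
        (g.comp (algebraMap B Q.asIdeal.ResidueField)).comp φ := by
      ext a
      have h2 := congrArg (fun k => k (algebraMap A _ a)) hfg
      simp only [RingHom.comp_apply] at h2 ⊢
      have h3 : algebraMap (PrimeSpectrum.comap φ Q).asIdeal.ResidueField Q.asIdeal.ResidueField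
          (algebraMap A _ a) = algebraMap B Q.asIdeal.ResidueField (φ a) :=
        Ideal.ResidueField.map_algebraMap _ _ φ rfl a
      rw [h3] at h2
      exact h2
    have h4 := hpts _ _ _ h1
    exact Ideal.ResidueField.ringHom_ext h4
  have := ringExpChar.expChar (PrimeSpectrum.comap φ Q).asIdeal.ResidueField
  obtain ⟨n, y, hy⟩ := (isPurelyInseparable_iff_pow_mem
    (PrimeSpectrum.comap φ Q).asIdeal.ResidueField
    (ringExpChar (PrimeSpectrum.comap φ Q).asIdeal.ResidueField)).mp hpi x
  exact ⟨n, y, hy⟩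

end rings

section tower

variable {A C B : Type u} [CommRing A] [CommRing C] [CommRing B]

set_option backward.isDefEq.respectTransparency.types false in
/-- Tower argument: `A → C → B`, `q` a prime of `B`, `r = q ∩ C`, `P = r ∩ A`. If `k(r)/k(P)`
is purely inseparable (in the power form) and `k(P)` is closed under `e`-power roots in `k(q)`,
then `k(P) → k(r)` is bijective. -/
theorem bijective_map_of_tower (φ : A →+* C) (ψ : C →+* B) (θ : A →+* B) (hθ : θ = ψ.comp φ)
    (q : PrimeSpectrum B)
    (hq : (PrimeSpectrum.comap φ (PrimeSpectrum.comap ψ q)).asIdeal = Ideal.comap θ q.asIdeal)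
    (hpow : ∀ x : (PrimeSpectrum.comap ψ q).asIdeal.ResidueField, ∃ n : ℕ,
      x ^ ringExpChar (PrimeSpectrum.comap φ (PrimeSpectrum.comap ψ q)).asIdeal.ResidueField ^ n ∈
        Set.range (Ideal.ResidueField.map (PrimeSpectrum.comap φ (PrimeSpectrum.comap ψ q)).asIdeal
          (PrimeSpectrum.comap ψ q).asIdeal φ rfl))
    (hcl : ∀ x : q.asIdeal.ResidueField,
      (∃ n : ℕ,
        x ^ ringExpChar (PrimeSpectrum.comap φ (PrimeSpectrum.comap ψ q)).asIdeal.ResidueField ^ n ∈
          Set.range (Ideal.ResidueField.map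
            (PrimeSpectrum.comap φ (PrimeSpectrum.comap ψ q)).asIdeal q.asIdeal θ hq)) →
      x ∈ Set.range (Ideal.ResidueField.map
            (PrimeSpectrum.comap φ (PrimeSpectrum.comap ψ q)).asIdeal q.asIdeal θ hq)) :
    Function.Bijective (Ideal.ResidueField.map
      (PrimeSpectrum.comap φ (PrimeSpectrum.comap ψ q)).asIdeal
      (PrimeSpectrum.comap ψ q).asIdeal φ rfl) := by
  subst hθ
  set m₁ := Ideal.ResidueField.map (PrimeSpectrum.comap φ (PrimeSpectrum.comap ψ q)).asIdeal
      (PrimeSpectrum.comap ψ q).asIdeal φ rfl with hm₁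
  set m₂ := Ideal.ResidueField.map (PrimeSpectrum.comap ψ q).asIdeal q.asIdeal ψ rfl with hm₂
  set m := Ideal.ResidueField.map
      (PrimeSpectrum.comap φ (PrimeSpectrum.comap ψ q)).asIdeal q.asIdeal (ψ.comp φ) hq with hm
  have hcomp : m₂.comp m₁ = m := by
    apply Ideal.ResidueField.ringHom_ext
    ext a
    simp only [RingHom.comp_apply]
    rw [hm₁, hm₂, hm, Ideal.ResidueField.map_algebraMap, Ideal.ResidueField.map_algebraMap,
      Ideal.ResidueField.map_algebraMap]
    rfl
  refine ⟨m₁.injective, ?_⟩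
  intro x
  obtain ⟨n, y, hy⟩ := hpow x
  have h1 : m₂ x ∈ Set.range m := by
    apply hcl
    refine ⟨n, y, ?_⟩
    rw [← hcomp, RingHom.comp_apply, hy, map_pow]
  obtain ⟨z, hz⟩ := h1
  refine ⟨z, m₂.injective ?_⟩
  rw [← hz, ← hcomp, RingHom.comp_apply]

end tower

end Groth.Agent.Lib.Helper69.SpecResidue
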