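import Mathlib
import Groth.Agent.Lib.Helper69.SubIntegral

/-!
# Elementary subintegral steps without Noetherian hypotheses (Stacks 0CNA)
-/

universe u

namespace Groth.Agent.Lib.Helper69.SubIntegral

section minimal

variable {R : Type*} [CommRing R]

/-- If `P` is a minimal prime over `I` and `f ∈ P`, some power of `f` is pushed into `I` by a
multiplier outside `P`. -/
lemma exists_mul_pow_mem_of_mem_minimalPrimes (I P : Ideal R) (hP : P ∈ I.minimalPrimes)
    (f : R) (hf : f ∈ P) : ∃ t : R, t ∉ P ∧ ∃ n : ℕ, t * f ^ n ∈ I := by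
  have hPp : P.IsPrime := hP.1.1
  let A := Localization.AtPrime P
  have h1 : (I.map (algebraMap R A)).radical = P.map (algebraMap R A) :=
    IsLocalization.AtPrime.radical_map_of_mem_minimalPrimes A P I hP
  have h2 : algebraMap R A f ∈ (I.map (algebraMap R A)).radical := by
    rw [h1]
    exact Ideal.mem_map_of_mem _ hf
  obtain ⟨n, hn⟩ := h2
  rw [← map_pow, IsLocalization.mem_map_algebraMap_iff P.primeCompl A] at hn
  obtain ⟨⟨i, s⟩, hx2⟩ := hn
  rw [← map_mul, IsLocalization.eq_iff_exists P.primeCompl A] at hx2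
  obtain ⟨s', hs'⟩ := hx2
  refine ⟨s' * s, (s' * s).2, n, ?_⟩
  have : ((s' : R) * (s : R)) * f ^ n = s' * i := by
    rw [← hs']
    ring
  change ((s' : R) * (s : R)) * f ^ n ∈ I
  rw [this]
  exact I.mul_mem_left _ i.2

end minimal

section main

variable {C D : Type*} [CommRing C] [CommRing D] [Algebra C D]

/-- **Stacks 0CNA** in elementary form: a finite, non-surjective extension `C → D` which is
injective on spectra and has trivial residue field extensions contains `b ∉ C` with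
`b², b³ ∈ C`. -/
theorem exists_sq_cube_mem_of_subintegral [Module.Finite C D]
    (hinj : Function.Injective (algebraMap C D))
    (hspec : ∀ Q Q' : Ideal D, Q.IsPrime → Q'.IsPrime →
      Q.comap (algebraMap C D) = Q'.comap (algebraMap C D) → Q = Q')
    (hres : ∀ (Q : Ideal D), Q.IsPrime → ∀ d : D, ∃ s : C, s ∉ Q.comap (algebraMap C D) ∧
      ∃ c : C, s • d - algebraMap C D c ∈ Q)
    (hns : ¬ Function.Surjective (algebraMap C D)) :
    ∃ b : D, b ∉ (algebraMap C D).range ∧ b ^ 2 ∈ (algebraMap C D).range ∧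
      b ^ 3 ∈ (algebraMap C D).range := by
  classical
  have hint : Algebra.IsIntegral C D := inferInstance
  let W : Submodule C D := LinearMap.range (Algebra.linearMap C D)
  have hWtop : ∃ d : D, d ∉ W := by
    by_contra hall
    push Not at hall
    exact hns (fun d => hall d)
  let 𝔠 : Ideal D :=
    { carrier := {x | ∀ d : D, x * d ∈ W}
      add_mem' := fun {x y} hx hy d => by rw [add_mul]; exact W.add_mem (hx d) (hy d)
      zero_mem' := fun d => by rw [zero_mul]; exact W.zero_mem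
      smul_mem' := fun a x hx d => by
        change a * x * d ∈ W
        rw [mul_comm a x, mul_assoc]
        exact hx (a * d) }
  have h𝔠W : ∀ x ∈ 𝔠, x ∈ W := fun x hx => by simpa using hx 1
  have h𝔠top : 𝔠.comap (algebraMap C D) ≠ ⊤ := by
    intro htop
    obtain ⟨d, hd⟩ := hWtop
    have h1 : (1 : C) ∈ 𝔠.comap (algebraMap C D) := by rw [htop]; trivial
    have h2 : algebraMap C D 1 * d ∈ W := h1 d
    rw [map_one, one_mul] at h2
    exact hd h2
  obtain ⟨p, hp⟩ := Ideal.nonempty_minimalPrimes h𝔠top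
  have hpp : p.IsPrime := hp.1.1
  have h𝔠p : 𝔠.comap (algebraMap C D) ≤ p := hp.1.2
  obtain ⟨q, -, hqp, hqc⟩ := Ideal.exists_ideal_over_prime_of_isIntegral p (⊥ : Ideal D)
    (by
      rw [← RingHom.ker_eq_comap_bot, (RingHom.injective_iff_ker_eq_bot _).mp hinj]
      exact bot_le)
  have huniq : ∀ Q : Ideal D, Q.IsPrime → Q.comap (algebraMap C D) = p → Q = q :=
    fun Q hQ hQc => hspec Q q hQ hqp (hQc.trans hqc.symm)
  have h𝔠q : 𝔠 ≤ q := by
    intro x hx
    obtain ⟨c, rfl⟩ := h𝔠W x hx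
    have : c ∈ q.comap (algebraMap C D) := by
      rw [hqc]
      exact h𝔠p hx
    exact this
  have hqmin : q ∈ 𝔠.minimalPrimes := by
    refine ⟨⟨hqp, h𝔠q⟩, ?_⟩
    rintro Q' ⟨hQ'p, hQ'c⟩ hQ'q
    have h1 : Q'.comap (algebraMap C D) ≤ p := by
      rw [← hqc]; exact Ideal.comap_mono hQ'q
    have h2 : p ≤ Q'.comap (algebraMap C D) :=
      hp.2 ⟨Ideal.comap_isPrime _ _, Ideal.comap_mono hQ'c⟩ h1
    have h3 := huniq Q' hQ'p (le_antisymm h1 h2)
    exact h3.ge
  -- (i) an element of `q` with no multiplier into `W`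
  have hf : ∃ f ∈ q, ∀ u : C, u ∉ p → u • f ∉ W := by
    by_contra hcon
    push Not at hcon
    have h1 : ∀ d ∈ (⊤ : Submodule C D), ∃ s : C, s ∉ p ∧ s • d ∈ W := by
      intro d _
      obtain ⟨s, hs, c, hc⟩ := hres q hqp d
      rw [hqc] at hs
      obtain ⟨u₁, hu₁, hu₁W⟩ := hcon _ hc
      refine ⟨u₁ * s, fun h => (hpp.mem_or_mem h).elim hu₁ hs, ?_⟩
      rw [smul_sub, ← mul_smul] at hu₁W
      have h3 : u₁ • algebraMap C D c ∈ W := W.smul_mem _ ⟨c, rfl⟩
      have := W.add_mem hu₁W h3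
      rwa [sub_add_cancel] at this
    obtain ⟨s, hs, hsall⟩ := exists_uniform_multiplier p ⊤ W (Module.Finite.fg_top) h1
    apply hs
    apply h𝔠p
    intro d
    have := hsall d trivial
    rwa [Algebra.smul_def] at this
  obtain ⟨f, hfq, hfW⟩ := hf
  -- (ii)+(iii) a power of `f` is pushed into the conductor by a multiplier in `C ∖ p`
  obtain ⟨t, htq, N, htN⟩ := exists_mul_pow_mem_of_mem_minimalPrimes 𝔠 q hqmin f hfq
  obtain ⟨d₀, u, hup, hu⟩ := exists_mul_eq_algebraMap_not_mem p q huniq t htq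
  let P : ℕ → Prop := fun n => ∃ v : C, v ∉ p ∧ v • f ^ n ∈ W
  have hPlarge : ∀ n, N ≤ n → P n := by
    intro n hn
    refine ⟨u, hup, h𝔠W _ ?_⟩
    have e : u • f ^ n = (d₀ * f ^ (n - N)) * (t * f ^ N) := by
      rw [Algebra.smul_def, ← hu]
      have : f ^ n = f ^ (n - N) * f ^ N := by rw [← pow_add, Nat.sub_add_cancel hn]
      rw [this]; ring
    rw [e]
    exact 𝔠.mul_mem_left _ htN
  have hP1 : ¬ P 1 := by
    rintro ⟨v, hv, hvW⟩
    rw [pow_one] at hvW
    exact hfW v hv hvW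
  -- (iv) the largest `n` with `¬ P n`
  let Q : ℕ → Prop := fun k => ∀ n, k < n → P n
  have hQex : ∃ k, Q k := ⟨N, fun n hn => hPlarge n hn.le⟩
  let k₀ := Nat.find hQex
  have hk₀ : Q k₀ := Nat.find_spec hQex
  have hk₀pos : 1 ≤ k₀ := by
    by_contra hlt
    push Not at hlt
    exact hP1 (hk₀ 1 (by omega))
  have hnP : ¬ P k₀ := by
    intro hPk
    have hQ' : Q (k₀ - 1) := by
      intro n hn
      by_cases hnk : n = k₀
      · rw [hnk]; exact hPk
      · exact hk₀ n (by omega)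
    exact Nat.find_min hQex (by omega) hQ'
  obtain ⟨u₂, hu₂, hu₂W⟩ := hk₀ (2 * k₀) (by omega)
  obtain ⟨u₃, hu₃, hu₃W⟩ := hk₀ (3 * k₀) (by omega)
  refine ⟨(u₂ * u₃) • f ^ k₀, ?_, ?_, ?_⟩
  · intro hmem
    exact hnP ⟨u₂ * u₃, fun h => (hpp.mem_or_mem h).elim hu₂ hu₃, hmem⟩
  · have e : ((u₂ * u₃) • f ^ k₀) ^ 2 = (u₂ * u₃ ^ 2) • (u₂ • f ^ (2 * k₀)) := by
      rw [Algebra.smul_def, Algebra.smul_def, Algebra.smul_def, pow_mul']
      simp only [map_mul, map_pow]
      ring
    rw [e]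
    exact W.smul_mem _ hu₂W
  · have e : ((u₂ * u₃) • f ^ k₀) ^ 3 = (u₂ ^ 3 * u₃ ^ 2) • (u₃ • f ^ (3 * k₀)) := by
      rw [Algebra.smul_def, Algebra.smul_def, Algebra.smul_def, pow_mul']
      simp only [map_mul, map_pow]
      ring
    rw [e]
    exact W.smul_mem _ hu₃W

end main

end Groth.Agent.Lib.Helper69.SubIntegral
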