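import Groth.Agent.Lib.Helper69.EtaPt

/-!
# Extension of valuation rings and descent of membership in `M_η` along integral surjective maps
-/

universe u

namespace Groth.Agent.Lib.Helper69.EtaPt

open _root_.EtaPt
open scoped TensorProduct

variable (η : FieldEndo.{u})

section ext

variable {A B : Type u} [CommRing A] [CommRing B]

lemma apply_eq_of_ev_eq_kerPt {L : Type u} [Field L] (φ : A →+* L) {x y : η.N A}
    (h : ev η φ x = ev η φ y) (p : PrimeSpectrum A) (hp : kerPt φ = p) : x p = y p := by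
  subst hp
  rw [ev_apply, ev_apply] at h
  exact map_injective η _ h

/-- A common field extension of `K` and `k(Q)` over `k(P)`. -/
lemma exists_common_extension {K : Type u} [Field K] (f : A →+* B) (φ : A →+* K)
    (Q : PrimeSpectrum B) (hQ : PrimeSpectrum.comap f Q = kerPt φ) :
    ∃ (E : Type u) (_ : Field E) (j : K →+* E) (χ : B →+* E), χ.comp f = j.comp φ := by
  let kP := (kerPt φ).asIdeal.ResidueField
  let kQ := Q.asIdeal.ResidueField
  let i₁ : kP →+* K := kerLift φ
  have hPQ : (kerPt φ).asIdeal = Q.asIdeal.comap f := by rw [← hQ]; rfl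
  let i₂ : kP →+* kQ := Ideal.ResidueField.map (kerPt φ).asIdeal Q.asIdeal f hPQ
  let := i₁.toAlgebra
  let := i₂.toAlgebra
  have : Nontrivial (K ⊗[kP] kQ) :=
    Algebra.TensorProduct.nontrivial_of_algebraMap_injective_of_isDomain kP K kQ
      i₁.injective i₂.injective
  obtain ⟨m, hm⟩ := Ideal.exists_maximal (K ⊗[kP] kQ)
  let : Field ((K ⊗[kP] kQ) ⧸ m) := Ideal.Quotient.field m
  refine ⟨(K ⊗[kP] kQ) ⧸ m, inferInstance,
    (Ideal.Quotient.mk m).comp Algebra.TensorProduct.includeLeftRingHom,
    (Ideal.Quotient.mk m).comp ((Algebra.TensorProduct.includeRight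
      (R := kP) (A := K) (B := kQ)).toRingHom.comp (algebraMap B kQ)), ?_⟩
  ext a
  change Ideal.Quotient.mk m ((1 : K) ⊗ₜ[kP] (algebraMap B kQ (f a))) =
    Ideal.Quotient.mk m ((φ a) ⊗ₜ[kP] (1 : kQ))
  congr 1
  have h1 : φ a = algebraMap kP K (algebraMap A kP a) := (kerLift_algebraMap φ a).symm
  have h2 : algebraMap B kQ (f a) = algebraMap kP kQ (algebraMap A kP a) :=
    (Ideal.ResidueField.map_algebraMap _ _ f hPQ a).symm
  rw [h1, h2, Algebra.algebraMap_eq_smul_one, Algebra.algebraMap_eq_smul_one (A := K),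
    TensorProduct.smul_tmul]

/-- Descent of `range t_R` membership along an extension of the fraction field. -/
lemma mem_range_t_of_extension (R : Type u) [CommRing R] [IsDomain R] [ValuationRing R]
    (hR : η.InV R) {E : Type u} [Field E] (hE : Function.Bijective (η.eta E))
    (jj : FractionRing R →+* E) (z : η.N R)
    (H : ∀ (V : ValuationSubring E) (gV : R →+* V),
      V.subtype.comp gV = jj.comp (algebraMap R (FractionRing R)) →
      ∃ r'' : V, ∀ (L'' : Type u) [Field L''] (ψ'' : V →+* L''),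
        ev η (ψ''.comp gV) z = η.eta L'' (ψ'' r'')) :
    z ∈ (η.t R).range := by
  let ι : R →+* FractionRing R := algebraMap R (FractionRing R)
  have hι : Function.Injective ι := IsFractionRing.injective R (FractionRing R)
  obtain ⟨w, hw⟩ := hR.2 (ev η ι z)
  -- the element produced by `H` is always `jj w`
  have key : ∀ (V : ValuationSubring E) (gV : R →+* V) (hV : V.subtype.comp gV = jj.comp ι)
      (r'' : V), (∀ (L'' : Type u) [Field L''] (ψ'' : V →+* L''),
        ev η (ψ''.comp gV) z = η.eta L'' (ψ'' r'')) → V.subtype r'' = jj w := by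
    intro V gV hV r'' hr''
    have h1 := hr'' E V.subtype
    rw [hV, ev_comp, ← hw, eta_natural_apply] at h1
    exact (eta_injective η E h1).symm
  have hker : ∀ p' : Ideal R, RingHom.ker (jj.comp ι) ≤ p' := by
    intro p' a ha
    rw [RingHom.mem_ker, RingHom.comp_apply, map_eq_zero] at ha
    have : a = 0 := hι (by rw [ha, map_zero])
    rw [this]; exact p'.zero_mem
  -- step 3: w comes from R
  have hwR : ∃ r : R, ι r = w := by
    rcases ValuationRing.isInteger_or_isInteger R w with ⟨r, hr⟩ | ⟨s, hs⟩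
    · exact ⟨r, hr⟩
    · by_cases hw0 : w = 0
      · exact ⟨0, by rw [hw0, map_zero]⟩
      by_cases hsu : IsUnit s
      · obtain ⟨u, rfl⟩ := hsu
        refine ⟨((u⁻¹ : Rˣ) : R), ?_⟩
        have h1 : ι (u : R) * ι ((u⁻¹ : Rˣ) : R) = 1 := by
          rw [← map_mul, Units.mul_inv, map_one]
        have hs' : ι (u : R) = w⁻¹ := hs
        rw [hs'] at h1
        field_simp at h1
        exact h1
      · exfalso
        obtain ⟨V, gV, hV, hcomap⟩ := exists_valuationSubring_dominating (jj.comp ι)
          (IsLocalRing.maximalIdeal R) (hker _)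
        obtain ⟨r'', hr''⟩ := H V gV hV
        have h1 := key V gV hV r'' hr''
        have hsm : s ∈ IsLocalRing.maximalIdeal R := (IsLocalRing.mem_maximalIdeal s).mpr hsu
        rw [← hcomap] at hsm
        have hnu : ¬ IsUnit (gV s) := (IsLocalRing.mem_maximalIdeal _).mp hsm
        apply hnu
        rw [isUnit_iff_exists_inv]
        refine ⟨r'', V.subtype_injective ?_⟩
        rw [map_mul, h1, map_one]
        have h2 : V.subtype (gV s) = jj (ι s) := RingHom.congr_fun hV s
        have hs' : ι s = w⁻¹ := hs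
        rw [h2, hs', ← map_mul, inv_mul_cancel₀ hw0, map_one]
  obtain ⟨r, hr⟩ := hwR
  refine ⟨r, ?_⟩
  funext 𝔮
  obtain ⟨V, gV, hV, hcomap⟩ := exists_valuationSubring_dominating (jj.comp ι) 𝔮.asIdeal (hker _)
  obtain ⟨r'', hr''⟩ := H V gV hV
  have h1 := key V gV hV r'' hr''
  have hr2 : r'' = gV r := by
    apply V.subtype_injective
    rw [h1, ← hr]
    exact (RingHom.congr_fun hV r).symm
  let res : V →+* IsLocalRing.ResidueField V := IsLocalRing.residue V
  have h2 := hr'' _ res
  rw [hr2] at h2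
  have h3 : ev η (res.comp gV) z = ev η (res.comp gV) (η.t R r) := by
    rw [h2, ev_t]; rfl
  have hk : kerPt (res.comp gV) = 𝔮 := by
    apply PrimeSpectrum.ext
    change RingHom.ker (res.comp gV) = 𝔮.asIdeal
    rw [← hcomap, ← RingHom.comap_ker, IsLocalRing.ker_residue]
  exact (apply_eq_of_ev_eq_kerPt η _ h3 𝔮 hk).symm

/-- S13816 (the nontrivial direction). -/
theorem mem_M_of_Nmap_mem_M (f : A →+* B) (hf : f.IsIntegral)
    (hs : Function.Surjective (PrimeSpectrum.comap f)) (x : η.N A) (hx : η.Nmap f x ∈ η.M B) :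
    x ∈ η.M A := by
  intro R _ _ _ hR g
  let ι : R →+* FractionRing R := algebraMap R (FractionRing R)
  obtain ⟨Q, hQ⟩ := hs (kerPt (ι.comp g))
  obtain ⟨E₀, _, j, χ, hχ⟩ := exists_common_extension f (ι.comp g) Q hQ
  let jj : FractionRing R →+* η.obj E₀ := (η.eta E₀).comp j
  let χ'' : B →+* η.obj E₀ := (η.eta E₀).comp χ
  have hχ'' : χ''.comp f = (jj.comp ι).comp g := by
    change ((η.eta E₀).comp χ).comp f = (((η.eta E₀).comp j).comp ι).comp g
    rw [RingHom.comp_assoc, hχ]
    rfl
  apply mem_range_t_of_extension η R hR (bijective_eta_obj η E₀) jj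
  intro V gV hV
  -- the image of B lies in V
  have hBV : ∀ b : B, χ'' b ∈ V.toSubring := by
    intro b
    obtain ⟨p, hp, hpb⟩ := hf b
    have h1 : Polynomial.eval₂ (χ''.comp f) (χ'' b) p = 0 := by
      rw [← Polynomial.hom_eval₂, hpb, map_zero]
    rw [hχ'', ← hV, RingHom.comp_assoc, ← Polynomial.eval₂_map] at h1
    have hint : IsIntegral V (χ'' b) := ⟨p.map (gV.comp g), hp.map _, h1⟩
    obtain ⟨y, hy⟩ := IsIntegrallyClosed.isIntegral_iff.mp hint
    rw [← hy]
    exact y.2
  let gB : B →+* V := χ''.codRestrict V.toSubring hBV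
  have hgB : gB.comp f = gV.comp g := by
    ext a
    have h1 : χ'' (f a) = V.subtype (gV (g a)) := by
      have := RingHom.congr_fun hχ'' a
      rw [← hV] at this
      exact this
    exact h1
  obtain ⟨r'', hr''⟩ := exists_of_mem_M_valuationSubring η hx (bijective_eta_obj η E₀) V gB
  refine ⟨r'', fun L'' _ ψ'' => ?_⟩
  rw [← hr'' L'' ψ'', ev_Nmap, ev_Nmap, RingHom.comp_assoc, RingHom.comp_assoc, hgB]

end ext

end Groth.Agent.Lib.Helper69.EtaPt
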