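import Mathlib
import Groth.Prelude.Def_HTop2
import Groth.Agent.Lib.Helper69.SpecResidue2
import Groth.Agent.Lib.Helper69.EtaPtExt

/-!
# The weak normalization as the equalizer of `B ⇉ (B ⊗_A B)_red`
-/

open AlgebraicGeometry CategoryTheory
open scoped TensorProduct
universe u

namespace Groth.Agent.Lib.Helper69.WeakNorm

open Groth.Agent.Lib.Helper69.EtaPt Groth.Agent.Lib.Helper69.SpecResidue

section ext

variable {R S : Type u} [CommRing R] [CommRing S]

/-- A field point of `R` extends to `S` along an injective integral map, after enlarging the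
field. -/
lemma exists_extend_fieldPt (f : R →+* S) (hf : f.IsIntegral) (hinj : Function.Injective f)
    {K : Type u} [Field K] (χ : R →+* K) :
    ∃ (K' : Type u) (_ : Field K') (j : K →+* K') (ψ : S →+* K'), ψ.comp f = j.comp χ := by
  obtain ⟨Q, hQ⟩ := hf.comap_surjective hinj (kerPt χ)
  exact exists_common_extension f χ Q hQ

/-- Two field extensions of a field have a common extension. -/
lemma exists_common_field {K K₁ K₂ : Type u} [Field K] [Field K₁] [Field K₂]
    (j₁ : K →+* K₁) (j₂ : K →+* K₂) :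
    ∃ (Ω : Type u) (_ : Field Ω) (i₁ : K₁ →+* Ω) (i₂ : K₂ →+* Ω), i₁.comp j₁ = i₂.comp j₂ := by
  have h : PrimeSpectrum.comap j₂ (⊥ : PrimeSpectrum K₂) = kerPt j₁ := by
    apply PrimeSpectrum.ext
    change Ideal.comap j₂ ⊥ = RingHom.ker j₁
    rw [(RingHom.injective_iff_ker_eq_bot j₁).mp j₁.injective, Ideal.comap_bot_of_injective _ j₂.injective]
  obtain ⟨Ω, _, i₁, i₂, h⟩ := exists_common_extension j₂ j₁ ⊥ h
  exact ⟨Ω, inferInstance, i₁, i₂, h.symm⟩

end ext

section main

variable (A B : Type u) [CommRing A] [CommRing B] [Algebra A B]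

/-- The equalizer of `B ⇉ (B ⊗_A B)_red` as a subalgebra. -/
noncomputable def eqSub : Subalgebra A B :=
  AlgHom.equalizer
    ((Ideal.Quotient.mkₐ A (nilradical (B ⊗[A] B))).comp Algebra.TensorProduct.includeLeft)
    ((Ideal.Quotient.mkₐ A (nilradical (B ⊗[A] B))).comp Algebra.TensorProduct.includeRight)

lemma mem_eqSub (b : B) :
    b ∈ eqSub A B ↔ IsNilpotent (b ⊗ₜ[A] (1 : B) - (1 : B) ⊗ₜ[A] b) := by
  rw [eqSub, AlgHom.mem_equalizer]
  change Ideal.Quotient.mk _ (b ⊗ₜ[A] (1 : B)) = Ideal.Quotient.mk _ ((1 : B) ⊗ₜ[A] b) ↔ _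
  rw [Ideal.Quotient.eq, mem_nilradical]

variable {A B}

/-- Two field points of `B` agreeing on `A` agree on `eqSub A B`. -/
lemma eq_on_eqSub {Ω : Type u} [Field Ω] (ψ₁ ψ₂ : B →+* Ω)
    (h : ψ₁.comp (algebraMap A B) = ψ₂.comp (algebraMap A B)) (b : B) (hb : b ∈ eqSub A B) :
    ψ₁ b = ψ₂ b := by
  let _ : Algebra A Ω := (ψ₁.comp (algebraMap A B)).toAlgebra
  let f₁ : B →ₐ[A] Ω := { ψ₁ with commutes' := fun a => rfl }
  let f₂ : B →ₐ[A] Ω := { ψ₂ with commutes' := fun a => (RingHom.congr_fun h a).symm }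
  have hb' := (mem_eqSub A B b).mp hb
  have h1 : IsNilpotent (Algebra.TensorProduct.productMap f₁ f₂
      (b ⊗ₜ[A] (1 : B) - (1 : B) ⊗ₜ[A] b)) := hb'.map _
  have h2 := h1.eq_zero
  rw [map_sub, Algebra.TensorProduct.productMap_apply_tmul,
    Algebra.TensorProduct.productMap_apply_tmul, map_one, map_one, mul_one, one_mul,
    sub_eq_zero] at h2
  exact h2

variable (A B)

/-- Field points of `eqSub A B` are determined by their restriction to `A`. -/
lemma fieldPts_eqSub [Algebra.IsIntegral A B] (K : Type u) [Field K]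
    (χ₁ χ₂ : eqSub A B →+* K)
    (h : χ₁.comp (algebraMap A (eqSub A B)) = χ₂.comp (algebraMap A (eqSub A B))) : χ₁ = χ₂ := by
  have hint : ((eqSub A B).val : eqSub A B →+* B).IsIntegral := by
    have : Algebra.IsIntegral (eqSub A B) B := Algebra.IsIntegral.tower_top (R := A)
    exact algebraMap_isIntegral_iff.mpr this
  have hinj : Function.Injective ((eqSub A B).val : eqSub A B →+* B) := Subtype.val_injective
  obtain ⟨K₁, _, j₁, ψ₁, h₁⟩ := exists_extend_fieldPt _ hint hinj χ₁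
  obtain ⟨K₂, _, j₂, ψ₂, h₂⟩ := exists_extend_fieldPt _ hint hinj χ₂
  obtain ⟨Ω, _, i₁, i₂, hi⟩ := exists_common_field j₁ j₂
  have hag : (i₁.comp ψ₁).comp (algebraMap A B) = (i₂.comp ψ₂).comp (algebraMap A B) := by
    ext a
    have e1 : ψ₁ (algebraMap A B a) = j₁ (χ₁ (algebraMap A (eqSub A B) a)) :=
      RingHom.congr_fun h₁ (algebraMap A (eqSub A B) a)
    have e2 : ψ₂ (algebraMap A B a) = j₂ (χ₂ (algebraMap A (eqSub A B) a)) :=
      RingHom.congr_fun h₂ (algebraMap A (eqSub A B) a)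
    have e3 : χ₁ (algebraMap A (eqSub A B) a) = χ₂ (algebraMap A (eqSub A B) a) :=
      RingHom.congr_fun h a
    have e4 : ∀ k : K, i₁ (j₁ k) = i₂ (j₂ k) := fun k => RingHom.congr_fun hi k
    simp only [RingHom.comp_apply]
    rw [e1, e2, e3, e4]
  ext e
  have h3 := eq_on_eqSub (i₁.comp ψ₁) (i₂.comp ψ₂) hag e.1 e.2
  have e1 : ψ₁ e.1 = j₁ (χ₁ e) := RingHom.congr_fun h₁ e
  have e2 : ψ₂ e.1 = j₂ (χ₂ e) := RingHom.congr_fun h₂ e
  simp only [RingHom.comp_apply] at h3
  rw [e1, e2] at h3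
  have e4 : i₁ (j₁ (χ₁ e)) = i₂ (j₂ (χ₁ e)) := RingHom.congr_fun hi _
  rw [e4] at h3
  exact j₂.injective (i₂.injective h3)

/-- `Spec (eqSub A B) → Spec A` is a universal homeomorphism. -/
theorem isUnivHomeo_eqSub [Algebra.IsIntegral A B] (hinj : Function.Injective (algebraMap A B)) :
    FlatMor.IsUnivHomeo (Spec.map (CommRingCat.ofHom (algebraMap A (eqSub A B)))) := by
  apply isUnivHomeo_SpecMap_of
  · have : Algebra.IsIntegral A (eqSub A B) :=
      Algebra.IsIntegral.of_injective (eqSub A B).val Subtype.val_injective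
    exact algebraMap_isIntegral_iff.mpr this
  · apply RingHom.IsIntegral.comap_surjective
    · have : Algebra.IsIntegral A (eqSub A B) :=
        Algebra.IsIntegral.of_injective (eqSub A B).val Subtype.val_injective
      exact algebraMap_isIntegral_iff.mpr this
    · intro a a' h
      apply hinj
      exact congrArg Subtype.val h
  · exact fieldPts_eqSub A B

/-- Maximality of `eqSub A B`. -/
theorem le_eqSub (C : Subalgebra A B)
    (hC : FlatMor.IsUnivHomeo (Spec.map (CommRingCat.ofHom (algebraMap A C)))) :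
    C ≤ eqSub A B := by
  intro c hc
  rw [mem_eqSub, nilpotent_iff_mem_prime]
  intro J hJ
  let π : B ⊗[A] B →+* J.ResidueField := algebraMap _ _
  let ψ₁ : B →+* J.ResidueField :=
    π.comp (Algebra.TensorProduct.includeLeft (R := A) (S := A) (A := B) (B := B)).toRingHom
  let ψ₂ : B →+* J.ResidueField :=
    π.comp (Algebra.TensorProduct.includeRight (R := A) (A := B) (B := B)).toRingHom
  have hag : (ψ₁.comp (C.val : C →+* B)).comp (algebraMap A C) =
      (ψ₂.comp (C.val : C →+* B)).comp (algebraMap A C) := by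
    ext a
    change π ((algebraMap A B a) ⊗ₜ[A] (1 : B)) = π ((1 : B) ⊗ₜ[A] (algebraMap A B a))
    congr 1
    rw [Algebra.algebraMap_eq_smul_one, TensorProduct.smul_tmul]
  have h1 := fieldPts_of_isUnivHomeo_SpecMap _ hC _ _ _ hag
  have h2 : ψ₁ c = ψ₂ c := RingHom.congr_fun h1 ⟨c, hc⟩
  have h3 : π (c ⊗ₜ[A] (1 : B) - (1 : B) ⊗ₜ[A] c) = 0 := by
    rw [map_sub, sub_eq_zero]
    exact h2
  exact Ideal.algebraMap_residueField_eq_zero.mp h3

end main

end Groth.Agent.Lib.Helper69.WeakNorm
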