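import Mathlib
import Groth.Prelude.Def_HTop2
import Groth.Agent.Lib.Helper69.SpecResidue2
import Groth.Agent.Lib.Helper69.WeakNorm
import Groth.Agent.Lib.Helper69.SemiNormalDescent
import Groth.Agent.Lib.Helper69.SubIntegral2

/-!
# Ring-level calculus for universal homeomorphisms of affine schemes (Stacks 0CN6–0CNE)
-/

open AlgebraicGeometry CategoryTheory
universe u

namespace Groth.Agent.Lib.Helper69.UHRing

open Groth.Agent.Lib.Helper69.SpecResidue Groth.Agent.Lib.Helper69.WeakNorm
  Groth.Agent.Lib.Helper69.SemiNormalDescent Groth.Agent.Lib.Helper69.SubIntegral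

section defs

variable {A B : Type u} [CommRing A] [CommRing B]

/-- Field-valued points of `B` are determined by their restriction to `A`. -/
def FieldPtsInj (φ : A →+* B) : Prop :=
  ∀ (K : Type u) [Field K] (χ₁ χ₂ : B →+* K), χ₁.comp φ = χ₂.comp φ → χ₁ = χ₂

/-- Elementary form of "all residue field extensions of `φ` are trivial". -/
def ResTriv (φ : A →+* B) : Prop :=
  ∀ (Q : Ideal B), Q.IsPrime → ∀ b : B, ∃ s : A, s ∉ Q.comap φ ∧ ∃ a : A, φ s * b - φ a ∈ Q

theorem isUnivHomeo_of (φ : A →+* B) (hint : φ.IsIntegral)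
    (hsurj : Function.Surjective (PrimeSpectrum.comap φ)) (hpts : FieldPtsInj φ) :
    FlatMor.IsUnivHomeo (Spec.map (CommRingCat.ofHom φ)) :=
  isUnivHomeo_SpecMap_of φ hint hsurj hpts

theorem of_isUnivHomeo (φ : A →+* B)
    (h : FlatMor.IsUnivHomeo (Spec.map (CommRingCat.ofHom φ))) :
    φ.IsIntegral ∧ Function.Bijective (PrimeSpectrum.comap φ) ∧ FieldPtsInj φ :=
  ⟨(of_isUnivHomeo_SpecMap φ h).1, (of_isUnivHomeo_SpecMap φ h).2,
    fieldPts_of_isUnivHomeo_SpecMap φ h⟩

theorem isUnivHomeo_iff (φ : A →+* B) :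
    FlatMor.IsUnivHomeo (Spec.map (CommRingCat.ofHom φ)) ↔
      φ.IsIntegral ∧ Function.Surjective (PrimeSpectrum.comap φ) ∧ FieldPtsInj φ :=
  ⟨fun h => ⟨(of_isUnivHomeo φ h).1, (of_isUnivHomeo φ h).2.1.2, (of_isUnivHomeo φ h).2.2⟩,
    fun h => isUnivHomeo_of φ h.1 h.2.1 h.2.2⟩

set_option backward.isDefEq.respectTransparency.types false in
/-- scheme-level surjectivity of a residue field map of `Spec.map` = ring-level surjectivity -/
theorem surjective_residueFieldMap_iff {R S : CommRingCat.{u}} (f : R ⟶ S) (y : Spec S) :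
    Function.Surjective ((Spec.map f).residueFieldMap y) ↔
      Function.Surjective
        (Ideal.ResidueField.map ((Spec.map f) y).asIdeal y.asIdeal f.hom rfl) := by
  constructor
  · intro h
    have hb : Function.Bijective ((Spec.map f).residueFieldMap y) :=
      ⟨((Spec.map f).residueFieldMap y).hom.injective, h⟩
    have hiso : IsIso ((Spec.map f).residueFieldMap y) :=
      (ConcreteCategory.isIso_iff_bijective _).mpr hb
    exact ((isIso_residueFieldMap_SpecMap_iff f y).mp hiso).2
  · intro h
    have hb : Function.Bijective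
        (Ideal.ResidueField.map ((Spec.map f) y).asIdeal y.asIdeal f.hom rfl) :=
      ⟨RingHom.injective _, h⟩
    have hiso := (isIso_residueFieldMap_SpecMap_iff f y).mpr hb
    exact (ConcreteCategory.bijective_of_isIso _).2

set_option backward.isDefEq.respectTransparency.types false in
/-- ring-level surjectivity of all residue field maps = elementary form -/
theorem resTriv_iff (φ : A →+* B) :
    ResTriv φ ↔ ∀ Q : PrimeSpectrum B, Function.Surjective
      (Ideal.ResidueField.map (PrimeSpectrum.comap φ Q).asIdeal Q.asIdeal φ rfl) := by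
  constructor
  · intro h Q z
    set m := Ideal.ResidueField.map (PrimeSpectrum.comap φ Q).asIdeal Q.asIdeal φ rfl with hm
    have key : ∀ b : B, algebraMap B Q.asIdeal.ResidueField b ∈ m.fieldRange := by
      intro b
      obtain ⟨s, hs, a, ha⟩ := h Q.asIdeal Q.2 b
      have h1 : algebraMap B Q.asIdeal.ResidueField (φ s * b - φ a) = 0 :=
        Ideal.algebraMap_residueField_eq_zero.mpr ha
      have hs0 : algebraMap B Q.asIdeal.ResidueField (φ s) ≠ 0 := by
        intro h0
        have h0' : φ s ∈ Q.asIdeal := Ideal.algebraMap_residueField_eq_zero.mp h0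
        exact hs h0'
      rw [map_sub, map_mul, sub_eq_zero] at h1
      have e1 : ∀ c : A, algebraMap B Q.asIdeal.ResidueField (φ c) ∈ m.fieldRange := by
        intro c
        exact ⟨algebraMap A _ c, Ideal.ResidueField.map_algebraMap _ _ φ rfl c⟩
      have h2 : algebraMap B Q.asIdeal.ResidueField b =
          algebraMap B Q.asIdeal.ResidueField (φ a) *
            (algebraMap B Q.asIdeal.ResidueField (φ s))⁻¹ := by
        rw [← h1]
        field_simp
      rw [h2]
      exact m.fieldRange.mul_mem (e1 a) (m.fieldRange.inv_mem (e1 s))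
    obtain ⟨w, rfl⟩ := IsLocalRing.residue_surjective (R := Localization.AtPrime Q.asIdeal) z
    obtain ⟨b, t, rfl⟩ := IsLocalization.exists_mk'_eq Q.asIdeal.primeCompl w
    have h1 : (IsLocalization.mk' (Localization.AtPrime Q.asIdeal) b t) *
        algebraMap B (Localization.AtPrime Q.asIdeal) t =
        algebraMap B (Localization.AtPrime Q.asIdeal) b := IsLocalization.mk'_spec _ b t
    have h2 := congrArg (IsLocalRing.residue (Localization.AtPrime Q.asIdeal)) h1
    rw [map_mul] at h2
    have ht0 : IsLocalRing.residue (Localization.AtPrime Q.asIdeal)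
        (algebraMap B (Localization.AtPrime Q.asIdeal) t) ≠ 0 := by
      intro h0
      exact t.2 (Ideal.algebraMap_residueField_eq_zero.mp h0)
    have h3 : IsLocalRing.residue (Localization.AtPrime Q.asIdeal)
        (IsLocalization.mk' (Localization.AtPrime Q.asIdeal) b t) =
        IsLocalRing.residue (Localization.AtPrime Q.asIdeal)
          (algebraMap B (Localization.AtPrime Q.asIdeal) b) *
        (IsLocalRing.residue (Localization.AtPrime Q.asIdeal)
          (algebraMap B (Localization.AtPrime Q.asIdeal) t))⁻¹ := by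
      rw [← h2]
      field_simp
    have h4 : IsLocalRing.residue (Localization.AtPrime Q.asIdeal)
        (IsLocalization.mk' (Localization.AtPrime Q.asIdeal) b t) ∈ m.fieldRange := by
      rw [h3]
      exact m.fieldRange.mul_mem (key b) (m.fieldRange.inv_mem (key t))
    exact h4
  · intro h Q hQ b
    exact exists_multiplier_of_mem_range φ ⟨Q, hQ⟩ b (h ⟨Q, hQ⟩ _)

/-- scheme-level statement of trivial residue fields, as in the Stacks rows -/
theorem resSurj_iff_resTriv (φ : A →+* B) :
    (∀ x : Spec (CommRingCat.of B),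
      Function.Surjective ((Spec.map (CommRingCat.ofHom φ)).residueFieldMap x)) ↔ ResTriv φ := by
  rw [resTriv_iff]
  constructor
  · intro h Q
    exact (surjective_residueFieldMap_iff (CommRingCat.ofHom φ) Q).mp (h Q)
  · intro h Q
    exact (surjective_residueFieldMap_iff (CommRingCat.ofHom φ) Q).mpr (h Q)

end defs

section sub

variable {A B : Type u} [CommRing A] [CommRing B] [Algebra A B] (D : Subalgebra A B)

lemma isIntegral_subalgebra (hint : (algebraMap A B).IsIntegral) :
    (algebraMap A D).IsIntegral := by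
  intro d
  have h1 : IsIntegral A (d : B) := hint d
  exact (isIntegral_algHom_iff D.val Subtype.val_injective).mp h1

lemma isIntegral_top_subalgebra (hint : (algebraMap A B).IsIntegral) :
    Algebra.IsIntegral D B := by
  have : Algebra.IsIntegral A B := ⟨hint⟩
  exact Algebra.IsIntegral.tower_top (R := A)

lemma exists_prime_over_subalgebra (hint : (algebraMap A B).IsIntegral) (Q : Ideal D)
    (hQ : Q.IsPrime) : ∃ q' : Ideal B, q'.IsPrime ∧ q'.comap (algebraMap D B) = Q := by
  have := isIntegral_top_subalgebra D hint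
  obtain ⟨q', -, hq'p, hq'⟩ := Ideal.exists_ideal_over_prime_of_isIntegral Q (⊥ : Ideal B) (by
    rw [← RingHom.ker_eq_comap_bot,
      (RingHom.injective_iff_ker_eq_bot (algebraMap D B)).mp Subtype.val_injective]
    exact bot_le)
  exact ⟨q', hq'p, hq'⟩

lemma comap_comap_subalgebra (q' : Ideal B) :
    (q'.comap (algebraMap D B)).comap (algebraMap A D) = q'.comap (algebraMap A B) := by
  rw [Ideal.comap_comap]
  rfl

lemma fieldPtsInj_subalgebra (hint : (algebraMap A B).IsIntegral)
    (hpts : FieldPtsInj (algebraMap A B)) : FieldPtsInj (algebraMap A D) := by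
  intro K _ χ₁ χ₂ h
  have hintD : ((D.val : D →ₐ[A] B) : D →+* B).IsIntegral := by
    have := isIntegral_top_subalgebra D hint
    exact algebraMap_isIntegral_iff.mpr this
  have hinj : Function.Injective ((D.val : D →ₐ[A] B) : D →+* B) := Subtype.val_injective
  obtain ⟨K₁, _, j₁, ψ₁, h₁⟩ := exists_extend_fieldPt _ hintD hinj χ₁
  obtain ⟨K₂, _, j₂, ψ₂, h₂⟩ := exists_extend_fieldPt _ hintD hinj χ₂
  obtain ⟨Ω, _, i₁, i₂, hi⟩ := exists_common_field j₁ j₂
  have e4 : ∀ k : K, i₁ (j₁ k) = i₂ (j₂ k) := fun k => RingHom.congr_fun hi k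
  have hag : (i₁.comp ψ₁).comp (algebraMap A B) = (i₂.comp ψ₂).comp (algebraMap A B) := by
    ext a
    have e1 : ψ₁ (algebraMap A B a) = j₁ (χ₁ (algebraMap A D a)) :=
      RingHom.congr_fun h₁ (algebraMap A D a)
    have e2 : ψ₂ (algebraMap A B a) = j₂ (χ₂ (algebraMap A D a)) :=
      RingHom.congr_fun h₂ (algebraMap A D a)
    have e3 : χ₁ (algebraMap A D a) = χ₂ (algebraMap A D a) := RingHom.congr_fun h a
    simp only [RingHom.comp_apply]
    rw [e1, e2, e3, e4]
  have h3 := hpts Ω _ _ hag
  ext d
  have h4 : i₁ (ψ₁ d.1) = i₂ (ψ₂ d.1) := RingHom.congr_fun h3 d.1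
  have e1 : ψ₁ d.1 = j₁ (χ₁ d) := RingHom.congr_fun h₁ d
  have e2 : ψ₂ d.1 = j₂ (χ₂ d) := RingHom.congr_fun h₂ d
  rw [e1, e2, e4] at h4
  exact j₂.injective (i₂.injective h4)

lemma comap_surjective_subalgebra
    (hs : Function.Surjective (PrimeSpectrum.comap (algebraMap A B))) :
    Function.Surjective (PrimeSpectrum.comap (algebraMap A D)) := by
  intro P
  obtain ⟨Q, hQ⟩ := hs P
  refine ⟨PrimeSpectrum.comap (algebraMap D B) Q, ?_⟩
  rw [← hQ]
  apply PrimeSpectrum.ext
  exact comap_comap_subalgebra D Q.asIdeal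

lemma comap_injective_subalgebra (hint : (algebraMap A B).IsIntegral)
    (hi : Function.Injective (PrimeSpectrum.comap (algebraMap A B))) :
    ∀ Q Q' : Ideal D, Q.IsPrime → Q'.IsPrime →
      Q.comap (algebraMap A D) = Q'.comap (algebraMap A D) → Q = Q' := by
  intro Q Q' hQ hQ' hQQ'
  obtain ⟨q₁, hq₁p, hq₁⟩ := exists_prime_over_subalgebra D hint Q hQ
  obtain ⟨q₂, hq₂p, hq₂⟩ := exists_prime_over_subalgebra D hint Q' hQ'
  have h12 : q₁ = q₂ := by
    have h1 : (⟨q₁, hq₁p⟩ : PrimeSpectrum B) = ⟨q₂, hq₂p⟩ := by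
      apply hi
      apply PrimeSpectrum.ext
      change q₁.comap (algebraMap A B) = q₂.comap (algebraMap A B)
      rw [← comap_comap_subalgebra D, ← comap_comap_subalgebra D, hq₁, hq₂, hQQ']
    exact congrArg PrimeSpectrum.asIdeal h1
  rw [← hq₁, ← hq₂, h12]

lemma resTriv_subalgebra (hint : (algebraMap A B).IsIntegral)
    (hres : ResTriv (algebraMap A B)) : ResTriv (algebraMap A D) := by
  intro Q hQ d
  obtain ⟨q', hq'p, hq'⟩ := exists_prime_over_subalgebra D hint Q hQ
  obtain ⟨s, hs, c, hc⟩ := hres q' hq'p d.1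
  refine ⟨s, ?_, c, ?_⟩
  · rw [← hq', comap_comap_subalgebra]
    exact hs
  · rw [← hq', Ideal.mem_comap]
    exact hc

end sub

section step

variable {C B : Type u} [CommRing C] [CommRing B] [Algebra C B]

/-- **Stacks 0CNA** (ring level, no finiteness): a non-surjective injective integral extension
which is injective on spectra with trivial residue field extensions contains `b ∉ C` with
`b², b³ ∈ C`. -/
theorem exists_sq_cube_of_resTriv (hinj : Function.Injective (algebraMap C B))
    (hint : (algebraMap C B).IsIntegral)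
    (hspec : Function.Injective (PrimeSpectrum.comap (algebraMap C B)))
    (hres : ResTriv (algebraMap C B)) (hns : ¬ Function.Surjective (algebraMap C B)) :
    ∃ b : B, b ∉ (algebraMap C B).range ∧ b ^ 2 ∈ (algebraMap C B).range ∧
      b ^ 3 ∈ (algebraMap C B).range := by
  have hex : ∃ b₀ : B, b₀ ∉ (algebraMap C B).range := by
    by_contra hall
    push Not at hall
    exact hns (fun b => hall b)
  obtain ⟨b₀, hb₀⟩ := hex
  let D : Subalgebra C B := Algebra.adjoin C {b₀}
  have hfin : Module.Finite C D := Algebra.finite_adjoin_simple_of_isIntegral (hint b₀)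
  have hinjD : Function.Injective (algebraMap C D) := fun a a' h =>
    hinj (congrArg Subtype.val h)
  have hnsD : ¬ Function.Surjective (algebraMap C D) := by
    intro hs
    obtain ⟨c, hc⟩ := hs ⟨b₀, Algebra.subset_adjoin rfl⟩
    exact hb₀ ⟨c, congrArg Subtype.val hc⟩
  have hresD := resTriv_subalgebra D hint hres
  obtain ⟨b, hb1, hb2, hb3⟩ := exists_sq_cube_mem_of_subintegral hinjD
    (comap_injective_subalgebra D hint hspec)
    (fun Q hQ d => by
      obtain ⟨s, hs, c, hc⟩ := hresD Q hQ d
      refine ⟨s, hs, c, ?_⟩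
      rw [Algebra.smul_def]
      exact hc) hnsD
  refine ⟨b.1, ?_, ?_, ?_⟩
  · rintro ⟨c, hc⟩
    exact hb1 ⟨c, Subtype.ext hc⟩
  · obtain ⟨c, hc⟩ := hb2
    exact ⟨c, congrArg Subtype.val hc⟩
  · obtain ⟨c, hc⟩ := hb3
    exact ⟨c, congrArg Subtype.val hc⟩

end step

end Groth.Agent.Lib.Helper69.UHRing
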