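import Mathlib

/-!
# Chains of elementary extensions `A[b₁,…,bₙ]` with a step condition on each `bᵢ`
-/

universe u

namespace Groth.Agent.Lib.Helper69.ElemChain

variable {A B : Type u} [CommRing A] [CommRing B] [Algebra A B]

/-- the set of entries of `l` before position `i`, as written in the milestone statements -/
def pre (l : List B) (i : Fin l.length) : Set B :=
  {b : B | ∃ j : Fin l.length, j < i ∧ b = l.get j}

variable (step : Subalgebra A B → B → Prop)

/-- recursive chain predicate relative to an already available set `S` -/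
def ChainR (S : Set B) : List B → Prop
  | [] => True
  | b :: l => step (Algebra.adjoin A S) b ∧ ChainR (insert b S) l

variable {step}
variable (hmono : ∀ (T T' : Subalgebra A B) (b : B), T ≤ T' → step T b → step T' b)

include hmono in
lemma chainR_mono {S S' : Set B} (h : S ⊆ S') (l : List B) (hl : ChainR step S l) :
    ChainR step S' l := by
  induction l generalizing S S' with
  | nil => trivial
  | cons b l ih =>
    exact ⟨hmono _ _ b (Algebra.adjoin_mono h) hl.1, ih (Set.insert_subset_insert h) hl.2⟩

include hmono in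
lemma chainR_append {S : Set B} (l₁ l₂ : List B) (h₁ : ChainR step S l₁)
    (h₂ : ChainR step (S ∪ {x | x ∈ l₁}) l₂) : ChainR step S (l₁ ++ l₂) := by
  induction l₁ generalizing S with
  | nil =>
    simpa using h₂
  | cons b l ih =>
    refine ⟨h₁.1, ih h₁.2 ?_⟩
    refine chainR_mono hmono ?_ l₂ h₂
    intro x hx
    rcases hx with hx | hx
    · exact Or.inl (Set.mem_insert_of_mem _ hx)
    · rcases List.mem_cons.mp hx with rfl | hx'
      · exact Or.inl (Set.mem_insert _ _)
      · exact Or.inr hx'

include hmono in
lemma chainR_append' (l₁ l₂ : List B) (h₁ : ChainR step ∅ l₁) (h₂ : ChainR step ∅ l₂) :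
    ChainR step ∅ (l₁ ++ l₂) :=
  chainR_append hmono l₁ l₂ h₁ (chainR_mono hmono (Set.empty_subset _) l₂ h₂)

include hmono in
lemma chainR_snoc (l : List B) (b : B) (h₁ : ChainR step ∅ l)
    (hb : step (Algebra.adjoin A {x | x ∈ l}) b) : ChainR step ∅ (l ++ [b]) := by
  apply chainR_append hmono l [b] h₁
  refine ⟨?_, trivial⟩
  rw [Set.empty_union]
  exact hb

include hmono in
/-- from the recursive predicate to the indexed form used in the statements -/
lemma chainR_get {S : Set B} (l : List B) (hl : ChainR step S l) (i : Fin l.length) :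
    step (Algebra.adjoin A (S ∪ pre l i)) (l.get i) := by
  induction l generalizing S with
  | nil => exact i.elim0
  | cons b l ih =>
    refine Fin.cases ?_ (fun j => ?_) i
    · exact hmono _ _ _ (Algebra.adjoin_mono Set.subset_union_left) hl.1
    · have h1 := ih hl.2 j
      refine hmono _ _ _ (Algebra.adjoin_mono ?_) h1
      intro x hx
      rcases hx with hx | hx
      · rcases hx with rfl | hx
        · exact Or.inr ⟨⟨0, Nat.succ_pos _⟩, Fin.succ_pos j, rfl⟩
        · exact Or.inl hx
      · obtain ⟨k, hk, rfl⟩ := hx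
        exact Or.inr ⟨k.succ, Fin.succ_lt_succ_iff.mpr hk, rfl⟩

include hmono in
/-- the indexed chain condition forces all entries into any `step`-closed subalgebra -/
lemma mem_of_indexed (T : Subalgebra A B) (hT : ∀ b, step T b → b ∈ T) (l : List B)
    (hl : ∀ i : Fin l.length, step (Algebra.adjoin A (pre l i)) (l.get i)) :
    ∀ i : Fin l.length, l.get i ∈ T := by
  have key : ∀ (n : ℕ) (i : Fin l.length), i.val = n → l.get i ∈ T := by
    intro n
    induction n using Nat.strong_induction_on with
    | _ n ih =>
      intro i hi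
      apply hT
      refine hmono _ _ _ ?_ (hl i)
      apply Algebra.adjoin_le
      rintro x ⟨j, hj, rfl⟩
      exact ih j.val (by rw [← hi]; exact hj) j rfl
  exact fun i => key i.val i rfl

include hmono in
lemma adjoin_le_of_indexed (T : Subalgebra A B) (hT : ∀ b, step T b → b ∈ T) (l : List B)
    (hl : ∀ i : Fin l.length, step (Algebra.adjoin A (pre l i)) (l.get i)) :
    Algebra.adjoin A {b : B | b ∈ l} ≤ T := by
  apply Algebra.adjoin_le
  intro x hx
  obtain ⟨i, rfl⟩ := List.mem_iff_get.mp hx
  exact mem_of_indexed hmono T hT l hl i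

variable (step) in
/-- the union of all chain-generated subalgebras -/
def Bstar : Subalgebra A B where
  carrier := {b | ∃ l : List B, ChainR step ∅ l ∧ b ∈ Algebra.adjoin A {x | x ∈ l}}
  mul_mem' := by
    rintro x y ⟨l₁, h₁, hx⟩ ⟨l₂, h₂, hy⟩
    refine ⟨l₁ ++ l₂, chainR_append' hmono l₁ l₂ h₁ h₂, ?_⟩
    refine Subalgebra.mul_mem _ (Algebra.adjoin_mono ?_ hx) (Algebra.adjoin_mono ?_ hy)
    · intro z hz; exact List.mem_append_left _ hz
    · intro z hz; exact List.mem_append_right _ hz
  add_mem' := by
    rintro x y ⟨l₁, h₁, hx⟩ ⟨l₂, h₂, hy⟩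
    refine ⟨l₁ ++ l₂, chainR_append' hmono l₁ l₂ h₁ h₂, ?_⟩
    refine Subalgebra.add_mem _ (Algebra.adjoin_mono ?_ hx) (Algebra.adjoin_mono ?_ hy)
    · intro z hz; exact List.mem_append_left _ hz
    · intro z hz; exact List.mem_append_right _ hz
  algebraMap_mem' := fun a => ⟨[], trivial, Subalgebra.algebraMap_mem _ a⟩

include hmono in
/-- finitely many elements of `Bstar` lie in one chain-generated subalgebra -/
lemma exists_chain_of_finset (E : Finset B) (hE : ∀ b ∈ E, b ∈ Bstar step hmono) :
    ∃ l : List B, ChainR step ∅ l ∧ (↑E : Set B) ⊆ Algebra.adjoin A {x | x ∈ l} := by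
  classical
  induction E using Finset.induction_on with
  | empty => exact ⟨[], trivial, by simp⟩
  | insert b E _ ih =>
    obtain ⟨l₁, h₁, hE₁⟩ := ih (fun x hx => hE x (Finset.mem_insert_of_mem hx))
    obtain ⟨l₂, h₂, hb⟩ := hE b (Finset.mem_insert_self b E)
    refine ⟨l₁ ++ l₂, chainR_append' hmono l₁ l₂ h₁ h₂, ?_⟩
    intro x hx
    rw [Finset.coe_insert] at hx
    rcases hx with rfl | hx
    · exact Algebra.adjoin_mono (fun z hz => List.mem_append_right _ hz) hb
    · exact Algebra.adjoin_mono (fun z hz => List.mem_append_left _ hz) (hE₁ hx)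

include hmono in
/-- output in the indexed form of the milestone statements -/
lemma exists_indexed_of_finset (E : Finset B) (hE : ∀ b ∈ E, b ∈ Bstar step hmono) :
    ∃ l : List B, (↑E : Set B) ⊆ Algebra.adjoin A {b : B | b ∈ l} ∧
      ∀ i : Fin l.length, step (Algebra.adjoin A (pre l i)) (l.get i) := by
  obtain ⟨l, hl, hE'⟩ := exists_chain_of_finset hmono E hE
  refine ⟨l, hE', fun i => ?_⟩
  have := chainR_get hmono l hl i
  rwa [Set.empty_union] at this

end Groth.Agent.Lib.Helper69.ElemChain
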