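import Mathlib
import Groth.Prelude.Def_HTop2
import Groth.Agent.Lib.Helper69.UHRing

/-!
# More ring-level calculus: universally injective / universally closed `Spec.map`
-/

open AlgebraicGeometry CategoryTheory
universe u

namespace Groth.Agent.Lib.Helper69.UHRing

variable {A B : Type u} [CommRing A] [CommRing B]

theorem universallyInjective_SpecMap_iff (φ : A →+* B) :
    UniversallyInjective (Spec.map (CommRingCat.ofHom φ)) ↔ FieldPtsInj φ := by
  have hiff : UniversallyInjective (Spec.map (CommRingCat.ofHom φ)) ↔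
      ∀ (K : Type u) [Field K], Function.Injective
        (fun g : Spec (.of K) ⟶ Spec (CommRingCat.of B) => g ≫ Spec.map (CommRingCat.ofHom φ)) :=
    (tfae_universallyInjective (Spec.map (CommRingCat.ofHom φ))).out 0 1
  rw [hiff]
  constructor
  · intro h3' K _ χ₁ χ₂ hχ
    have h4 : Spec.map (CommRingCat.ofHom χ₁) ≫ Spec.map (CommRingCat.ofHom φ) =
        Spec.map (CommRingCat.ofHom χ₂) ≫ Spec.map (CommRingCat.ofHom φ) := by
      rw [← Spec.map_comp, ← Spec.map_comp]
      congr 1
      apply CommRingCat.hom_ext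
      exact hχ
    have h5 := Spec.map_injective (h3' K h4)
    exact congrArg CommRingCat.Hom.hom h5
  · intro hpts K _ g₁ g₂ hg
    obtain ⟨χ₁, rfl⟩ := Spec.map_surjective g₁
    obtain ⟨χ₂, rfl⟩ := Spec.map_surjective g₂
    simp only [← Spec.map_comp] at hg
    have h2 := Spec.map_injective hg
    have h3 : χ₁.hom.comp φ = χ₂.hom.comp φ := congrArg CommRingCat.Hom.hom h2
    have h4 := hpts K χ₁.hom χ₂.hom h3
    congr 1
    exact CommRingCat.hom_ext h4

theorem universallyClosed_SpecMap_iff (φ : A →+* B) :
    UniversallyClosed (Spec.map (CommRingCat.ofHom φ)) ↔ φ.IsIntegral := by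
  constructor
  · intro h
    have h4 : IsIntegralHom (Spec.map (CommRingCat.ofHom φ)) :=
      IsIntegralHom.iff_universallyClosed_and_isAffineHom.mpr ⟨h, inferInstance⟩
    exact IsIntegralHom.SpecMap_iff.mp h4
  · intro h
    have h1 : IsIntegralHom (Spec.map (CommRingCat.ofHom φ)) := IsIntegralHom.SpecMap_iff.mpr h
    infer_instance

end Groth.Agent.Lib.Helper69.UHRing
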