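import Mathlib
import Groth.Prelude.Def_HTop2
import Groth.Agent.Lib.Helper69.UHRing2
import Groth.Agent.Lib.Helper69.ElemChain

/-!
# Stacks 0CNB: subintegral extensions are filtered unions of chains of elementary extensions
-/

open AlgebraicGeometry CategoryTheory
universe u

namespace Groth.Agent.Lib.Helper69.ElemChainSN

open Groth.Agent.Lib.Helper69.UHRing Groth.Agent.Lib.Helper69.ElemChain

variable {A B : Type u} [CommRing A] [CommRing B] [Algebra A B]

/-- the seminormal step -/
def stepSN (T : Subalgebra A B) (b : B) : Prop := b ^ 2 ∈ T ∧ b ^ 3 ∈ T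

lemma stepSN_mono (T T' : Subalgebra A B) (b : B) (h : T ≤ T') (hb : stepSN T b) :
    stepSN T' b := ⟨h hb.1, h hb.2⟩

/-- elements whose residues at all primes come from `A` -/
def resSub' : Subalgebra A B where
  carrier := {d | ∀ q' : Ideal B, q'.IsPrime →
      ∃ s : A, s ∉ q'.comap (algebraMap A B) ∧
        ∃ c : A, algebraMap A B s * d - algebraMap A B c ∈ q'}
  mul_mem' := by
    intro d₁ d₂ h₁ h₂ q' hq'
    obtain ⟨s₁, hs₁, c₁, hc₁⟩ := h₁ q' hq'
    obtain ⟨s₂, hs₂, c₂, hc₂⟩ := h₂ q' hq'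
    have hp : (q'.comap (algebraMap A B)).IsPrime := Ideal.comap_isPrime _ q'
    refine ⟨s₁ * s₂, fun h => (hp.mem_or_mem h).elim hs₁ hs₂, c₁ * c₂, ?_⟩
    have e : algebraMap A B (s₁ * s₂) * (d₁ * d₂) - algebraMap A B (c₁ * c₂) =
        (algebraMap A B s₁ * d₁) * (algebraMap A B s₂ * d₂ - algebraMap A B c₂) +
          algebraMap A B c₂ * (algebraMap A B s₁ * d₁ - algebraMap A B c₁) := by
      rw [map_mul, map_mul]; ring
    rw [e]
    exact q'.add_mem (q'.mul_mem_left _ hc₂) (q'.mul_mem_left _ hc₁)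
  add_mem' := by
    intro d₁ d₂ h₁ h₂ q' hq'
    obtain ⟨s₁, hs₁, c₁, hc₁⟩ := h₁ q' hq'
    obtain ⟨s₂, hs₂, c₂, hc₂⟩ := h₂ q' hq'
    have hp : (q'.comap (algebraMap A B)).IsPrime := Ideal.comap_isPrime _ q'
    refine ⟨s₁ * s₂, fun h => (hp.mem_or_mem h).elim hs₁ hs₂, s₂ * c₁ + s₁ * c₂, ?_⟩
    have e : algebraMap A B (s₁ * s₂) * (d₁ + d₂) - algebraMap A B (s₂ * c₁ + s₁ * c₂) =
        algebraMap A B s₂ * (algebraMap A B s₁ * d₁ - algebraMap A B c₁) +
          algebraMap A B s₁ * (algebraMap A B s₂ * d₂ - algebraMap A B c₂) := by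
      rw [map_mul, map_add, map_mul, map_mul]; ring
    rw [e]
    exact q'.add_mem (q'.mul_mem_left _ hc₁) (q'.mul_mem_left _ hc₂)
  algebraMap_mem' := by
    intro c₀ q' hq'
    have hp : (q'.comap (algebraMap A B)).IsPrime := Ideal.comap_isPrime _ q'
    refine ⟨1, fun h => hp.ne_top ((Ideal.eq_top_iff_one _).mpr h), c₀, ?_⟩
    have : algebraMap A B 1 * (algebraMap A B c₀) - algebraMap A B c₀ = 0 := by
      rw [map_one, one_mul]
      exact sub_self _
    rw [this]
    exact q'.zero_mem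

lemma resTriv_of_resSub'_eq_top (h : (resSub' : Subalgebra A B) = ⊤) :
    ResTriv (algebraMap A B) := by
  intro Q hQ b
  have hb : b ∈ (resSub' : Subalgebra A B) := by rw [h]; trivial
  exact hb Q hQ

lemma resSub'_closed (b : B) (hb : stepSN (resSub' : Subalgebra A B) b) :
    b ∈ (resSub' : Subalgebra A B) := by
  intro Q hQ
  have hp : (Q.comap (algebraMap A B)).IsPrime := Ideal.comap_isPrime _ Q
  by_cases hbQ : b ∈ Q
  · refine ⟨1, fun h => hp.ne_top ((Ideal.eq_top_iff_one _).mpr h), 0, ?_⟩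
    rw [map_one, one_mul, map_zero, sub_zero]
    exact hbQ
  · obtain ⟨s₂, hs₂, a₂, h2⟩ := hb.1 Q hQ
    obtain ⟨s₃, hs₃, a₃, h3⟩ := hb.2 Q hQ
    have ha₂ : a₂ ∉ Q.comap (algebraMap A B) := by
      intro ha
      have h4 : algebraMap A B s₂ * b ^ 2 ∈ Q := by
        have := Q.add_mem h2 ha
        rwa [sub_add_cancel] at this
      rcases hQ.mem_or_mem h4 with h5 | h5
      · exact hs₂ h5
      · exact hbQ (hQ.mem_of_pow_mem 2 h5)
    refine ⟨s₃ * a₂, fun h => (hp.mem_or_mem h).elim hs₃ ha₂, a₃ * s₂, ?_⟩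
    have e : algebraMap A B (s₃ * a₂) * b - algebraMap A B (a₃ * s₂) =
        algebraMap A B s₂ * (algebraMap A B s₃ * b ^ 3 - algebraMap A B a₃) -
          algebraMap A B s₃ * b * (algebraMap A B s₂ * b ^ 2 - algebraMap A B a₂) := by
      rw [map_mul, map_mul]; ring
    rw [e]
    exact Q.sub_mem (Q.mul_mem_left _ h3) (Q.mul_mem_left _ h2)

lemma integralClosure_closed (b : B) (hb : stepSN (integralClosure A B) b) :
    b ∈ integralClosure A B :=
  IsIntegral.of_pow (by norm_num : 0 < 2) hb.1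

/-- two field points agreeing on `A` and on `b², b³` agree on `b` -/
lemma eq_of_sq_cube_eq {K : Type*} [Field K] (x y : K) (h2 : x ^ 2 = y ^ 2) (h3 : x ^ 3 = y ^ 3) :
    x = y := by
  by_cases hx : x = 0
  · rw [hx] at h2 ⊢
    have : y ^ 2 = 0 := by rw [← h2]; ring
    exact (pow_eq_zero_iff (by norm_num)).mp this |>.symm
  · have hx2 : x ^ 2 ≠ 0 := pow_ne_zero 2 hx
    have e1 : x = x ^ 3 / x ^ 2 := by field_simp
    have hy2 : y ^ 2 ≠ 0 := by rw [← h2]; exact hx2
    have hy : y ≠ 0 := fun h => hy2 (by rw [h]; ring)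
    have e2 : y = y ^ 3 / y ^ 2 := by field_simp
    rw [e1, e2, h2, h3]

section backward

variable (hchain : ∀ E : Finset B, ∃ l : List B,
    (↑E : Set B) ⊆ Algebra.adjoin A {b : B | b ∈ l} ∧
      ∀ i : Fin l.length, stepSN (Algebra.adjoin A (pre l i)) (l.get i))

include hchain in
lemma eq_top_of_closed (T : Subalgebra A B) (hT : ∀ b, stepSN T b → b ∈ T) : T = ⊤ := by
  rw [eq_top_iff]
  intro b _
  obtain ⟨l, hE, hl⟩ := hchain {b}
  have h1 := adjoin_le_of_indexed stepSN_mono T hT l hl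
  exact h1 (hE (by simp))

include hchain in
lemma isIntegral_of_chain : (algebraMap A B).IsIntegral := by
  have h := eq_top_of_closed hchain (integralClosure A B) integralClosure_closed
  intro b
  have : b ∈ integralClosure A B := by rw [h]; trivial
  exact this

include hchain in
lemma fieldPtsInj_of_chain : FieldPtsInj (algebraMap A B) := by
  intro K _ χ₁ χ₂ hχ
  let _ : Algebra A K := (χ₁.comp (algebraMap A B)).toAlgebra
  let f₁ : B →ₐ[A] K := { χ₁ with commutes' := fun a => rfl }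
  let f₂ : B →ₐ[A] K := { χ₂ with commutes' := fun a => (RingHom.congr_fun hχ a).symm }
  have h := eq_top_of_closed hchain (AlgHom.equalizer f₁ f₂) (by
    intro b hb
    rw [AlgHom.mem_equalizer]
    have h2 : f₁ (b ^ 2) = f₂ (b ^ 2) := hb.1
    have h3 : f₁ (b ^ 3) = f₂ (b ^ 3) := hb.2
    rw [map_pow, map_pow] at h2 h3
    exact eq_of_sq_cube_eq _ _ h2 h3)
  ext b
  have hb : b ∈ AlgHom.equalizer f₁ f₂ := by rw [h]; trivial
  exact hb

include hchain in
lemma resTriv_of_chain : ResTriv (algebraMap A B) :=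
  resTriv_of_resSub'_eq_top (eq_top_of_closed hchain resSub' resSub'_closed)

end backward

section forward

/-- `Bstar` for the seminormal step is everything, for a subintegral extension. -/
theorem bstar_eq_top (hint : (algebraMap A B).IsIntegral)
    (hspec : Function.Injective (PrimeSpectrum.comap (algebraMap A B)))
    (hres : ResTriv (algebraMap A B)) :
    Bstar (A := A) (B := B) stepSN stepSN_mono = ⊤ := by
  classical
  set T := Bstar (A := A) (B := B) stepSN stepSN_mono with hT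
  by_contra hne
  have hns : ¬ Function.Surjective (algebraMap T B) := by
    intro hs
    apply hne
    rw [eq_top_iff]
    intro b _
    obtain ⟨t, ht⟩ := hs b
    rw [← ht]
    exact t.2
  have hintT : (algebraMap T B).IsIntegral := by
    have := isIntegral_top_subalgebra T hint
    exact algebraMap_isIntegral_iff.mpr this
  have hspecT : Function.Injective (PrimeSpectrum.comap (algebraMap T B)) := by
    intro Q₁ Q₂ h
    apply hspec
    have h1 := congrArg (PrimeSpectrum.comap (algebraMap A T)) h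
    apply PrimeSpectrum.ext
    have h2 := congrArg PrimeSpectrum.asIdeal h1
    change (Q₁.asIdeal.comap (algebraMap T B)).comap (algebraMap A T) =
      (Q₂.asIdeal.comap (algebraMap T B)).comap (algebraMap A T) at h2
    rw [comap_comap_subalgebra, comap_comap_subalgebra] at h2
    exact h2
  have hresT : ResTriv (algebraMap T B) := by
    intro Q hQ b
    obtain ⟨s, hs, a, ha⟩ := hres Q hQ b
    exact ⟨algebraMap A T s, hs, algebraMap A T a, ha⟩
  obtain ⟨b, hb1, hb2, hb3⟩ := exists_sq_cube_of_resTriv (C := T) (B := B)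
    Subtype.val_injective hintT hspecT hresT hns
  apply hb1
  obtain ⟨t₂, ht₂⟩ := hb2
  obtain ⟨t₃, ht₃⟩ := hb3
  have hE : ∀ x ∈ ({b ^ 2, b ^ 3} : Finset B), x ∈ T := by
    intro x hx
    rw [Finset.mem_insert, Finset.mem_singleton] at hx
    rcases hx with rfl | rfl
    · rw [← ht₂]; exact t₂.2
    · rw [← ht₃]; exact t₃.2
  obtain ⟨l, hl, hEl⟩ := exists_chain_of_finset stepSN_mono {b ^ 2, b ^ 3} hE
  have hbT : b ∈ T := by
    refine ⟨l ++ [b], chainR_snoc stepSN_mono l b hl ⟨hEl (by simp), hEl (by simp)⟩, ?_⟩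
    apply Algebra.subset_adjoin
    simp
  exact ⟨⟨b, hbT⟩, rfl⟩

end forward

end Groth.Agent.Lib.Helper69.ElemChainSN
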