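import Mathlib

/-!
# Symmetric tensors over a purely inseparable field extension multiply into the base field
-/

universe u

open scoped TensorProduct

namespace Groth.Agent.Lib.Helper69.SymTenField

section sumlemma

variable {X R : Type*} [Fintype X] [DecidableEq X] [CommRing R]

/-- In characteristic `p`, the sum of a `σ`-invariant function, `σ` of `p`-power order, is the sum
over the fixed points of `σ`. -/
lemma sum_eq_sum_fixed (p n : ℕ) [Fact p.Prime] [CharP R p] (σ : Equiv.Perm X)
    (hσ : σ ^ p ^ n = 1) (φ : X → R) (hφ : ∀ x, φ (σ x) = φ x) :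
    ∑ x, φ x = ∑ x ∈ Finset.univ.filter (fun x => σ x = x), φ x := by
  classical
  have key : ∀ y : R, ((Finset.univ.filter (fun x => φ x = y)).card : R) =
      ((Finset.univ.filter (fun x => σ x = x ∧ φ x = y)).card : R) := by
    intro y
    rw [CharP.natCast_eq_natCast R p]
    let σ' : Equiv.Perm {x // φ x = y} := σ.subtypePerm (fun x => by rw [hφ])
    have hσ' : σ' ^ p ^ n = 1 := by
      rw [Equiv.Perm.subtypePerm_pow]
      ext x
      simp [hσ]
    have h1 := Equiv.Perm.card_compl_support_modEq hσ'
    have h2 : Fintype.card {x // φ x = y} = (Finset.univ.filter (fun x => φ x = y)).card :=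
      Fintype.card_subtype _
    have h3 : σ'.supportᶜ.card = (Finset.univ.filter (fun x => σ x = x ∧ φ x = y)).card := by
      apply Finset.card_bij (fun z _ => z.1)
      · intro z hz
        rw [Finset.mem_compl, Equiv.Perm.mem_support, not_not] at hz
        rw [Finset.mem_filter]
        refine ⟨Finset.mem_univ _, ?_, z.2⟩
        exact congrArg Subtype.val hz
      · intro z _ z' _ h
        exact Subtype.ext h
      · intro x hx
        rw [Finset.mem_filter] at hx
        refine ⟨⟨x, hx.2.2⟩, ?_, rfl⟩
        rw [Finset.mem_compl, Equiv.Perm.mem_support, not_not]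
        exact Subtype.ext hx.2.1
    rw [← h2, ← h3]
    exact h1.symm
  calc ∑ x, φ x = ∑ y ∈ Finset.univ.image φ, ∑ x ∈ Finset.univ.filter (fun x => φ x = y), φ x :=
        (Finset.sum_fiberwise_of_maps_to (fun x _ => Finset.mem_image_of_mem φ (Finset.mem_univ x))
          φ).symm
    _ = ∑ y ∈ Finset.univ.image φ, ((Finset.univ.filter (fun x => φ x = y)).card : R) * y := by
        apply Finset.sum_congr rfl
        intro y _
        rw [Finset.sum_congr rfl (fun x hx => (Finset.mem_filter.mp hx).2), Finset.sum_const,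
          nsmul_eq_mul]
    _ = ∑ y ∈ Finset.univ.image φ,
          ((Finset.univ.filter (fun x => σ x = x ∧ φ x = y)).card : R) * y := by
        apply Finset.sum_congr rfl
        intro y _
        rw [key]
    _ = ∑ y ∈ Finset.univ.image φ,
          ∑ x ∈ (Finset.univ.filter (fun x => σ x = x)).filter (fun x => φ x = y), φ x := by
        apply Finset.sum_congr rfl
        intro y _
        rw [Finset.sum_congr rfl (fun x hx => (Finset.mem_filter.mp hx).2), Finset.sum_const,
          nsmul_eq_mul, Finset.filter_filter]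
    _ = ∑ x ∈ Finset.univ.filter (fun x => σ x = x), φ x :=
        Finset.sum_fiberwise_of_maps_to
          (fun x _ => Finset.mem_image_of_mem φ (Finset.mem_univ x)) φ

end sumlemma

section field

open Module PiTensorProduct Polynomial
open scoped Fin.NatCast

variable {K K' : Type u} [Field K] [Field K'] [Algebra K K']

lemma pow_finrank_mem_range (p : ℕ) [Fact p.Prime] [ExpChar K p] [IsPurelyInseparable K K']
    [FiniteDimensional K K'] (k : ℕ) (hk : Module.finrank K K' = p ^ k) (z : K') :
    z ^ (p ^ k) ∈ (algebraMap K K').range := by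
  obtain ⟨n, y, hy⟩ := IsPurelyInseparable.minpoly_eq_X_pow_sub_C K p z
  have hz : IsIntegral K z := Algebra.IsIntegral.isIntegral z
  have hp1 : 1 < p := (Fact.out : p.Prime).one_lt
  have hdeg : (minpoly K z).natDegree = p ^ n := by
    rw [hy, natDegree_X_pow_sub_C]
  have hdvd := minpoly.degree_dvd (K := K) (L := K') hz
  rw [hdeg, hk] at hdvd
  have hnk : n ≤ k := (Nat.pow_dvd_pow_iff_le_right hp1).mp hdvd
  have h1 : z ^ p ^ n = algebraMap K K' y := by
    have := minpoly.aeval K z
    rw [hy] at this
    simpa [sub_eq_zero] using this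
  refine ⟨y ^ p ^ (k - n), ?_⟩
  rw [map_pow, ← h1, ← pow_mul, ← pow_add, Nat.add_sub_cancel' hnk]

variable {ι : Type*} [Fintype ι] [DecidableEq ι]

omit [Fintype ι] [DecidableEq ι] in
lemma repr_reindex (b : Basis ι K K') (d : ℕ) (σ : Equiv.Perm (Fin d))
    (t : ⨂[K] _ : Fin d, K') (g : Fin d → ι) :
    (Basis.piTensorProduct (fun _ : Fin d => b)).repr
        (PiTensorProduct.reindex K (fun _ : Fin d => K') σ t) g =
      (Basis.piTensorProduct (fun _ : Fin d => b)).repr t (fun i => g (σ i)) := by
  induction t using PiTensorProduct.induction_on with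
  | smul_tprod r f =>
    rw [map_smul, map_smul, map_smul, PiTensorProduct.reindex_tprod]
    simp only [Finsupp.smul_apply]
    congr 1
    rw [Basis.piTensorProduct_repr_tprod_apply, Basis.piTensorProduct_repr_tprod_apply]
    apply Fintype.prod_equiv σ.symm
    intro i
    simp
  | add x y hx hy =>
    rw [map_add, map_add, map_add, Finsupp.add_apply, Finsupp.add_apply, hx, hy]

/-- Core computation: a symmetric tensor of degree `r * m` multiplies into the base field, where
`r` is a power of the characteristic `p` with `z ^ r ∈ K` for all `z`. -/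
theorem mul_mem_range_aux (p k : ℕ) [Fact p.Prime] [CharP K' p] (r m : ℕ) [NeZero r]
    (hr : r = p ^ k) (b : Basis ι K K')
    (hpow : ∀ z : K', z ^ r ∈ (algebraMap K K').range)
    (y : ⨂[K] _ : Fin (r * m), K')
    (hy : ∀ σ : Equiv.Perm (Fin (r * m)),
      PiTensorProduct.reindex K (fun _ : Fin (r * m) => K') σ y = y) :
    PiTensorProduct.lift (MultilinearMap.mkPiAlgebra K (Fin (r * m)) K') y ∈
      (algebraMap K K').range := by
  classical
  set 𝔅 := Basis.piTensorProduct (fun _ : Fin (r * m) => b) with h𝔅
  set c := 𝔅.repr y with hc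
  have hsym : ∀ (σ : Equiv.Perm (Fin (r * m))) (g : Fin (r * m) → ι),
      c (fun i => g (σ i)) = c g := by
    intro σ g
    rw [hc, ← repr_reindex b (r * m) σ y g, hy σ]
  let φ : (Fin (r * m) → ι) → K' := fun f => c f • ∏ i, b (f i)
  have hmul : PiTensorProduct.lift (MultilinearMap.mkPiAlgebra K (Fin (r * m)) K') y =
      ∑ f, φ f := by
    conv_lhs => rw [← 𝔅.sum_repr y]
    rw [map_sum]
    apply Finset.sum_congr rfl
    intro f _
    rw [map_smul, h𝔅, Basis.piTensorProduct_apply, PiTensorProduct.lift.tprod,
      MultilinearMap.mkPiAlgebra_apply]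
  rw [hmul]
  let ε : Fin r × Fin m ≃ Fin (r * m) := finProdFinEquiv
  let E : (Fin r × Fin m → ι) ≃ (Fin (r * m) → ι) := Equiv.arrowCongr ε (Equiv.refl ι)
  have hE : ∀ (f' : Fin r × Fin m → ι) (i : Fin (r * m)), E f' i = f' (ε.symm i) := fun _ _ => rfl
  rw [← Fintype.sum_equiv E (fun f' => φ (E f')) φ (fun _ => rfl)]
  let σX : Equiv.Perm (Fin r × Fin m → ι) :=
    { toFun := fun f' ab => f' (ab.1 + 1, ab.2)
      invFun := fun f' ab => f' (ab.1 - 1, ab.2)
      left_inv := fun f' => by funext ab; simp
      right_inv := fun f' => by funext ab; simp }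
  have hσXpow : ∀ (j : ℕ) (f' : Fin r × Fin m → ι) (ab : Fin r × Fin m),
      (σX ^ j) f' ab = f' (ab.1 + (j : Fin r), ab.2) := by
    intro j
    induction j with
    | zero => intro f' ab; simp
    | succ j ih =>
      intro f' ab
      rw [pow_succ, Equiv.Perm.mul_apply, ih]
      change f' (ab.1 + (j : Fin r) + 1, ab.2) = _
      rw [Nat.cast_succ, add_assoc]
  have hσX : σX ^ p ^ k = 1 := by
    ext f' ab
    rw [hσXpow, ← hr, Fin.natCast_self, add_zero]
    rfl
  have hinv : ∀ f', φ (E (σX f')) = φ (E f') := by
    intro f'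
    let τ : Equiv.Perm (Fin (r * m)) :=
      ε.symm.trans (((Equiv.addRight (1 : Fin r)).prodCongr (Equiv.refl (Fin m))).trans ε)
    have h1 : E (σX f') = fun i => E f' (τ i) := by
      funext i
      simp [hE, τ, σX]
      rfl
    change c (E (σX f')) • ∏ i, b (E (σX f') i) = c (E f') • ∏ i, b (E f' i)
    rw [h1, hsym τ (E f')]
    congr 1
    exact Equiv.prod_comp τ (fun i => b (E f' i))
  rw [sum_eq_sum_fixed p k σX hσX (fun f' => φ (E f')) hinv]
  apply Subring.sum_mem
  intro f' hf'
  rw [Finset.mem_filter] at hf'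
  have hfix : ∀ ab : Fin r × Fin m, f' (ab.1 + 1, ab.2) = f' ab := fun ab => congrFun hf'.2 ab
  have hconst : ∀ (n : ℕ) (b' : Fin m), f' ((n : Fin r), b') = f' (0, b') := by
    intro n b'
    induction n with
    | zero => simp
    | succ n ih => rw [Nat.cast_succ, hfix ((n : Fin r), b'), ih]
  have hconst' : ∀ ab : Fin r × Fin m, f' ab = f' (0, ab.2) := by
    intro ab
    have := hconst ab.1.val ab.2
    rwa [Fin.cast_val_eq_self] at this
  have hprod : ∏ i, b (E f' i) = (∏ b' : Fin m, b (f' (0, b'))) ^ r := by
    calc ∏ i, b (E f' i) = ∏ ab : Fin r × Fin m, b (f' ab) :=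
          Equiv.prod_comp ε.symm (fun ab => b (f' ab))
      _ = ∏ a : Fin r, ∏ b' : Fin m, b (f' (a, b')) := Fintype.prod_prod_type _
      _ = ∏ _a : Fin r, ∏ b' : Fin m, b (f' (0, b')) := by
          apply Finset.prod_congr rfl
          intro a _
          apply Finset.prod_congr rfl
          intro b' _
          rw [hconst' (a, b')]
      _ = _ := by rw [Finset.prod_const, Finset.card_univ, Fintype.card_fin]
  change c (E f') • ∏ i, b (E f' i) ∈ (algebraMap K K').range
  rw [hprod, Algebra.smul_def]
  exact Subring.mul_mem _ ⟨_, rfl⟩ (hpow _)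

omit [Fintype ι] [DecidableEq ι] in
lemma charP_of_expChar_prime (R : Type*) [Semiring R] (p : ℕ) [h : ExpChar R p] (hp : p.Prime) :
    CharP R p := by
  cases h with
  | zero => exact absurd hp Nat.not_prime_one
  | prime _ => assumption

omit [Fintype ι] [DecidableEq ι] in
/-- **Field-level claim**: for `K'/K` purely inseparable (in the power form) with
`[K':K] ∣ d`, `d > 0`, the multiplication map sends symmetric tensors of degree `d` into `K`. -/
theorem mul_mem_range_of_symmetric (d : ℕ) (hd : 0 < d) (hdvd : Module.finrank K K' ∣ d)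
    (hpi : ∀ z : K', ∃ n : ℕ, z ^ ringExpChar K ^ n ∈ Set.range (algebraMap K K'))
    (y : ⨂[K] _ : Fin d, K')
    (hy : ∀ σ : Equiv.Perm (Fin d), PiTensorProduct.reindex K (fun _ : Fin d => K') σ y = y) :
    PiTensorProduct.lift (MultilinearMap.mkPiAlgebra K (Fin d) K') y ∈
      Set.range (algebraMap K K') := by
  have hE := ringExpChar.expChar K
  rcases expChar_is_prime_or_one K (ringExpChar K) with hprime | hone
  · have hfact : Fact (ringExpChar K).Prime := ⟨hprime⟩
    have hrpos : 0 < Module.finrank K K' := Nat.pos_of_dvd_of_pos hdvd hd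
    have hfin : FiniteDimensional K K' := Module.finite_of_finrank_pos hrpos
    have hpurely : IsPurelyInseparable K K' := by
      rw [isPurelyInseparable_iff_pow_mem K (ringExpChar K)]
      intro z
      obtain ⟨n, w, hw⟩ := hpi z
      exact ⟨n, w, hw⟩
    obtain ⟨k, hk⟩ := IsPurelyInseparable.finrank_eq_pow (F := K) K' (ringExpChar K)
    have hcK : CharP K (ringExpChar K) := charP_of_expChar_prime K _ hprime
    have hcK' : CharP K' (ringExpChar K) :=
      charP_of_injective_algebraMap (algebraMap K K').injective _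
    obtain ⟨m, hm⟩ := hdvd
    subst hm
    have hne : NeZero (Module.finrank K K') := ⟨hrpos.ne'⟩
    have hpow : ∀ z : K', z ^ Module.finrank K K' ∈ (algebraMap K K').range := by
      intro z
      have := pow_finrank_mem_range (K := K) (ringExpChar K) k hk z
      rwa [← hk] at this
    obtain ⟨w, hw⟩ := mul_mem_range_aux (ringExpChar K) k (Module.finrank K K') m hk
      (Module.finBasis K K') hpow y hy
    exact ⟨w, hw⟩
  · obtain ⟨n, hn⟩ := hpi (PiTensorProduct.lift (MultilinearMap.mkPiAlgebra K (Fin d) K') y)
    rw [hone, one_pow, pow_one] at hn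
    exact hn

end field

end Groth.Agent.Lib.Helper69.SymTenField
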