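import Mathlib
import Groth.Prelude.Def_HTop2
import Groth.Agent.Lib.Helper69.UHRing2
import Groth.Agent.Lib.Helper69.SymTenField

/-!
# Stacks 0CNC: elementary steps for universal homeomorphisms of rings
-/

open AlgebraicGeometry CategoryTheory
universe u

namespace Groth.Agent.Lib.Helper69.UHRing

open Groth.Agent.Lib.Helper69.SpecResidue Groth.Agent.Lib.Helper69.WeakNorm
  Groth.Agent.Lib.Helper69.SemiNormalDescent Groth.Agent.Lib.Helper69.SubIntegral

section insep

variable {A B : Type u} [CommRing A] [CommRing B]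

set_option backward.isDefEq.respectTransparency.types false in
/-- elementary form of pure inseparability of the residue field extensions -/
lemma exists_pow_multiplier_of_fieldPtsInj (φ : A →+* B) (hpts : FieldPtsInj φ)
    (Q : PrimeSpectrum B) (b : B) :
    ∃ n : ℕ, ∃ s : A, s ∉ Q.asIdeal.comap φ ∧ ∃ a : A,
      φ s * b ^ (ringExpChar (PrimeSpectrum.comap φ Q).asIdeal.ResidueField) ^ n - φ a ∈
        Q.asIdeal := by
  obtain ⟨n, hn⟩ := pow_mem_range_map_of_fieldPts φ hpts Q (algebraMap B _ b)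
  rw [← map_pow] at hn
  exact ⟨n, exists_multiplier_of_mem_range φ Q _ hn⟩

set_option backward.isDefEq.respectTransparency.types false in
/-- the exponential characteristic of a residue field is `1` or a prime lying in the prime -/
lemma ringExpChar_residueField (P : Ideal A) [P.IsPrime] :
    ringExpChar P.ResidueField = 1 ∨
      ((ringExpChar P.ResidueField).Prime ∧ ((ringExpChar P.ResidueField : ℕ) : A) ∈ P) := by
  have hE := ringExpChar.expChar P.ResidueField
  rcases expChar_is_prime_or_one P.ResidueField (ringExpChar P.ResidueField) with hp | h1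
  · right
    refine ⟨hp, ?_⟩
    have hc : CharP P.ResidueField (ringExpChar P.ResidueField) :=
      Groth.Agent.Lib.Helper69.SymTenField.charP_of_expChar_prime _ _ hp
    have h0 : ((ringExpChar P.ResidueField : ℕ) : P.ResidueField) = 0 := CharP.cast_eq_zero _ _
    rw [← Ideal.algebraMap_residueField_eq_zero, map_natCast]
    exact h0
  · exact Or.inl h1

end insep

section finite

variable {C D : Type u} [CommRing C] [CommRing D] [Algebra C D]

/-- **Stacks 0CNC**, finite case, elementary form. -/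
theorem exists_step_of_fieldPtsInj_finite [Module.Finite C D]
    (hinj : Function.Injective (algebraMap C D))
    (hspec : ∀ Q Q' : Ideal D, Q.IsPrime → Q'.IsPrime →
      Q.comap (algebraMap C D) = Q'.comap (algebraMap C D) → Q = Q')
    (hpts : FieldPtsInj (algebraMap C D))
    (hns : ¬ Function.Surjective (algebraMap C D)) :
    (∃ b : D, b ∉ (algebraMap C D).range ∧ b ^ 2 ∈ (algebraMap C D).range ∧
      b ^ 3 ∈ (algebraMap C D).range) ∨
    ∃ (ℓ : ℕ) (b : D), ℓ.Prime ∧ b ∉ (algebraMap C D).range ∧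
      (ℓ : D) * b ∈ (algebraMap C D).range ∧ b ^ ℓ ∈ (algebraMap C D).range := by
  classical
  have hint : Algebra.IsIntegral C D := inferInstance
  let W : Submodule C D := LinearMap.range (Algebra.linearMap C D)
  have hWtop : ∃ d : D, d ∉ W := by
    by_contra hall
    push Not at hall
    exact hns (fun d => hall d)
  let 𝔠 : Ideal D :=
    { carrier := {x | ∀ d : D, x * d ∈ W}
      add_mem' := fun {x y} hx hy d => by rw [add_mul]; exact W.add_mem (hx d) (hy d)
      zero_mem' := fun d => by rw [zero_mul]; exact W.zero_mem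
      smul_mem' := fun a x hx d => by
        change a * x * d ∈ W
        rw [mul_comm a x, mul_assoc]
        exact hx (a * d) }
  have h𝔠W : ∀ x ∈ 𝔠, x ∈ W := fun x hx => by simpa using hx 1
  have h𝔠top : 𝔠.comap (algebraMap C D) ≠ ⊤ := by
    intro htop
    obtain ⟨d, hd⟩ := hWtop
    have h1 : (1 : C) ∈ 𝔠.comap (algebraMap C D) := by rw [htop]; trivial
    have h2 : algebraMap C D 1 * d ∈ W := h1 d
    rw [map_one, one_mul] at h2
    exact hd h2
  obtain ⟨p, hp⟩ := Ideal.nonempty_minimalPrimes h𝔠top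
  have hpp : p.IsPrime := hp.1.1
  obtain ⟨q, -, hqp, hqc⟩ := Ideal.exists_ideal_over_prime_of_isIntegral p (⊥ : Ideal D)
    (by
      rw [← RingHom.ker_eq_comap_bot, (RingHom.injective_iff_ker_eq_bot _).mp hinj]
      exact bot_le)
  subst hqc
  have h𝔠p : 𝔠.comap (algebraMap C D) ≤ q.comap (algebraMap C D) := hp.1.2
  have huniq : ∀ Q : Ideal D, Q.IsPrime →
      Q.comap (algebraMap C D) = q.comap (algebraMap C D) → Q = q :=
    fun Q hQ hQc => hspec Q q hQ hqp hQc
  have h𝔠q : 𝔠 ≤ q := by
    intro x hx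
    obtain ⟨c, rfl⟩ := h𝔠W x hx
    exact h𝔠p hx
  have hqmin : q ∈ 𝔠.minimalPrimes := by
    refine ⟨⟨hqp, h𝔠q⟩, ?_⟩
    rintro Q' ⟨hQ'p, hQ'c⟩ hQ'q
    have h1 : Q'.comap (algebraMap C D) ≤ q.comap (algebraMap C D) := Ideal.comap_mono hQ'q
    have h2 : q.comap (algebraMap C D) ≤ Q'.comap (algebraMap C D) :=
      hp.2 ⟨Ideal.comap_isPrime _ _, Ideal.comap_mono hQ'c⟩ h1
    have h3 := huniq Q' hQ'p (le_antisymm h1 h2)
    exact h3.ge
  by_cases hf : ∃ f ∈ q, ∀ u : C, u ∉ q.comap (algebraMap C D) → u • f ∉ W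
  · left
    obtain ⟨f, hfq, hfW⟩ := hf
    obtain ⟨t, htq, N, htN⟩ := exists_mul_pow_mem_of_mem_minimalPrimes 𝔠 q hqmin f hfq
    obtain ⟨d₀, u, hup, hu⟩ :=
      exists_mul_eq_algebraMap_not_mem (q.comap (algebraMap C D)) q huniq t htq
    let P : ℕ → Prop := fun n => ∃ v : C, v ∉ q.comap (algebraMap C D) ∧ v • f ^ n ∈ W
    have hPlarge : ∀ n, N ≤ n → P n := by
      intro n hn
      refine ⟨u, hup, h𝔠W _ ?_⟩
      have e : u • f ^ n = (d₀ * f ^ (n - N)) * (t * f ^ N) := by
        rw [Algebra.smul_def, ← hu]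
        have : f ^ n = f ^ (n - N) * f ^ N := by rw [← pow_add, Nat.sub_add_cancel hn]
        rw [this]; ring
      rw [e]
      exact 𝔠.mul_mem_left _ htN
    have hP1 : ¬ P 1 := by
      rintro ⟨v, hv, hvW⟩
      rw [pow_one] at hvW
      exact hfW v hv hvW
    let Q : ℕ → Prop := fun k => ∀ n, k < n → P n
    have hQex : ∃ k, Q k := ⟨N, fun n hn => hPlarge n hn.le⟩
    let k₀ := Nat.find hQex
    have hk₀ : Q k₀ := Nat.find_spec hQex
    have hk₀pos : 1 ≤ k₀ := by
      by_contra hlt
      push Not at hlt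
      exact hP1 (hk₀ 1 (by omega))
    have hnP : ¬ P k₀ := by
      intro hPk
      have hQ' : Q (k₀ - 1) := by
        intro n hn
        by_cases hnk : n = k₀
        · rw [hnk]; exact hPk
        · exact hk₀ n (by omega)
      exact Nat.find_min hQex (by omega) hQ'
    obtain ⟨u₂, hu₂, hu₂W⟩ := hk₀ (2 * k₀) (by omega)
    obtain ⟨u₃, hu₃, hu₃W⟩ := hk₀ (3 * k₀) (by omega)
    refine ⟨(u₂ * u₃) • f ^ k₀, ?_, ?_, ?_⟩
    · intro hmem
      exact hnP ⟨u₂ * u₃, fun h => (hpp.mem_or_mem h).elim hu₂ hu₃, hmem⟩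
    · have e : ((u₂ * u₃) • f ^ k₀) ^ 2 = (u₂ * u₃ ^ 2) • (u₂ • f ^ (2 * k₀)) := by
        rw [Algebra.smul_def, Algebra.smul_def, Algebra.smul_def, pow_mul']
        simp only [map_mul, map_pow]
        ring
      rw [e]
      exact W.smul_mem _ hu₂W
    · have e : ((u₂ * u₃) • f ^ k₀) ^ 3 = (u₂ ^ 3 * u₃ ^ 2) • (u₃ • f ^ (3 * k₀)) := by
        rw [Algebra.smul_def, Algebra.smul_def, Algebra.smul_def, pow_mul']
        simp only [map_mul, map_pow]
        ring
      rw [e]
      exact W.smul_mem _ hu₃W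
  · right
    push Not at hf
    -- an element with non-trivial residue
    have hd₁ : ∃ d₁ : D, ∀ s : C, s ∉ q.comap (algebraMap C D) → ∀ c : C,
        algebraMap C D s * d₁ - algebraMap C D c ∉ q := by
      by_contra hcon
      push Not at hcon
      have h1 : ∀ d ∈ (⊤ : Submodule C D), ∃ s : C, s ∉ q.comap (algebraMap C D) ∧ s • d ∈ W := by
        intro d _
        obtain ⟨s, hs, c, hc⟩ := hcon d
        obtain ⟨u₁, hu₁, hu₁W⟩ := hf _ hc
        refine ⟨u₁ * s, fun h => (hpp.mem_or_mem h).elim hu₁ hs, ?_⟩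
        rw [smul_sub, ← Algebra.smul_def, ← mul_smul] at hu₁W
        have h3 : u₁ • algebraMap C D c ∈ W := W.smul_mem _ ⟨c, rfl⟩
        have := W.add_mem hu₁W h3
        rwa [sub_add_cancel] at this
      obtain ⟨s, hs, hsall⟩ := exists_uniform_multiplier (q.comap (algebraMap C D)) ⊤ W
        (Module.Finite.fg_top) h1
      apply hs
      apply h𝔠p
      intro d
      have := hsall d trivial
      rwa [Algebra.smul_def] at this
    obtain ⟨d₁, hd₁⟩ := hd₁
    let Qs : PrimeSpectrum D := ⟨q, hqp⟩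
    have hpow := exists_pow_multiplier_of_fieldPtsInj (algebraMap C D) hpts Qs d₁
    rcases ringExpChar_residueField (PrimeSpectrum.comap (algebraMap C D) Qs).asIdeal with
      h1 | ⟨hprime, hmem⟩
    · exfalso
      obtain ⟨n, s, hs, a, ha⟩ := hpow
      rw [h1, one_pow, pow_one] at ha
      exact hd₁ s hs a ha
    · set e := ringExpChar (PrimeSpectrum.comap (algebraMap C D) Qs).asIdeal.ResidueField with he
      have hepos : 0 < e := hprime.pos
      let n₀ := Nat.find hpow
      have hn₀ := Nat.find_spec hpow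
      have hn₀pos : n₀ ≠ 0 := by
        intro h0
        obtain ⟨s, hs, a, ha⟩ := hn₀
        have : (Nat.find hpow) = 0 := h0
        rw [this, pow_zero, pow_one] at ha
        exact hd₁ s hs a ha
      have hmin := Nat.find_min hpow (m := n₀ - 1) (by omega)
      push Not at hmin
      set d := d₁ ^ e ^ (n₀ - 1) with hd
      have hde : d ^ e = d₁ ^ e ^ n₀ := by
        rw [hd, ← pow_mul, ← pow_succ, Nat.sub_add_cancel (Nat.pos_of_ne_zero hn₀pos)]
      obtain ⟨s, hs, a, ha⟩ := hn₀
      change algebraMap C D s * d₁ ^ e ^ n₀ - algebraMap C D a ∈ q at ha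
      rw [← hde] at ha
      have hed : (e : D) * d ∈ q := by
        have h1 : algebraMap C D (e : C) ∈ q := hmem
        rw [map_natCast] at h1
        exact q.mul_mem_right _ h1
      obtain ⟨u₁, hu₁, hu₁W⟩ := hf _ hed
      obtain ⟨u₂, hu₂, hu₂W⟩ := hf _ ha
      have hu₂W' : u₂ • (algebraMap C D s * d ^ e) ∈ W := by
        rw [smul_sub] at hu₂W
        have h3 : u₂ • algebraMap C D a ∈ W := W.smul_mem _ ⟨a, rfl⟩
        have := W.add_mem hu₂W h3
        rwa [sub_add_cancel] at this
      have hv : u₁ * u₂ * s ∉ q.comap (algebraMap C D) := fun h =>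
        (hpp.mem_or_mem h).elim (fun h' => (hpp.mem_or_mem h').elim hu₁ hu₂) hs
      refine ⟨e, (u₁ * u₂ * s) • d, hprime, ?_, ?_, ?_⟩
      · rintro ⟨w, hw⟩
        apply hmin (u₁ * u₂ * s) hv w
        rw [hw, Algebra.smul_def, sub_self]
        exact q.zero_mem
      · have e1 : (e : D) * ((u₁ * u₂ * s) • d) = (u₂ * s) • (u₁ • ((e : D) * d)) := by
          rw [Algebra.smul_def, Algebra.smul_def, Algebra.smul_def]
          simp only [map_mul]
          ring
        rw [e1]
        exact W.smul_mem _ hu₁W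
      · have e1 : ((u₁ * u₂ * s) • d) ^ e =
            ((u₁ * u₂ * s) ^ (e - 1) * u₁) • (u₂ • (algebraMap C D s * d ^ e)) := by
          have hvpow : (u₁ * u₂ * s) ^ e = (u₁ * u₂ * s) ^ (e - 1) * (u₁ * u₂ * s) :=
            (pow_sub_one_mul hepos.ne' _).symm
          rw [Algebra.smul_def, Algebra.smul_def, Algebra.smul_def, mul_pow, ← map_pow, hvpow]
          simp only [map_mul]
          ring
        rw [e1]
        exact W.smul_mem _ hu₂W'

end finite

end Groth.Agent.Lib.Helper69.UHRing
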