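import Mathlib
import Groth.Prelude.Def_HTop2
import Groth.Agent.Lib.Helper69.UHRing3
import Groth.Agent.Lib.Helper69.ElemChainSN

/-!
# Stacks 0CNC/0CND: universal homeomorphisms are filtered unions of chains of elementary extensions
-/

open AlgebraicGeometry CategoryTheory
universe u

namespace Groth.Agent.Lib.Helper69.ElemChainUH

open Groth.Agent.Lib.Helper69.UHRing Groth.Agent.Lib.Helper69.ElemChain
  Groth.Agent.Lib.Helper69.ElemChainSN

section step

variable {C B : Type u} [CommRing C] [CommRing B] [Algebra C B]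

/-- **Stacks 0CNC** (ring level). -/
theorem exists_step_of_fieldPtsInj (hinj : Function.Injective (algebraMap C B))
    (hint : (algebraMap C B).IsIntegral)
    (hspec : Function.Injective (PrimeSpectrum.comap (algebraMap C B)))
    (hpts : FieldPtsInj (algebraMap C B)) (hns : ¬ Function.Surjective (algebraMap C B)) :
    (∃ b : B, b ∉ (algebraMap C B).range ∧ b ^ 2 ∈ (algebraMap C B).range ∧
      b ^ 3 ∈ (algebraMap C B).range) ∨
    ∃ (ℓ : ℕ) (b : B), ℓ.Prime ∧ b ∉ (algebraMap C B).range ∧
      (ℓ : B) * b ∈ (algebraMap C B).range ∧ b ^ ℓ ∈ (algebraMap C B).range := by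
  have hex : ∃ b₀ : B, b₀ ∉ (algebraMap C B).range := by
    by_contra hall
    push Not at hall
    exact hns (fun b => hall b)
  obtain ⟨b₀, hb₀⟩ := hex
  let D : Subalgebra C B := Algebra.adjoin C {b₀}
  have hfin : Module.Finite C D := Algebra.finite_adjoin_simple_of_isIntegral (hint b₀)
  have hinjD : Function.Injective (algebraMap C D) := fun a a' h =>
    hinj (congrArg Subtype.val h)
  have hnsD : ¬ Function.Surjective (algebraMap C D) := by
    intro hs
    obtain ⟨c, hc⟩ := hs ⟨b₀, Algebra.subset_adjoin rfl⟩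
    exact hb₀ ⟨c, congrArg Subtype.val hc⟩
  rcases exists_step_of_fieldPtsInj_finite hinjD (comap_injective_subalgebra D hint hspec)
    (fieldPtsInj_subalgebra D hint hpts) hnsD with ⟨b, hb1, hb2, hb3⟩ | ⟨ℓ, b, hℓ, hb1, hb2, hb3⟩
  · left
    refine ⟨b.1, ?_, ?_, ?_⟩
    · rintro ⟨c, hc⟩
      exact hb1 ⟨c, Subtype.ext hc⟩
    · obtain ⟨c, hc⟩ := hb2
      exact ⟨c, congrArg Subtype.val hc⟩
    · obtain ⟨c, hc⟩ := hb3
      exact ⟨c, congrArg Subtype.val hc⟩
  · right
    refine ⟨ℓ, b.1, hℓ, ?_, ?_, ?_⟩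
    · rintro ⟨c, hc⟩
      exact hb1 ⟨c, Subtype.ext hc⟩
    · obtain ⟨c, hc⟩ := hb2
      refine ⟨c, ?_⟩
      have := congrArg Subtype.val hc
      have e2 : ((((ℓ : D) * b : D)) : B) = (ℓ : B) * (b : B) := by
        push_cast
        rfl
      rw [e2] at this
      exact this
    · obtain ⟨c, hc⟩ := hb3
      exact ⟨c, congrArg Subtype.val hc⟩

end step

variable {A B : Type u} [CommRing A] [CommRing B] [Algebra A B]

/-- the universal-homeomorphism step -/
def stepUH (T : Subalgebra A B) (b : B) : Prop :=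
  (b ^ 2 ∈ T ∧ b ^ 3 ∈ T) ∨ ∃ p : ℕ, p.Prime ∧ (p : B) * b ∈ T ∧ b ^ p ∈ T

lemma stepUH_mono (T T' : Subalgebra A B) (b : B) (h : T ≤ T') (hb : stepUH T b) :
    stepUH T' b := by
  rcases hb with hb | ⟨p, hp, h1, h2⟩
  · exact Or.inl ⟨h hb.1, h hb.2⟩
  · exact Or.inr ⟨p, hp, h h1, h h2⟩

lemma integralClosure_closedUH (b : B) (hb : stepUH (integralClosure A B) b) :
    b ∈ integralClosure A B := by
  rcases hb with hb | ⟨p, hp, -, h2⟩
  · exact IsIntegral.of_pow (by norm_num : 0 < 2) hb.1
  · exact IsIntegral.of_pow hp.pos h2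

/-- `p x = p y` and `x^p = y^p` in a field force `x = y` -/
lemma eq_of_mul_pow_eq {K : Type*} [Field K] (p : ℕ) (hp : p.Prime) (x y : K)
    (h1 : (p : K) * x = (p : K) * y) (h2 : x ^ p = y ^ p) : x = y := by
  by_cases hpK : (p : K) = 0
  · have : Fact p.Prime := ⟨hp⟩
    have hc : CharP K p := (CharP.charP_iff_prime_eq_zero hp).mpr hpK
    exact frobenius_inj K p h2
  · exact mul_left_cancel₀ hpK h1

section backward

variable (hchain : ∀ E : Finset B, ∃ l : List B,
    (↑E : Set B) ⊆ Algebra.adjoin A {b : B | b ∈ l} ∧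
      ∀ i : Fin l.length, stepUH (Algebra.adjoin A (pre l i)) (l.get i))

include hchain in
lemma eq_top_of_closedUH (T : Subalgebra A B) (hT : ∀ b, stepUH T b → b ∈ T) : T = ⊤ := by
  rw [eq_top_iff]
  intro b _
  obtain ⟨l, hE, hl⟩ := hchain {b}
  have h1 := adjoin_le_of_indexed stepUH_mono T hT l hl
  exact h1 (hE (by simp))

include hchain in
lemma isIntegral_of_chainUH : (algebraMap A B).IsIntegral := by
  have h := eq_top_of_closedUH hchain (integralClosure A B) integralClosure_closedUH
  intro b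
  have : b ∈ integralClosure A B := by rw [h]; trivial
  exact this

include hchain in
lemma fieldPtsInj_of_chainUH : FieldPtsInj (algebraMap A B) := by
  intro K _ χ₁ χ₂ hχ
  let _ : Algebra A K := (χ₁.comp (algebraMap A B)).toAlgebra
  let f₁ : B →ₐ[A] K := { χ₁ with commutes' := fun a => rfl }
  let f₂ : B →ₐ[A] K := { χ₂ with commutes' := fun a => (RingHom.congr_fun hχ a).symm }
  have h := eq_top_of_closedUH hchain (AlgHom.equalizer f₁ f₂) (by
    intro b hb
    rw [AlgHom.mem_equalizer]
    rcases hb with hb | ⟨p, hp, hb1, hb2⟩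
    · have h2 : f₁ (b ^ 2) = f₂ (b ^ 2) := hb.1
      have h3 : f₁ (b ^ 3) = f₂ (b ^ 3) := hb.2
      rw [map_pow, map_pow] at h2 h3
      exact eq_of_sq_cube_eq _ _ h2 h3
    · have h1 : f₁ ((p : B) * b) = f₂ ((p : B) * b) := hb1
      have h2 : f₁ (b ^ p) = f₂ (b ^ p) := hb2
      rw [map_mul, map_mul, map_natCast, map_natCast] at h1
      rw [map_pow, map_pow] at h2
      exact eq_of_mul_pow_eq p hp _ _ h1 h2)
  ext b
  have hb : b ∈ AlgHom.equalizer f₁ f₂ := by rw [h]; trivial
  exact hb

end backward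

section forward

/-- `Bstar` for the universal-homeomorphism step is everything. -/
theorem bstar_eq_topUH (hint : (algebraMap A B).IsIntegral)
    (hspec : Function.Injective (PrimeSpectrum.comap (algebraMap A B)))
    (hpts : FieldPtsInj (algebraMap A B)) :
    Bstar (A := A) (B := B) stepUH stepUH_mono = ⊤ := by
  classical
  set T := Bstar (A := A) (B := B) stepUH stepUH_mono with hT
  by_contra hne
  have hns : ¬ Function.Surjective (algebraMap T B) := by
    intro hs
    apply hne
    rw [eq_top_iff]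
    intro b _
    obtain ⟨t, ht⟩ := hs b
    rw [← ht]
    exact t.2
  have hintT : (algebraMap T B).IsIntegral := by
    have := isIntegral_top_subalgebra T hint
    exact algebraMap_isIntegral_iff.mpr this
  have hspecT : Function.Injective (PrimeSpectrum.comap (algebraMap T B)) := by
    intro Q₁ Q₂ h
    apply hspec
    have h1 := congrArg (PrimeSpectrum.comap (algebraMap A T)) h
    apply PrimeSpectrum.ext
    have h2 := congrArg PrimeSpectrum.asIdeal h1
    change (Q₁.asIdeal.comap (algebraMap T B)).comap (algebraMap A T) =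
      (Q₂.asIdeal.comap (algebraMap T B)).comap (algebraMap A T) at h2
    rw [comap_comap_subalgebra, comap_comap_subalgebra] at h2
    exact h2
  have hptsT : FieldPtsInj (algebraMap T B) := by
    intro K _ χ₁ χ₂ h
    apply hpts
    ext a
    exact RingHom.congr_fun h (algebraMap A T a)
  have hmemT : ∀ x : B, x ∈ (algebraMap T B).range → x ∈ T := by
    rintro x ⟨t, rfl⟩
    exact t.2
  have hclosed : ∀ b : B, stepUH T b → b ∈ T := by
    intro b hb
    rcases hb with hb | ⟨p, hp, hb1, hb2⟩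
    · have hE : ∀ x ∈ ({b ^ 2, b ^ 3} : Finset B), x ∈ T := by
        intro x hx
        rw [Finset.mem_insert, Finset.mem_singleton] at hx
        rcases hx with rfl | rfl
        · exact hb.1
        · exact hb.2
      obtain ⟨l, hl, hEl⟩ := exists_chain_of_finset stepUH_mono {b ^ 2, b ^ 3} hE
      refine ⟨l ++ [b], chainR_snoc stepUH_mono l b hl
        (Or.inl ⟨hEl (by simp), hEl (by simp)⟩), ?_⟩
      apply Algebra.subset_adjoin
      simp
    · have hE : ∀ x ∈ ({(p : B) * b, b ^ p} : Finset B), x ∈ T := by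
        intro x hx
        rw [Finset.mem_insert, Finset.mem_singleton] at hx
        rcases hx with rfl | rfl
        · exact hb1
        · exact hb2
      obtain ⟨l, hl, hEl⟩ := exists_chain_of_finset stepUH_mono {(p : B) * b, b ^ p} hE
      refine ⟨l ++ [b], chainR_snoc stepUH_mono l b hl
        (Or.inr ⟨p, hp, hEl (by simp), hEl (by simp)⟩), ?_⟩
      apply Algebra.subset_adjoin
      simp
  rcases exists_step_of_fieldPtsInj (C := T) (B := B)
    Subtype.val_injective hintT hspecT hptsT hns with ⟨b, hb1, hb2, hb3⟩ | ⟨ℓ, b, hℓ, hb1, hb2, hb3⟩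
  · apply hb1
    have hbT : b ∈ T := hclosed b (Or.inl ⟨hmemT _ hb2, hmemT _ hb3⟩)
    exact ⟨⟨b, hbT⟩, rfl⟩
  · apply hb1
    have hbT : b ∈ T := hclosed b (Or.inr ⟨ℓ, hℓ, hmemT _ hb2, hmemT _ hb3⟩)
    exact ⟨⟨b, hbT⟩, rfl⟩

end forward

end Groth.Agent.Lib.Helper69.ElemChainUH
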