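import Mathlib
import Groth.Prelude.Def_EGA4b
import Groth.Agent.Lib.Lead.NormalDescent

/-!
# Normality ascends along smooth ring maps (helper69)

No Noetherian hypotheses: the proof uses Mathlib's "smooth base change commutes with integral
closure" (`TensorProduct.toIntegralClosure_bijective_of_smooth`) and the local structure of
smooth algebras (étale over a polynomial ring).
-/

open scoped TensorProduct
universe u

namespace Groth.Agent.Lib.Helper69.NormalSmooth

section poly

theorem isIntegrallyClosed_mvPolynomial_fin (R : Type u) [CommRing R] [IsDomain R]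
    [IsIntegrallyClosed R] (n : ℕ) : IsIntegrallyClosed (MvPolynomial (Fin n) R) := by
  induction n with
  | zero =>
    exact IsIntegrallyClosed.of_equiv (MvPolynomial.isEmptyAlgEquiv R (Fin 0)).symm.toRingEquiv
  | succ n ih =>
    have := ih
    exact IsIntegrallyClosed.of_equiv (MvPolynomial.finSuccEquiv R n).symm.toRingEquiv

end poly

section icloc

/-- being integrally closed in an overring localizes -/
theorem exists_of_isIntegral_localization {R S' Rf Sf : Type*} [CommRing R] [CommRing S']
    [CommRing Rf] [CommRing Sf] [Algebra R S'] [Algebra R Rf] [Algebra S' Sf] [Algebra Rf Sf]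
    [Algebra R Sf] [IsScalarTower R S' Sf] [IsScalarTower R Rf Sf]
    (M : Submonoid R) [IsLocalization M Rf] [IsLocalization (Algebra.algebraMapSubmonoid S' M) Sf]
    (hcl : ∀ x : S', IsIntegral R x → ∃ r : R, algebraMap R S' r = x)
    (s : Sf) (hs : IsIntegral Rf s) : ∃ a : Rf, algebraMap Rf Sf a = s := by
  obtain ⟨⟨x, _, m₁, hm₁, rfl⟩, e⟩ := IsLocalization.surj (Algebra.algebraMapSubmonoid S' M) s
  simp only [← IsScalarTower.algebraMap_apply] at e
  obtain ⟨⟨m₂, hm₂⟩, hm₂s⟩ := IsIntegral.exists_multiple_integral_of_isLocalization M _ hs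
  simp only [Submonoid.smul_def, Algebra.smul_def] at hm₂s
  obtain ⟨m₃, hm₃, hm₃s⟩ := IsLocalization.exists_isIntegral_smul_of_isIntegral_map (Sₘ := Sf)
    M (x := m₂ • x) <| by
      simp only [Algebra.smul_def, map_mul, ← IsScalarTower.algebraMap_apply, ← e, ← mul_assoc]
      exact hm₂s.mul (isIntegral_algebraMap)
  obtain ⟨r, hr⟩ := hcl _ hm₃s
  refine ⟨IsLocalization.mk' Rf r ⟨m₁ * (m₂ * m₃), mul_mem hm₁ (mul_mem hm₂ hm₃)⟩, ?_⟩
  have hu : IsUnit (algebraMap R Sf (m₁ * (m₂ * m₃))) := by
    rw [IsScalarTower.algebraMap_apply R Rf Sf]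
    exact (IsLocalization.map_units Rf ⟨m₁ * (m₂ * m₃), mul_mem hm₁ (mul_mem hm₂ hm₃)⟩).map _
  apply hu.mul_left_injective
  change algebraMap Rf Sf (IsLocalization.mk' Rf r ⟨m₁ * (m₂ * m₃), _⟩) *
      algebraMap R Sf (m₁ * (m₂ * m₃)) = s * algebraMap R Sf (m₁ * (m₂ * m₃))
  rw [IsScalarTower.algebraMap_apply R Rf Sf, ← map_mul, IsLocalization.mk'_spec,
    ← IsScalarTower.algebraMap_apply R Rf Sf, IsScalarTower.algebraMap_apply R S' Sf, hr]
  simp only [Algebra.smul_def, map_mul, ← IsScalarTower.algebraMap_apply, ← e]
  ring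

end icloc

section etale

/-- an Artinian ring with only trivial idempotents is local -/
theorem isLocalRing_of_isArtinianRing (T : Type*) [CommRing T] [IsArtinianRing T] [Nontrivial T]
    (h : ∀ e : T, IsIdempotentElem e → e = 0 ∨ e = 1) : IsLocalRing T := by
  have hsub : ∀ x y : PrimeSpectrum T, y = x := by
    intro x y
    have hcl : IsClopen ({x} : Set (PrimeSpectrum T)) := isClopen_discrete _
    obtain ⟨e, he, hxe⟩ := PrimeSpectrum.exists_idempotent_basicOpen_eq_of_isClopen hcl
    rcases h e he with rfl | rfl
    · have hx : x ∈ ({x} : Set (PrimeSpectrum T)) := rfl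
      rw [hxe] at hx
      simp at hx
    · have hy : y ∈ ((PrimeSpectrum.basicOpen (1 : T)) : Set (PrimeSpectrum T)) := by simp
      rw [← hxe] at hy
      exact hy
  apply IsLocalRing.of_nonunits_add
  intro a b ha hb
  obtain ⟨m, hm, ham⟩ := exists_max_ideal_of_mem_nonunits ha
  obtain ⟨m', hm', hbm⟩ := exists_max_ideal_of_mem_nonunits hb
  have hmm : m' = m := by
    have := hsub ⟨m, hm.isPrime⟩ ⟨m', hm'.isPrime⟩
    exact congrArg PrimeSpectrum.asIdeal this
  subst hmm
  intro hu
  exact hm'.ne_top (Ideal.eq_top_of_isUnit_mem _ (add_mem ham hbm) hu)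

theorem isIntegrallyClosed_of_isField (T : Type*) [CommRing T] (h : IsField T) :
    IsIntegrallyClosed T := by
  let _ := h.toField
  exact inferInstance

theorem eq_zero_or_one_of_isIdempotentElem {A : Type*} [CommRing A] [IsLocalRing A] (a : A)
    (ha : IsIdempotentElem a) : a = 0 ∨ a = 1 := by
  have h0 : a * (1 - a) = 0 := by rw [mul_sub, mul_one, ha.eq, sub_self]
  rcases IsLocalRing.isUnit_or_isUnit_one_sub_self a with hu | hu
  · right
    have := hu.mul_right_eq_zero.mp h0
    exact (sub_eq_zero.mp this).symm
  · left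
    exact hu.mul_left_eq_zero.mp h0

/-- **Key lemma**: the local rings of an étale algebra over an integrally closed domain are
integrally closed domains. -/
theorem isIntegrallyClosed_localization_of_etale (R S : Type u) [CommRing R] [IsDomain R]
    [IsIntegrallyClosed R] [CommRing S] [Algebra R S] [Algebra.Etale R S] (Q : Ideal S)
    [Q.IsPrime] :
    IsDomain (Localization.AtPrime Q) ∧ IsIntegrallyClosed (Localization.AtPrime Q) := by
  let K := FractionRing R
  -- `S → S ⊗ K` is injective
  have hinj : Function.Injective (algebraMap S (S ⊗[R] K)) :=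
    Algebra.TensorProduct.includeLeft_injective (S := S) (IsFractionRing.injective R K)
  -- `S` is integrally closed in `S ⊗ K`
  have hcl : ∀ x : S ⊗[R] K, IsIntegral S x → ∃ s : S, algebraMap S (S ⊗[R] K) s = x := by
    intro x hx
    obtain ⟨y, hy⟩ := (TensorProduct.toIntegralClosure_bijective_of_smooth
      (R := R) (S := S) (B := K)).2 ⟨x, hx⟩
    have hy' : Algebra.TensorProduct.map (AlgHom.id S S) (integralClosure R K).val y = x :=
      congrArg Subtype.val hy
    rw [← hy']
    clear hy hy' hx
    induction y with
    | zero => exact ⟨0, by simp⟩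
    | tmul s k =>
      obtain ⟨r, hr⟩ := IsIntegrallyClosed.isIntegral_iff.mp k.2
      refine ⟨r • s, ?_⟩
      rw [Algebra.TensorProduct.algebraMap_apply, Algebra.TensorProduct.map_tmul]
      simp only [AlgHom.coe_id, id_eq, Subalgebra.coe_val, Algebra.algebraMap_self, RingHom.id_apply]
      rw [← hr, Algebra.algebraMap_eq_smul_one, TensorProduct.smul_tmul]
    | add a b ha hb =>
      obtain ⟨sa, hsa⟩ := ha
      obtain ⟨sb, hsb⟩ := hb
      exact ⟨sa + sb, by rw [map_add, map_add, hsa, hsb]⟩
  -- `S ⊗ K` is Artinian and reduced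
  have hfin : Module.Finite K (K ⊗[R] S) :=
    Algebra.FormallyUnramified.finite_of_free (R := K) (S := K ⊗[R] S)
  have hart0 : IsArtinianRing (K ⊗[R] S) := isArtinian_of_tower K inferInstance
  have hred0 : IsReduced (K ⊗[R] S) := Algebra.FormallyUnramified.isReduced_of_field K (K ⊗[R] S)
  have hart : IsArtinianRing (S ⊗[R] K) :=
    Function.Surjective.isArtinianRing (f := (Algebra.TensorProduct.comm R K S).toRingEquiv.toRingHom)
      (Algebra.TensorProduct.comm R K S).surjective
  have hred : IsReduced (S ⊗[R] K) :=
    isReduced_of_injective (Algebra.TensorProduct.comm R S K).toRingEquiv.toRingHom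
      (Algebra.TensorProduct.comm R S K).injective
  let M : Submonoid S := Q.primeCompl
  let T := Localization (Algebra.algebraMapSubmonoid (S ⊗[R] K) M)
  have hinjT : Function.Injective (algebraMap (Localization.AtPrime Q) T) :=
    localizationAlgebra_injective (Rₘ := Localization.AtPrime Q) (Sₘ := T) hinj
  have hclT : ∀ s : T, IsIntegral (Localization.AtPrime Q) s →
      ∃ a, algebraMap (Localization.AtPrime Q) T a = s :=
    exists_of_isIntegral_localization (R := S) (S' := S ⊗[R] K)
      (Rf := Localization.AtPrime Q) (Sf := T) M hcl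
  have hartT : IsArtinianRing T := inferInstance
  have hredT : IsReduced T := isReduced_localizationPreserves (Algebra.algebraMapSubmonoid (S ⊗[R] K) M) T hred
  have hnontriv : Nontrivial T := hinjT.nontrivial
  have hidem : ∀ e : T, IsIdempotentElem e → e = 0 ∨ e = 1 := by
    intro e he
    have hint : IsIntegral (Localization.AtPrime Q) e := by
      refine ⟨Polynomial.X ^ 2 - Polynomial.X, Polynomial.monic_X_pow_sub (by
        rw [Polynomial.degree_X]; norm_num), ?_⟩
      simp [pow_two, he.eq]
    obtain ⟨a, rfl⟩ := hclT e hint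
    have ha : IsIdempotentElem a := hinjT (by rw [map_mul]; exact he)
    rcases eq_zero_or_one_of_isIdempotentElem a ha with rfl | rfl
    · left; simp
    · right; simp
  have hloc : IsLocalRing T := isLocalRing_of_isArtinianRing T hidem
  have hfield : IsField T := IsArtinianRing.isField_of_isReduced_of_isLocalRing T
  have hdomT : IsDomain T := hfield.isDomain
  have hicT : IsIntegrallyClosed T := isIntegrallyClosed_of_isField T hfield
  have hfaith : FaithfulSMul (Localization.AtPrime Q) T :=
    (faithfulSMul_iff_algebraMap_injective _ _).mpr hinjT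
  have hicin : IsIntegrallyClosedIn (Localization.AtPrime Q) T :=
    isIntegrallyClosedIn_iff.mpr ⟨hinjT, fun {x} hx => hclT x hx⟩
  exact ⟨hinjT.isDomain, IsIntegrallyClosed.of_isIntegrallyClosed_of_isIntegrallyClosedIn
    (Localization.AtPrime Q) T⟩

end etale

section smooth

/-- transfer along a localization: if `Sf` is a localization of `S` at a submonoid not meeting the
prime `Q`, the local ring of `S` at `Q` is a local ring of `Sf`. (Skeleton adapted from
helper49's `EtaleNormal`.) -/
theorem localization_transfer {S Sf : Type u} [CommRing S] [CommRing Sf] [Algebra S Sf]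
    (N : Submonoid S) [IsLocalization N Sf] (Q : Ideal S) [Q.IsPrime]
    (hdisj : Disjoint (N : Set S) (Q : Set S))
    (h : ∀ (Q' : Ideal Sf) [Q'.IsPrime],
      IsDomain (Localization.AtPrime Q') ∧ IsIntegrallyClosed (Localization.AtPrime Q')) :
    IsDomain (Localization.AtPrime Q) ∧ IsIntegrallyClosed (Localization.AtPrime Q) := by
  have hQ : (Q.map (algebraMap S Sf)).IsPrime :=
    IsLocalization.isPrime_of_isPrime_disjoint N Sf Q inferInstance hdisj
  have hco : (Q.map (algebraMap S Sf)).under S = Q :=
    IsLocalization.under_map_of_isPrime_disjoint N Sf inferInstance hdisj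
  have key : ∀ (q' : Ideal S) [q'.IsPrime], q' = Q →
      (IsDomain (Localization.AtPrime q') ∧ IsIntegrallyClosed (Localization.AtPrime q')) →
      (IsDomain (Localization.AtPrime Q) ∧ IsIntegrallyClosed (Localization.AtPrime Q)) := by
    intro q' _ he
    subst he
    exact id
  have hloc2 : IsLocalization.AtPrime (Localization.AtPrime (Q.map (algebraMap S Sf)))
      ((Q.map (algebraMap S Sf)).comap (algebraMap S Sf)) :=
    IsLocalization.isLocalization_isLocalization_atPrime_isLocalization N _
      (Q.map (algebraMap S Sf))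
  have e : Localization.AtPrime ((Q.map (algebraMap S Sf)).under S) ≃ₐ[S]
      Localization.AtPrime (Q.map (algebraMap S Sf)) :=
    IsLocalization.algEquiv ((Q.map (algebraMap S Sf)).under S).primeCompl _ _
  obtain ⟨h1, h2⟩ := h (Q.map (algebraMap S Sf))
  exact key _ hco ⟨e.toRingEquiv.toMulEquiv.isDomain _,
    IsIntegrallyClosed.of_equiv (R := Localization.AtPrime (Q.map (algebraMap S Sf)))
      e.toRingEquiv.symm⟩

/-- a smooth algebra over an integrally closed domain is a normal ring -/
theorem isNormalRing_of_smooth_of_isIntegrallyClosed (R T : Type u) [CommRing R] [IsDomain R]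
    [IsIntegrallyClosed R] [CommRing T] [Algebra R T] [Algebra.Smooth R T] :
    EGA4.IsNormalRing T := by
  intro Q hQ
  obtain ⟨f, hfQ, n, _, _, hstd⟩ :=
    Algebra.IsSmoothAt.exists_isStandardEtale_mvPolynomial (R := R) (S := T) (p := Q)
  have hic := isIntegrallyClosed_mvPolynomial_fin R n
  have : Algebra.Etale (MvPolynomial (Fin n) R) (Localization.Away f) := inferInstance
  apply localization_transfer (Submonoid.powers f) Q (Sf := Localization.Away f)
  · rw [Set.disjoint_left]
    rintro _ ⟨k, rfl⟩ hx
    exact hfQ (hQ.mem_of_pow_mem k hx)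
  · intro Q' _
    exact isIntegrallyClosed_localization_of_etale (MvPolynomial (Fin n) R) (Localization.Away f) Q'

attribute [local instance] Algebra.TensorProduct.rightAlgebra in
/-- Ascent of "integrally closed domain" to the local rings of a smooth algebra. -/
theorem isIntegrallyClosed_localization_of_smooth (A B : Type u) [CommRing A] [CommRing B]
    [Algebra A B] [Algebra.Smooth A B] (q : Ideal B) [q.IsPrime]
    (hd : IsDomain (Localization.AtPrime (q.under A)))
    (hic : IsIntegrallyClosed (Localization.AtPrime (q.under A))) :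
    IsDomain (Localization.AtPrime q) ∧ IsIntegrallyClosed (Localization.AtPrime q) := by
  let p := q.under A
  let Ap := Localization.AtPrime p
  let T := Ap ⊗[A] B
  have hT : EGA4.IsNormalRing T := isNormalRing_of_smooth_of_isIntegrallyClosed Ap T
  have hloc : IsLocalization (Algebra.algebraMapSubmonoid B p.primeCompl) T :=
    IsLocalization.tensorRight Ap p.primeCompl
  apply localization_transfer (Algebra.algebraMapSubmonoid B p.primeCompl) q (Sf := T)
  · rw [Set.disjoint_left]
    rintro _ ⟨a, ha, rfl⟩ hx
    exact ha hx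
  · intro Q' _
    exact hT Q'

/-- **S1182**, ascent part -/
theorem isNormalRing_of_smooth (A B : Type u) [CommRing A] [CommRing B] [Algebra A B]
    [Algebra.Smooth A B] (hA : EGA4.IsNormalRing A) : EGA4.IsNormalRing B := by
  intro q hq
  obtain ⟨h1, h2⟩ := hA (q.under A)
  exact isIntegrallyClosed_localization_of_smooth A B q h1 h2

end smooth

end Groth.Agent.Lib.Helper69.NormalSmooth
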