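import Groth.Prelude.Def_SGA1
import Mathlib.AlgebraicGeometry.AffineScheme
import Mathlib.Topology.Sheaves.SheafCondition.UniqueGluing

/-!
# Gluing the "invariant sections = image" condition of `SGA1.IsQuot` from a basis of opens
-/

set_option autoImplicit false
set_option linter.style.haveILetI false
universe u
open CategoryTheory AlgebraicGeometry TopologicalSpace Opposite

namespace Groth.Agent.Lib.Helper69.QuotGlue

/-- Ring-level: invariants of a localization come from the localization of the invariants. -/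
theorem mem_range_of_invariant_localization {R S R' S' : Type*} [CommRing R] [CommRing S]
    [CommRing R'] [CommRing S'] (φ : R →+* S) (ι : S →+* S') (ιR : R →+* R') (φ' : R' →+* S')
    (hsq : ∀ r, φ' (ιR r) = ι (φ r)) (f : R)
    (hsurj : ∀ s' : S', ∃ (a : S) (n : ℕ), s' * ι (φ f) ^ n = ι a)
    (hker : ∀ a : S, ι a = 0 → ∃ m : ℕ, φ f ^ m * a = 0)
    (hunit : IsUnit (ιR f))
    {I : Type*} [Finite I] (σ : I → S →+* S) (σ' : I → S' →+* S')
    (hσ : ∀ i a, σ' i (ι a) = ι (σ i a)) (hσφ : ∀ i r, σ i (φ r) = φ r)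
    (hinv : ∀ a : S, (∀ i, σ i a = a) → a ∈ Set.range φ)
    (s' : S') (hs' : ∀ i, σ' i s' = s') : s' ∈ Set.range φ' := by
  obtain ⟨a, n, ha⟩ := hsurj s'
  have h1 : ∀ i, ι (σ i a - a) = 0 := by
    intro i
    rw [map_sub, ← hσ, ← ha, map_mul, map_pow, hσ, hσφ, hs', sub_self]
  choose m hm using fun i => hker _ (h1 i)
  obtain ⟨M, hM⟩ := Finite.exists_le m
  have h2 : ∀ i, σ i (φ f ^ M * a) = φ f ^ M * a := by
    intro i
    rw [map_mul, map_pow, hσφ]
    have : φ f ^ M * (σ i a - a) = 0 := by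
      rw [← Nat.sub_add_cancel (hM i), pow_add, mul_assoc, hm i, mul_zero]
    rw [mul_sub, sub_eq_zero] at this
    exact this
  obtain ⟨b, hb⟩ := hinv _ h2
  obtain ⟨v, hv⟩ := hunit.exists_right_inv
  refine ⟨ιR b * v ^ (n + M), ?_⟩
  have h3 : s' * ι (φ f) ^ (n + M) = ι (φ b) := by
    rw [pow_add, ← mul_assoc, ha, hb, map_mul, map_pow]
    ring
  have h4 : ι (φ f) * φ' v = 1 := by rw [← hsq, ← map_mul, hv, map_one]
  rw [map_mul, map_pow, hsq, ← h3, mul_assoc, ← mul_pow, h4, one_pow, mul_one]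

section glue

variable {X Y : Scheme.{u}} {G : Type u} [Group G] (ρ : G →* Aut X) (p : X ⟶ Y)
  (hinv : ∀ g : G, (ρ g).hom ≫ p = p)

/-- Sections in the image of `p.app U` are invariant. -/
theorem invariant_of_mem_range (U : Y.Opens) (s : Γ(X, p ⁻¹ᵁ U))
    (hs : s ∈ Set.range (p.app U).hom) (g : G) :
    ((ρ g).hom.appLE (p ⁻¹ᵁ U) (p ⁻¹ᵁ U) (SGA1.preimage_le_of_inv ρ p hinv g U)).hom s = s := by
  obtain ⟨t, rfl⟩ := hs
  have h1 : p.app U ≫ (ρ g).hom.appLE (p ⁻¹ᵁ U) (p ⁻¹ᵁ U)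
      (SGA1.preimage_le_of_inv ρ p hinv g U) = p.app U := by
    rw [Scheme.Hom.app_eq_appLE, Scheme.Hom.appLE_comp_appLE]
    have := Scheme.Hom.appLE_congr ((ρ g).hom ≫ p) (U := U) (V := p ⁻¹ᵁ U)
      (by rw [hinv g]) rfl rfl (fun {R S} (k : R ⟶ S) => True)
    simp only [hinv g]
  exact congrArg (fun k => k.hom t) h1

/-- Restriction of an invariant section is invariant. -/
theorem invariant_res {U V : Y.Opens} (hVU : V ≤ U) (s : Γ(X, p ⁻¹ᵁ U))
    (hs : ∀ g : G, ((ρ g).hom.appLE (p ⁻¹ᵁ U) (p ⁻¹ᵁ U)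
      (SGA1.preimage_le_of_inv ρ p hinv g U)).hom s = s) (g : G) :
    ((ρ g).hom.appLE (p ⁻¹ᵁ V) (p ⁻¹ᵁ V) (SGA1.preimage_le_of_inv ρ p hinv g V)).hom
      ((X.presheaf.map (homOfLE (p.preimage_mono hVU)).op).hom s) =
      (X.presheaf.map (homOfLE (p.preimage_mono hVU)).op).hom s := by
  have h1 : X.presheaf.map (homOfLE (p.preimage_mono hVU)).op ≫
      (ρ g).hom.appLE (p ⁻¹ᵁ V) (p ⁻¹ᵁ V) (SGA1.preimage_le_of_inv ρ p hinv g V) =
      (ρ g).hom.appLE (p ⁻¹ᵁ U) (p ⁻¹ᵁ U) (SGA1.preimage_le_of_inv ρ p hinv g U) ≫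
        X.presheaf.map (homOfLE (p.preimage_mono hVU)).op := by
    rw [Scheme.Hom.map_appLE, Scheme.Hom.appLE_map]
  have h2 := congrArg (fun k => k.hom s) h1
  simp only [CommRingCat.hom_comp, RingHom.comp_apply] at h2
  rw [h2, hs g]

include hinv in
theorem range_iff_of_basis (hinj : ∀ U : Y.Opens, Function.Injective (p.app U).hom)
    (Bs : Set Y.Opens) (hBs : Opens.IsBasis Bs)
    (hB : ∀ V ∈ Bs, ∀ s : Γ(X, p ⁻¹ᵁ V),
      (∀ g : G, ((ρ g).hom.appLE (p ⁻¹ᵁ V) (p ⁻¹ᵁ V)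
        (SGA1.preimage_le_of_inv ρ p hinv g V)).hom s = s) → s ∈ Set.range (p.app V).hom)
    (U : Y.Opens) (s : Γ(X, p ⁻¹ᵁ U)) :
    s ∈ Set.range (p.app U).hom ↔
      ∀ g : G, ((ρ g).hom.appLE (p ⁻¹ᵁ U) (p ⁻¹ᵁ U)
        (SGA1.preimage_le_of_inv ρ p hinv g U)).hom s = s := by
  refine ⟨fun hs g => invariant_of_mem_range ρ p hinv U s hs g, fun hs => ?_⟩
  -- the cover of `U` by basis elements
  let ι := {V : Y.Opens // V ∈ Bs ∧ V ≤ U}
  let W : ι → Y.Opens := fun i => i.1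
  have hWU : ∀ i : ι, W i ≤ U := fun i => i.2.2
  have hcover : U ≤ iSup W := by
    intro x hx
    obtain ⟨_, ⟨V, hV, rfl⟩, hxV, hVU⟩ := hBs.exists_subset_of_mem_open hx U.isOpen
    exact Opens.mem_iSup.2 ⟨⟨V, hV, hVU⟩, hxV⟩
  have hloc : ∀ i : ι, ∃ t : Γ(Y, W i), (p.app (W i)).hom t =
      (X.presheaf.map (homOfLE (p.preimage_mono (hWU i))).op).hom s := fun i =>
    hB _ i.2.1 _ (invariant_res ρ p hinv (hWU i) s hs)
  choose t ht using hloc
  have hcompat : TopCat.Presheaf.IsCompatible Y.presheaf W t := by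
    intro i j
    apply hinj (W i ⊓ W j)
    have e1 : Y.presheaf.map (Opens.infLELeft (W i) (W j)).op ≫ p.app (W i ⊓ W j) =
        p.app (W i) ≫ X.presheaf.map (homOfLE (p.preimage_mono inf_le_left)).op :=
      p.naturality _
    have e2 : Y.presheaf.map (Opens.infLERight (W i) (W j)).op ≫ p.app (W i ⊓ W j) =
        p.app (W j) ≫ X.presheaf.map (homOfLE (p.preimage_mono inf_le_right)).op :=
      p.naturality _
    have e1' := congrArg (fun k => k.hom (t i)) e1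
    have e2' := congrArg (fun k => k.hom (t j)) e2
    simp only [CommRingCat.hom_comp, RingHom.comp_apply] at e1' e2'
    show (p.app (W i ⊓ W j)).hom ((Y.presheaf.map (Opens.infLELeft (W i) (W j)).op).hom (t i)) =
      (p.app (W i ⊓ W j)).hom ((Y.presheaf.map (Opens.infLERight (W i) (W j)).op).hom (t j))
    rw [e1', e2', ht i, ht j, ← RingHom.comp_apply, ← RingHom.comp_apply, ← CommRingCat.hom_comp,
      ← CommRingCat.hom_comp, ← Functor.map_comp, ← Functor.map_comp]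
    rfl
  obtain ⟨T', hT', -⟩ :=
    Y.sheaf.existsUnique_gluing' W U (fun i => homOfLE (hWU i)) hcover t hcompat
  let T : Γ(Y, U) := T'
  have hT : ∀ i, (Y.presheaf.map (homOfLE (hWU i)).op).hom T = t i := hT'
  refine ⟨T, ?_⟩
  refine X.IsSheaf.section_ext (U := op (p ⁻¹ᵁ U)) fun x hx => ?_
  obtain ⟨i, hxi⟩ := Opens.mem_iSup.1 (hcover hx)
  refine ⟨p ⁻¹ᵁ (W i), p.preimage_mono (hWU i), hxi, ?_⟩
  have e3 : Y.presheaf.map (homOfLE (hWU i)).op ≫ p.app (W i) =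
      p.app U ≫ X.presheaf.map (homOfLE (p.preimage_mono (hWU i))).op :=
    p.naturality _
  have e3' : (p.app (W i)).hom ((Y.presheaf.map (homOfLE (hWU i)).op).hom T) =
      (X.presheaf.map (homOfLE (p.preimage_mono (hWU i))).op).hom ((p.app U).hom T) :=
    congrArg (fun k => k.hom T) e3
  rw [hT i, ht i] at e3'
  exact e3'.symm

end glue

end Groth.Agent.Lib.Helper69.QuotGlue
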