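import Mathlib
import Groth.Prelude.Def_HTop2
import Groth.Agent.Lib.Helper69.ElemChainUH

/-!
# The elementary extensions `A[t]/(t² - x, t³ - y)` and `A[t]/(t^p - x, p t - y)` (Stacks 0CN7)
-/

open AlgebraicGeometry CategoryTheory Polynomial
universe u

namespace Groth.Agent.Lib.Helper69.ElemQuot

open Groth.Agent.Lib.Helper69.UHRing Groth.Agent.Lib.Helper69.ElemChain
  Groth.Agent.Lib.Helper69.ElemChainSN Groth.Agent.Lib.Helper69.ElemChainUH

variable {A : Type u} [CommRing A] (I : Ideal A[X])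

/-- the class of `X` -/
noncomputable def t : A[X] ⧸ I := Ideal.Quotient.mk I X

lemma mk_eq_aeval (f : A[X]) : Ideal.Quotient.mk I f = aeval (t I) f := by
  have h : (Ideal.Quotient.mkₐ A I) = aeval (t I) := by
    apply Polynomial.algHom_ext
    simp [t]
  exact AlgHom.congr_fun h f

lemma adjoin_t : Algebra.adjoin A {t I} = ⊤ := by
  rw [eq_top_iff]
  intro b _
  obtain ⟨f, rfl⟩ := Ideal.Quotient.mk_surjective b
  rw [mk_eq_aeval]
  exact Polynomial.aeval_mem_adjoin_singleton A (t I)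

lemma hchain_of_step (step : Subalgebra A (A[X] ⧸ I) → (A[X] ⧸ I) → Prop)
    (hstep : step (Algebra.adjoin A ∅) (t I)) :
    ∀ E : Finset (A[X] ⧸ I), ∃ l : List (A[X] ⧸ I),
      (↑E : Set (A[X] ⧸ I)) ⊆ Algebra.adjoin A {b | b ∈ l} ∧
        ∀ i : Fin l.length, step (Algebra.adjoin A (pre l i)) (l.get i) := by
  intro E
  refine ⟨[t I], ?_, ?_⟩
  · intro b _
    have h : {b | b ∈ [t I]} = {t I} := by
      ext z; simp
    rw [h, adjoin_t]
    trivial
  · intro i
    have hi0 : i.val = 0 := by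
      have := i.2
      simp only [List.length_singleton] at this
      omega
    have hpre : pre [t I] i = ∅ := by
      ext z
      simp only [pre, Set.mem_empty_iff_false, iff_false]
      rintro ⟨j, hj, -⟩
      rw [Fin.lt_def, hi0] at hj
      exact absurd hj (Nat.not_lt_zero _)
    have hget : [t I].get i = t I := by
      have : i = ⟨0, by simp⟩ := Fin.ext hi0
      rw [this]
      rfl
    rw [hpre, hget]
    exact hstep

lemma comap_surjective_of_roots
    (h : ∀ P : PrimeSpectrum A, ∃ (K : Type u) (_ : Field K) (ι : A →+* K) (a : K),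
      RingHom.ker ι = P.asIdeal ∧ ∀ f ∈ I, eval₂ ι a f = 0) :
    Function.Surjective (PrimeSpectrum.comap (algebraMap A (A[X] ⧸ I))) := by
  intro P
  obtain ⟨K, _, ι, a, hker, hI⟩ := h P
  have hI' : ∀ f ∈ I, (eval₂RingHom ι a) f = 0 := fun f hf => by
    rw [coe_eval₂RingHom]; exact hI f hf
  let χ : (A[X] ⧸ I) →+* K := Ideal.Quotient.lift I (eval₂RingHom ι a) hI'
  refine ⟨⟨RingHom.ker χ, RingHom.ker_isPrime χ⟩, ?_⟩
  apply PrimeSpectrum.ext
  change Ideal.comap (algebraMap A (A[X] ⧸ I)) (RingHom.ker χ) = P.asIdeal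
  rw [← hker]
  ext c
  rw [Ideal.mem_comap, RingHom.mem_ker, RingHom.mem_ker]
  have : χ (algebraMap A (A[X] ⧸ I) c) = ι c := by
    change Ideal.Quotient.lift I (eval₂RingHom ι a) hI' (Ideal.Quotient.mk I (C c)) = ι c
    rw [Ideal.Quotient.lift_mk]
    simp
  rw [this]

section sqCube

variable (x y : A)

/-- `A → A[t]/(t² - x, t³ - y)` with `x³ = y²`: ring-level universal homeomorphism data. -/
theorem sqCube (h : x ^ 3 = y ^ 2) :
    (algebraMap A (A[X] ⧸ Ideal.span ({X ^ 2 - C x, X ^ 3 - C y} : Set A[X]))).IsIntegral ∧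
    Function.Surjective (PrimeSpectrum.comap
      (algebraMap A (A[X] ⧸ Ideal.span ({X ^ 2 - C x, X ^ 3 - C y} : Set A[X])))) ∧
    FieldPtsInj (algebraMap A (A[X] ⧸ Ideal.span ({X ^ 2 - C x, X ^ 3 - C y} : Set A[X]))) ∧
    ResTriv (algebraMap A (A[X] ⧸ Ideal.span ({X ^ 2 - C x, X ^ 3 - C y} : Set A[X]))) := by
  set I := Ideal.span ({X ^ 2 - C x, X ^ 3 - C y} : Set A[X]) with hI
  have h2 : (t I) ^ 2 = algebraMap A (A[X] ⧸ I) x := by
    have : Ideal.Quotient.mk I (X ^ 2 - C x) = 0 :=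
      Ideal.Quotient.eq_zero_iff_mem.mpr (Ideal.subset_span (by simp))
    rw [map_sub, sub_eq_zero, map_pow] at this
    exact this
  have h3 : (t I) ^ 3 = algebraMap A (A[X] ⧸ I) y := by
    have : Ideal.Quotient.mk I (X ^ 3 - C y) = 0 :=
      Ideal.Quotient.eq_zero_iff_mem.mpr (Ideal.subset_span (by simp))
    rw [map_sub, sub_eq_zero, map_pow] at this
    exact this
  have hstep : stepSN (Algebra.adjoin A (∅ : Set (A[X] ⧸ I))) (t I) := by
    refine ⟨?_, ?_⟩
    · rw [h2]; exact Subalgebra.algebraMap_mem _ x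
    · rw [h3]; exact Subalgebra.algebraMap_mem _ y
  have hchain := hchain_of_step I stepSN hstep
  refine ⟨isIntegral_of_chain hchain, ?_, fieldPtsInj_of_chain hchain, resTriv_of_chain hchain⟩
  apply comap_surjective_of_roots
  intro P
  let K := P.asIdeal.ResidueField
  let ι : A →+* K := algebraMap A K
  have hxy : (ι x) ^ 3 = (ι y) ^ 2 := by rw [← map_pow, ← map_pow, h]
  obtain ⟨a, ha2, ha3⟩ : ∃ a : K, a ^ 2 = ι x ∧ a ^ 3 = ι y := by
    by_cases hx0 : ι x = 0
    · have hy0 : ι y = 0 := by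
        have : (ι y) ^ 2 = 0 := by rw [← hxy, hx0]; ring
        exact (pow_eq_zero_iff (by norm_num)).mp this
      exact ⟨0, by rw [hx0]; ring, by rw [hy0]; ring⟩
    · refine ⟨ι y / ι x, ?_, ?_⟩
      · rw [div_pow, div_eq_iff (pow_ne_zero 2 hx0)]
        linear_combination -hxy
      · rw [div_pow, div_eq_iff (pow_ne_zero 3 hx0)]
        linear_combination (-(ι y)) * hxy
  refine ⟨K, inferInstance, ι, a, Ideal.ker_algebraMap_residueField _, ?_⟩
  have hle : I ≤ RingHom.ker (eval₂RingHom ι a) := by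
    rw [hI, Ideal.span_le]
    intro f hf
    rw [Set.mem_insert_iff, Set.mem_singleton_iff] at hf
    rw [SetLike.mem_coe, RingHom.mem_ker, coe_eval₂RingHom]
    rcases hf with rfl | rfl
    · simp only [eval₂_sub, eval₂_pow, eval₂_X, eval₂_C, ha2, sub_self]
    · simp only [eval₂_sub, eval₂_pow, eval₂_X, eval₂_C, ha3, sub_self]
  intro f hf
  have := hle hf
  rwa [RingHom.mem_ker, coe_eval₂RingHom] at this

end sqCube

section pRoot

variable (x y : A)

/-- `A → A[t]/(t^p - x, p t - y)` with `p^p x = y^p`: ring-level universal homeomorphism data. -/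
theorem pRoot (p : ℕ) (hp : p.Prime) (h : (p : A) ^ p * x = y ^ p) :
    (algebraMap A (A[X] ⧸ Ideal.span ({X ^ p - C x, C (p : A) * X - C y} : Set A[X]))).IsIntegral ∧
    Function.Surjective (PrimeSpectrum.comap
      (algebraMap A (A[X] ⧸ Ideal.span ({X ^ p - C x, C (p : A) * X - C y} : Set A[X])))) ∧
    FieldPtsInj
      (algebraMap A (A[X] ⧸ Ideal.span ({X ^ p - C x, C (p : A) * X - C y} : Set A[X]))) := by
  set I := Ideal.span ({X ^ p - C x, C (p : A) * X - C y} : Set A[X]) with hI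
  have h2 : (t I) ^ p = algebraMap A (A[X] ⧸ I) x := by
    have : Ideal.Quotient.mk I (X ^ p - C x) = 0 :=
      Ideal.Quotient.eq_zero_iff_mem.mpr (Ideal.subset_span (by simp))
    rw [map_sub, sub_eq_zero, map_pow] at this
    exact this
  have h3 : ((p : ℕ) : A[X] ⧸ I) * (t I) = algebraMap A (A[X] ⧸ I) y := by
    have : Ideal.Quotient.mk I (C (p : A) * X - C y) = 0 :=
      Ideal.Quotient.eq_zero_iff_mem.mpr (Ideal.subset_span (by simp))
    rw [map_sub, sub_eq_zero, map_mul] at this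
    have e : Ideal.Quotient.mk I (C (p : A)) = ((p : ℕ) : A[X] ⧸ I) := by
      rw [map_natCast, map_natCast]
    rw [e] at this
    exact this
  have hstep : stepUH (Algebra.adjoin A (∅ : Set (A[X] ⧸ I))) (t I) := by
    right
    refine ⟨p, hp, ?_, ?_⟩
    · rw [h3]; exact Subalgebra.algebraMap_mem _ y
    · rw [h2]; exact Subalgebra.algebraMap_mem _ x
  have hchain := hchain_of_step I stepUH hstep
  refine ⟨isIntegral_of_chainUH hchain, ?_, fieldPtsInj_of_chainUH hchain⟩
  apply comap_surjective_of_roots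
  intro P
  let k := P.asIdeal.ResidueField
  let K := AlgebraicClosure k
  let ι : A →+* K := (algebraMap k K).comp (algebraMap A k)
  have hker : RingHom.ker ι = P.asIdeal := by
    ext c
    rw [RingHom.mem_ker, RingHom.comp_apply, map_eq_zero,
      Ideal.algebraMap_residueField_eq_zero]
  have hxy : (p : K) ^ p * ι x = (ι y) ^ p := by
    have := congrArg ι h
    rw [map_mul, map_pow, map_pow, map_natCast] at this
    exact this
  obtain ⟨a, ha2, ha3⟩ : ∃ a : K, a ^ p = ι x ∧ (p : K) * a = ι y := by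
    by_cases hp0 : (p : K) = 0
    · have hy0 : ι y = 0 := by
        have : (ι y) ^ p = 0 := by rw [← hxy, hp0, zero_pow hp.ne_zero, zero_mul]
        exact (pow_eq_zero_iff hp.ne_zero).mp this
      obtain ⟨a, ha⟩ := IsAlgClosed.exists_pow_nat_eq (ι x) hp.pos
      exact ⟨a, ha, by rw [hp0, hy0, zero_mul]⟩
    · refine ⟨ι y / (p : K), ?_, ?_⟩
      · rw [div_pow, div_eq_iff (pow_ne_zero p hp0), ← hxy, mul_comm]
      · rw [mul_div_cancel₀ _ hp0]
  refine ⟨K, inferInstance, ι, a, hker, ?_⟩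
  have hle : I ≤ RingHom.ker (eval₂RingHom ι a) := by
    rw [hI, Ideal.span_le]
    intro f hf
    rw [Set.mem_insert_iff, Set.mem_singleton_iff] at hf
    rw [SetLike.mem_coe, RingHom.mem_ker, coe_eval₂RingHom]
    rcases hf with rfl | rfl
    · simp only [eval₂_sub, eval₂_pow, eval₂_X, eval₂_C, ha2, sub_self]
    · have e1 : eval₂ ι a (C ((p : ℕ) : A) * X - C y) = ι ((p : ℕ) : A) * a - ι y := by
        simp only [eval₂_sub, eval₂_mul, eval₂_X, eval₂_C]
      rw [e1, map_natCast, ha3, sub_self]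
  intro f hf
  have := hle hf
  rwa [RingHom.mem_ker, coe_eval₂RingHom] at this

end pRoot

end Groth.Agent.Lib.Helper69.ElemQuot
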