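import Groth.Agent.Lib.Helper69.EtaPtFin
import Groth.Agent.Lib.Helper69.EtaPtExt

/-!
# The relative rings `(B/A)_η = η.rel f`
-/

universe u

namespace Groth.Agent.Lib.Helper69.EtaPt

open _root_.EtaPt

variable (η : FieldEndo.{u})

section general

lemma comap_surjective_of_isIntegral_of_ker_le_nilradical {R S : Type*} [CommRing R] [CommRing S]
    (f : R →+* S) (hf : f.IsIntegral) (hk : RingHom.ker f ≤ nilradical R) :
    Function.Surjective (PrimeSpectrum.comap f) := by
  intro ⟨p, hp⟩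
  algebraize [f]
  obtain ⟨Q, -, hQ, hQp⟩ := Ideal.exists_ideal_over_prime_of_isIntegral p (⊥ : Ideal S) (by
    refine le_trans ?_ (nilradical_le_prime p)
    exact hk)
  exact ⟨⟨Q, hQ⟩, PrimeSpectrum.ext hQp⟩

end general

section rel

variable {A B : Type u} [CommRing A] [CommRing B]

/-- If `Spec f` is surjective then `N(f)` is injective. -/
lemma Nmap_injective_of_comap_surjective (f : A →+* B)
    (hs : Function.Surjective (PrimeSpectrum.comap f)) : Function.Injective (η.Nmap f) := by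
  intro x y hxy
  funext P
  obtain ⟨Q, rfl⟩ := hs P
  have h1 : ev η ((algebraMap B Q.asIdeal.ResidueField).comp f) x =
      ev η ((algebraMap B Q.asIdeal.ResidueField).comp f) y := by
    rw [← ev_Nmap, ← ev_Nmap, hxy]
  refine apply_eq_of_ev_eq_kerPt η _ h1 _ ?_
  apply PrimeSpectrum.ext
  change RingHom.ker ((algebraMap B Q.asIdeal.ResidueField).comp f) = Q.asIdeal.comap f
  rw [← RingHom.comap_ker, Ideal.ker_algebraMap_residueField]

variable (f : A →+* B) (hs : Function.Surjective (PrimeSpectrum.comap f))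

lemma mem_rel_iff (b : B) : b ∈ η.rel f ↔ ∃ x ∈ η.M A, η.Nmap f x = η.t B b := Iff.rfl

include hs in
lemma rho_aux (b : η.rel f) : ∃! x : η.M A, η.Nmap f (x : η.N A) = η.t B b := by
  obtain ⟨x, hx, hxb⟩ := b.2
  refine ⟨⟨x, hx⟩, hxb, fun y hy => Subtype.ext ?_⟩
  exact Nmap_injective_of_comap_surjective η f hs (hy.trans hxb.symm)

/-- The canonical map `ρ : (B/A)_η → M_η(A)`. -/
noncomputable def rho : η.rel f →+* η.M A where
  toFun b := (rho_aux η f hs b).choose
  map_one' := by
    apply (rho_aux η f hs 1).unique (rho_aux η f hs 1).choose_spec.1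
    change η.Nmap f 1 = η.t B 1
    rw [map_one, map_one]
  map_mul' a b := by
    apply (rho_aux η f hs (a * b)).unique (rho_aux η f hs (a * b)).choose_spec.1
    change η.Nmap f ((rho_aux η f hs a).choose.1 * (rho_aux η f hs b).choose.1) = η.t B (a.1 * b.1)
    rw [map_mul, map_mul, (rho_aux η f hs a).choose_spec.1, (rho_aux η f hs b).choose_spec.1]
  map_zero' := by
    apply (rho_aux η f hs 0).unique (rho_aux η f hs 0).choose_spec.1
    change η.Nmap f 0 = η.t B 0
    rw [map_zero, map_zero]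
  map_add' a b := by
    apply (rho_aux η f hs (a + b)).unique (rho_aux η f hs (a + b)).choose_spec.1
    change η.Nmap f ((rho_aux η f hs a).choose.1 + (rho_aux η f hs b).choose.1) = η.t B (a.1 + b.1)
    rw [map_add, map_add, (rho_aux η f hs a).choose_spec.1, (rho_aux η f hs b).choose_spec.1]

lemma Nmap_rho (b : η.rel f) : η.Nmap f ((rho η f hs b : η.M A) : η.N A) = η.t B b :=
  (rho_aux η f hs b).choose_spec.1

lemma rho_eq_of (b : η.rel f) (x : η.M A) (h : η.Nmap f (x : η.N A) = η.t B b) :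
    rho η f hs b = x :=
  ((rho_aux η f hs b).unique (rho_aux η f hs b).choose_spec.1 h)

lemma rho_comp_qRel : (rho η f hs).comp (η.qRel f) = η.q A := by
  refine RingHom.ext fun a => ?_
  exact rho_eq_of η f hs _ _ (Nmap_t η f a)

lemma rho_qRel (a : A) : rho η f hs (η.qRel f a) = η.q A a :=
  RingHom.congr_fun (rho_comp_qRel η f hs) a

lemma isNilpotent_of_t_eq_zero (b : B) (hb : η.t B b = 0) : IsNilpotent b := by
  rw [← mem_nilradical, nilradical_eq_sInf, Ideal.mem_sInf]
  intro P hP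
  have hP' : P.IsPrime := hP
  have h1 := congrFun hb ⟨P, hP'⟩
  rw [t_apply] at h1
  have h2 : algebraMap B (P.ResidueField) b = 0 := by
    apply eta_injective η
    rw [map_zero]
    exact h1
  exact Ideal.algebraMap_residueField_eq_zero.mp h2

lemma ker_rho_le : RingHom.ker (rho η f hs) ≤ nilradical (η.rel f) := by
  intro b hb
  rw [RingHom.mem_ker] at hb
  have h1 : η.t B b = 0 := by
    rw [← Nmap_rho η f hs b, hb]
    exact map_zero _
  obtain ⟨n, hn⟩ := isNilpotent_of_t_eq_zero η (b : B) h1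
  exact ⟨n, Subtype.ext (by simpa using hn)⟩

variable (hA : (minimalPrimes A).Finite)

include hA in
lemma isIntegral_rho : (rho η f hs).IsIntegral := by
  have h := isIntegral_q η hA
  rw [← rho_comp_qRel η f hs] at h
  exact RingHom.IsIntegral.tower_top _ _ h

include hA in
lemma comap_rho_surjective : Function.Surjective (PrimeSpectrum.comap (rho η f hs)) :=
  comap_surjective_of_isIntegral_of_ker_le_nilradical _ (isIntegral_rho η f hs hA)
    (ker_rho_le η f hs)

include hs hA in
/-- S13817, first part. -/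
theorem isIntegral_qRel : (η.qRel f).IsIntegral := by
  intro b
  obtain ⟨p, hp, hpx⟩ := isIntegral_q η hA (rho η f hs b)
  have h1 : rho η f hs (Polynomial.eval₂ (η.qRel f) b p) = 0 := by
    rw [Polynomial.hom_eval₂, rho_comp_qRel, hpx]
  obtain ⟨n, hn⟩ := ker_rho_le η f hs h1
  refine ⟨p ^ n, hp.pow n, ?_⟩
  rw [Polynomial.eval₂_pow, hn]

include hs hA in
/-- S13817, second part. -/
theorem comap_qRel_bijective : Function.Bijective (PrimeSpectrum.comap (η.qRel f)) := by
  have hq := comap_q_bijective η hA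
  have hρ := comap_rho_surjective η f hs hA
  have hcomp : ∀ Q, PrimeSpectrum.comap (η.qRel f) (PrimeSpectrum.comap (rho η f hs) Q) =
      PrimeSpectrum.comap (η.q A) Q := by
    intro Q
    rw [← rho_comp_qRel η f hs]
    rfl
  constructor
  · intro s₁ s₂ h
    obtain ⟨Q₁, rfl⟩ := hρ s₁
    obtain ⟨Q₂, rfl⟩ := hρ s₂
    rw [hcomp, hcomp] at h
    rw [hq.1 h]
  · intro P
    obtain ⟨Q, rfl⟩ := hq.2 P
    exact ⟨_, hcomp Q⟩

include hA in
/-- The tautological formula on `(B/A)_η` (Lemma R). -/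
theorem t_rel_eq (s : η.rel f) :
    η.t (η.rel f) s = η.Nmap (η.qRel f) ((rho η f hs s : η.M A) : η.N A) := by
  funext 𝔯
  obtain ⟨Q', rfl⟩ := comap_rho_surjective η f hs hA 𝔯
  let χ' : η.M A →+* Q'.asIdeal.ResidueField := algebraMap _ _
  let χ₁ : η.rel f →+* Q'.asIdeal.ResidueField := χ'.comp (rho η f hs)
  have h1 : ev η χ₁ (η.t (η.rel f) s) =
      ev η χ₁ (η.Nmap (η.qRel f) ((rho η f hs s : η.M A) : η.N A)) := by
    rw [ev_t, ev_Nmap]
    change η.eta _ (χ' (rho η f hs s)) = ev η ((χ'.comp (rho η f hs)).comp (η.qRel f)) _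
    rw [RingHom.comp_assoc, rho_comp_qRel, ← ev_Nmap, Nmap_q_eq_t η hA, ev_t]
  refine apply_eq_of_ev_eq_kerPt η χ₁ h1 _ ?_
  apply PrimeSpectrum.ext
  change RingHom.ker (χ'.comp (rho η f hs)) = Q'.asIdeal.comap (rho η f hs)
  rw [← RingHom.comap_ker, Ideal.ker_algebraMap_residueField]

include hs hA in
/-- S13818, second part. -/
theorem bijective_Nmap_qRel : Function.Bijective (η.Nmap (η.qRel f)) := by
  have hq := bijective_Nmap_q η hA
  have hρ := Nmap_injective_of_comap_surjective η (rho η f hs) (comap_rho_surjective η f hs hA)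
  have hcomp : ∀ x, η.Nmap (rho η f hs) (η.Nmap (η.qRel f) x) = η.Nmap (η.q A) x := by
    intro x
    rw [← Nmap_comp, rho_comp_qRel]
  constructor
  · intro x y hxy
    apply hq.1
    rw [← hcomp, ← hcomp, hxy]
  · intro y
    obtain ⟨x, hx⟩ := hq.2 (η.Nmap (rho η f hs) y)
    refine ⟨x, hρ ?_⟩
    rw [hcomp, hx]

include hs hA in
/-- S13818, first part. -/
theorem exists_residue_factor_rel (Q : PrimeSpectrum (η.rel f)) :
    ∃ φ : Q.asIdeal.ResidueField →+* η.obj (PrimeSpectrum.comap (η.qRel f) Q).asIdeal.ResidueField,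
      φ.comp (Ideal.ResidueField.map (PrimeSpectrum.comap (η.qRel f) Q).asIdeal Q.asIdeal
        (η.qRel f) rfl) = η.eta (PrimeSpectrum.comap (η.qRel f) Q).asIdeal.ResidueField := by
  obtain ⟨Q', hQ'⟩ := comap_rho_surjective η f hs hA Q
  have hP : PrimeSpectrum.comap (η.q A) Q' = PrimeSpectrum.comap (η.qRel f) Q := by
    rw [← hQ', ← rho_comp_qRel η f hs]
    rfl
  let π := (proj η (PrimeSpectrum.comap (η.qRel f) Q)).comp (rho η f hs)
  have hQmem : ∀ b : η.rel f, b ∈ Q.asIdeal ↔ π b = 0 := by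
    intro b
    have h1 : b ∈ Q.asIdeal ↔ rho η f hs b ∈ Q'.asIdeal := by
      rw [← hQ']; rfl
    have h2 := congrArg PrimeSpectrum.asIdeal (QP_comap_eq η hA Q')
    rw [h1, ← h2, mem_QP, hP]
    rfl
  have h1 : Q.asIdeal ≤ RingHom.ker π := fun x hx => (hQmem x).mp hx
  have h2 : Q.asIdeal.primeCompl ≤ (IsUnit.submonoid _).comap π := by
    intro x hx
    change IsUnit (π x)
    rw [isUnit_iff_ne_zero]
    exact fun h => hx ((hQmem x).mpr h)
  refine ⟨Ideal.ResidueField.lift Q.asIdeal π h1 h2, ?_⟩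
  apply Ideal.ResidueField.ringHom_ext
  ext a
  change Ideal.ResidueField.lift Q.asIdeal π h1 h2
    (Ideal.ResidueField.map _ _ (η.qRel f) rfl (algebraMap A _ a)) = η.eta _ (algebraMap A _ a)
  rw [Ideal.ResidueField.map_algebraMap, Ideal.ResidueField.lift_algebraMap]
  change proj η _ (rho η f hs (η.qRel f a)) = _
  rw [rho_qRel]
  rfl

end rel

end Groth.Agent.Lib.Helper69.EtaPt
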