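import Mathlib
import Groth.Prelude.Def_HTop2
import Groth.Agent.Lib.Helper69.ElemQuot
import Groth.Agent.Lib.Helper69.EtaPtRel

/-!
# Absolutely weakly normal rings and absolute weak normalizations (Stacks 0EUK ff.)
-/

open AlgebraicGeometry CategoryTheory Polynomial
universe u

namespace Groth.Agent.Lib.Helper69.AWNRing

open Groth.Agent.Lib.Helper69.UHRing Groth.Agent.Lib.Helper69.ElemChainUH
  Groth.Agent.Lib.Helper69.ElemChainSN Groth.Agent.Lib.Helper69.SemiNormalDescent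

section calculus

variable {A B C : Type u} [CommRing A] [CommRing B] [CommRing C]

/-- ring-level package for universal homeomorphisms -/
def IsUH (φ : A →+* B) : Prop :=
  φ.IsIntegral ∧ Function.Bijective (PrimeSpectrum.comap φ) ∧ FieldPtsInj φ

lemma isUH_iff (φ : A →+* B) : IsUH φ ↔ FlatMor.IsUnivHomeo (Spec.map (CommRingCat.ofHom φ)) :=
  ⟨fun h => isUnivHomeo_of φ h.1 h.2.1.2 h.2.2, fun h => of_isUnivHomeo φ h⟩

lemma IsUH.comp {φ : A →+* B} {ψ : B →+* C} (hφ : IsUH φ) (hψ : IsUH ψ) : IsUH (ψ.comp φ) := by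
  refine ⟨hφ.1.trans _ _ hψ.1, ?_, ?_⟩
  · have : PrimeSpectrum.comap (ψ.comp φ) = PrimeSpectrum.comap φ ∘ PrimeSpectrum.comap ψ := by
      funext Q; rfl
    rw [this]
    exact hφ.2.1.comp hψ.2.1
  · intro K _ χ₁ χ₂ h
    apply hψ.2.2
    apply hφ.2.2
    rw [RingHom.comp_assoc, RingHom.comp_assoc]
    exact h

/-- cancellation: if `ψ ∘ φ` and `φ` are universal homeomorphisms then so is `ψ`. -/
lemma IsUH.of_comp {φ : A →+* B} {ψ : B →+* C} (hφ : IsUH φ) (h : IsUH (ψ.comp φ)) :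
    IsUH ψ := by
  refine ⟨RingHom.IsIntegral.tower_top φ ψ h.1, ?_, ?_⟩
  · have e : PrimeSpectrum.comap (ψ.comp φ) = PrimeSpectrum.comap φ ∘ PrimeSpectrum.comap ψ := by
      funext Q; rfl
    have h1 := h.2.1
    rw [e] at h1
    refine ⟨?_, ?_⟩
    · exact Function.Injective.of_comp h1.1
    · intro P
      obtain ⟨Q, hQ⟩ := h1.2 (PrimeSpectrum.comap φ P)
      exact ⟨Q, hφ.2.1.1 hQ⟩
  · intro K _ χ₁ χ₂ h'
    apply h.2.2
    rw [← RingHom.comp_assoc, ← RingHom.comp_assoc, h']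

lemma isUH_of_surjective_of_ker_le_nilradical (φ : A →+* B) (hs : Function.Surjective φ)
    (hk : RingHom.ker φ ≤ nilradical A) : IsUH φ := by
  have hint : φ.IsIntegral := φ.isIntegral_of_surjective hs
  refine ⟨hint, ⟨PrimeSpectrum.comap_injective_of_surjective φ hs, ?_⟩, ?_⟩
  · exact Groth.Agent.Lib.Helper69.EtaPt.comap_surjective_of_isIntegral_of_ker_le_nilradical φ hint hk
  · intro K _ χ₁ χ₂ h
    ext b
    obtain ⟨a, rfl⟩ := hs b
    exact RingHom.congr_fun h a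

lemma IsUH.injective_of_isReduced [IsReduced A] {φ : A →+* B} (h : IsUH φ) :
    Function.Injective φ := by
  rw [injective_iff_map_eq_zero]
  intro c hc
  have hnil : IsNilpotent c := by
    rw [nilpotent_iff_mem_prime]
    intro J hJ
    obtain ⟨Q, hQ⟩ := h.2.1.2 ⟨J, hJ⟩
    have hJQ : J = Q.asIdeal.comap φ := by
      have := congrArg PrimeSpectrum.asIdeal hQ
      exact this.symm
    rw [hJQ, Ideal.mem_comap, hc]
    exact Q.asIdeal.zero_mem
  exact hnil.eq_zero

end calculus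

section reduced

variable {R : Type*} [CommRing R] [IsReduced R]

lemma eq_of_sq_cube_eq_of_isReduced (a b : R) (h2 : a ^ 2 = b ^ 2) (h3 : a ^ 3 = b ^ 3) :
    a = b := by
  have hz : (a - b) ^ 3 = 0 := by
    linear_combination 4 * h3 - 3 * (a + b) * h2
  exact sub_eq_zero.mp (IsReduced.eq_zero _ ⟨3, hz⟩)

lemma eq_of_mul_pow_eq_of_isReduced (p : ℕ) (hp : p.Prime) (a b : R)
    (h1 : (p : R) * a = (p : R) * b) (h2 : a ^ p = b ^ p) : a = b := by
  have hnil : IsNilpotent (a - b) := by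
    rw [nilpotent_iff_mem_prime]
    intro J hJ
    let K := J.ResidueField
    let π : R →+* K := algebraMap R K
    have e1 : (p : K) * π a = (p : K) * π b := by
      have := congrArg π h1
      rwa [map_mul, map_mul, map_natCast] at this
    have e2 : (π a) ^ p = (π b) ^ p := by
      have := congrArg π h2
      rwa [map_pow, map_pow] at this
    have e3 := eq_of_mul_pow_eq p hp _ _ e1 e2
    rw [← Ideal.algebraMap_residueField_eq_zero, map_sub, sub_eq_zero]
    exact e3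
  exact sub_eq_zero.mp hnil.eq_zero

end reduced

section awn

variable {A W : Type u} [CommRing A] [CommRing W]

/-- ring-level form of `HTop.IsRingAWN` -/
def IsAWNmap (φ : A →+* W) : Prop :=
  IsUH φ ∧ ∀ (C : Type u) [CommRing C] (ψ : A →+* C), IsUH ψ → ∃! χ : C →+* W, χ.comp ψ = φ

lemma isRingAWN_iff (φ : A →+* W) : HTop.IsRingAWN φ ↔ IsAWNmap φ := by
  unfold HTop.IsRingAWN IsAWNmap
  rw [isUH_iff]
  constructor
  · rintro ⟨h1, h2⟩
    exact ⟨h1, fun C _ ψ hψ => h2 C ψ ((isUH_iff ψ).mp hψ)⟩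
  · rintro ⟨h1, h2⟩
    exact ⟨h1, fun C _ ψ hψ => h2 C ψ ((isUH_iff ψ).mpr hψ)⟩

variable {φ : A →+* W}

lemma IsAWNmap.endo_eq_id (h : IsAWNmap φ) (ρ : W →+* W) (hρ : ρ.comp φ = φ) :
    ρ = RingHom.id W := by
  obtain ⟨χ, -, huniq⟩ := h.2 W φ h.1
  rw [huniq ρ hρ, huniq (RingHom.id W) (RingHom.id_comp φ)]

lemma IsAWNmap.retraction (h : IsAWNmap φ) {W' : Type u} [CommRing W'] (j : W →+* W')
    (hj : IsUH j) : ∃ ρ : W' →+* W, ρ.comp j = RingHom.id W := by
  obtain ⟨ρ, hρ, -⟩ := h.2 W' (j.comp φ) (h.1.comp hj)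
  refine ⟨ρ, h.endo_eq_id _ ?_⟩
  rw [RingHom.comp_assoc]
  exact hρ

lemma IsAWNmap.isReduced (h : IsAWNmap φ) : IsReduced W := by
  have hj : IsUH (Ideal.Quotient.mk (nilradical W)) :=
    isUH_of_surjective_of_ker_le_nilradical _ Ideal.Quotient.mk_surjective
      (by rw [Ideal.mk_ker])
  obtain ⟨ρ, hρ⟩ := h.retraction _ hj
  rw [← nilradical_eq_bot_iff, eq_bot_iff]
  intro w hw
  have h1 : Ideal.Quotient.mk (nilradical W) w = 0 := Ideal.Quotient.eq_zero_iff_mem.mpr hw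
  have h2 : ρ (Ideal.Quotient.mk (nilradical W) w) = w := RingHom.congr_fun hρ w
  rw [h1, map_zero] at h2
  rw [Ideal.mem_bot]
  exact h2.symm

lemma IsAWNmap.isAWNRing (h : IsAWNmap φ) : HTop.IsAWNRing W := by
  have hred := h.isReduced
  refine ⟨?_, ?_⟩
  · intro x y hxy
    obtain ⟨h1, h2, h3, -⟩ := Groth.Agent.Lib.Helper69.ElemQuot.sqCube x y hxy
    set I := Ideal.span ({X ^ 2 - C x, X ^ 3 - C y} : Set W[X]) with hI
    have hsurj := h2
    have hinj : Function.Injective (PrimeSpectrum.comap (algebraMap W (W[X] ⧸ I))) := by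
      have := (of_isUnivHomeo _ (isUnivHomeo_of _ h1 h2 h3)).2.1
      exact this.1
    obtain ⟨ρ, hρ⟩ := h.retraction (algebraMap W (W[X] ⧸ I)) ⟨h1, ⟨hinj, hsurj⟩, h3⟩
    have hρ' : ∀ w : W, ρ (algebraMap W (W[X] ⧸ I) w) = w := fun w => RingHom.congr_fun hρ w
    have e2 : (Groth.Agent.Lib.Helper69.ElemQuot.t I) ^ 2 = algebraMap W (W[X] ⧸ I) x := by
      have : Ideal.Quotient.mk I (X ^ 2 - C x) = 0 :=
        Ideal.Quotient.eq_zero_iff_mem.mpr (Ideal.subset_span (by simp))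
      rw [map_sub, sub_eq_zero, map_pow] at this
      exact this
    have e3 : (Groth.Agent.Lib.Helper69.ElemQuot.t I) ^ 3 = algebraMap W (W[X] ⧸ I) y := by
      have : Ideal.Quotient.mk I (X ^ 3 - C y) = 0 :=
        Ideal.Quotient.eq_zero_iff_mem.mpr (Ideal.subset_span (by simp))
      rw [map_sub, sub_eq_zero, map_pow] at this
      exact this
    refine ⟨ρ (Groth.Agent.Lib.Helper69.ElemQuot.t I), ⟨?_, ?_⟩, ?_⟩
    · rw [← map_pow, e2, hρ']
    · rw [← map_pow, e3, hρ']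
    · rintro a' ⟨ha2, ha3⟩
      apply eq_of_sq_cube_eq_of_isReduced
      · rw [← ha2, ← map_pow, e2, hρ']
      · rw [← ha3, ← map_pow, e3, hρ']
  · intro p hp x y hxy
    obtain ⟨h1, h2, h3⟩ := Groth.Agent.Lib.Helper69.ElemQuot.pRoot x y p hp hxy
    set I := Ideal.span ({X ^ p - C x, C (p : W) * X - C y} : Set W[X]) with hI
    have hinj : Function.Injective (PrimeSpectrum.comap (algebraMap W (W[X] ⧸ I))) := by
      have := (of_isUnivHomeo _ (isUnivHomeo_of _ h1 h2 h3)).2.1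
      exact this.1
    obtain ⟨ρ, hρ⟩ := h.retraction (algebraMap W (W[X] ⧸ I)) ⟨h1, ⟨hinj, h2⟩, h3⟩
    have hρ' : ∀ w : W, ρ (algebraMap W (W[X] ⧸ I) w) = w := fun w => RingHom.congr_fun hρ w
    have e2 : (Groth.Agent.Lib.Helper69.ElemQuot.t I) ^ p = algebraMap W (W[X] ⧸ I) x := by
      have : Ideal.Quotient.mk I (X ^ p - C x) = 0 :=
        Ideal.Quotient.eq_zero_iff_mem.mpr (Ideal.subset_span (by simp))
      rw [map_sub, sub_eq_zero, map_pow] at this
      exact this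
    have e3 : ((p : ℕ) : W[X] ⧸ I) * (Groth.Agent.Lib.Helper69.ElemQuot.t I) =
        algebraMap W (W[X] ⧸ I) y := by
      have : Ideal.Quotient.mk I (C (p : W) * X - C y) = 0 :=
        Ideal.Quotient.eq_zero_iff_mem.mpr (Ideal.subset_span (by simp))
      rw [map_sub, sub_eq_zero, map_mul] at this
      have e : Ideal.Quotient.mk I (C (p : W)) = ((p : ℕ) : W[X] ⧸ I) := by
        rw [map_natCast, map_natCast]
      rw [e] at this
      exact this
    have e3' : (p : W) * ρ (Groth.Agent.Lib.Helper69.ElemQuot.t I) = y := by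
      have := congrArg ρ e3
      rwa [map_mul, map_natCast, hρ'] at this
    refine ⟨ρ (Groth.Agent.Lib.Helper69.ElemQuot.t I), ⟨?_, ?_⟩, ?_⟩
    · rw [← map_pow, e2, hρ']
    · exact e3'.symm
    · rintro a' ⟨ha2, ha3⟩
      apply eq_of_mul_pow_eq_of_isReduced p hp
      · rw [e3', ← ha3]
      · rw [← ha2, ← map_pow, e2, hρ']

lemma isAWNRing_of_ringEquiv {B : Type u} [CommRing B] (e : B ≃+* W) (h : HTop.IsAWNRing W) :
    HTop.IsAWNRing B := by
  refine ⟨?_, ?_⟩
  · intro x y hxy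
    obtain ⟨a, ⟨ha2, ha3⟩, huniq⟩ := h.1 (e x) (e y) (by rw [← map_pow, ← map_pow, hxy])
    refine ⟨e.symm a, ⟨?_, ?_⟩, ?_⟩
    · apply e.injective; rw [map_pow, e.apply_symm_apply]; exact ha2
    · apply e.injective; rw [map_pow, e.apply_symm_apply]; exact ha3
    · rintro a' ⟨h2, h3⟩
      rw [RingEquiv.eq_symm_apply]
      apply huniq
      exact ⟨by rw [h2, map_pow], by rw [h3, map_pow]⟩
  · intro p hp x y hxy
    obtain ⟨a, ⟨ha2, ha3⟩, huniq⟩ := h.2 p hp (e x) (e y) (by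
      have := congrArg e hxy
      rwa [map_mul, map_pow, map_pow, map_natCast] at this)
    refine ⟨e.symm a, ⟨?_, ?_⟩, ?_⟩
    · apply e.injective; rw [map_pow, e.apply_symm_apply]; exact ha2
    · apply e.injective; rw [map_mul, map_natCast, e.apply_symm_apply]; exact ha3
    · rintro a' ⟨h2, h3⟩
      rw [RingEquiv.eq_symm_apply]
      apply huniq
      exact ⟨by rw [h2, map_pow], by rw [h3, map_mul, map_natCast]⟩

/-- **Stacks 0EUR-type**: an AWN ring with a universal homeomorphism to `W` reduced is all of `W`. -/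
theorem bijective_of_isAWNRing_of_isUH {B : Type u} [CommRing B] [IsReduced W]
    (hB : HTop.IsAWNRing B) (χ : B →+* W) (hχ : IsUH χ) : Function.Bijective χ := by
  have hBred := isReduced_of_isSeminormalRing hB.1
  have hinj : Function.Injective χ := hχ.injective_of_isReduced
  refine ⟨hinj, ?_⟩
  by_contra hns
  letI := χ.toAlgebra
  rcases exists_step_of_fieldPtsInj (C := B) (B := W) hinj hχ.1 hχ.2.1.1 hχ.2.2 hns with
    ⟨w, hw1, ⟨x, hx⟩, ⟨y, hy⟩⟩ | ⟨p, w, hp, hw1, ⟨y, hy⟩, ⟨x, hx⟩⟩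
  · apply hw1
    have hxy : x ^ 3 = y ^ 2 := by
      apply hinj
      change χ x = w ^ 2 at hx
      change χ y = w ^ 3 at hy
      rw [map_pow, map_pow, hx, hy]
      ring
    obtain ⟨a, ⟨ha2, ha3⟩, -⟩ := hB.1 x y hxy
    refine ⟨a, ?_⟩
    change χ a = w
    apply eq_of_sq_cube_eq_of_isReduced
    · rw [← map_pow, ← ha2]; exact hx
    · rw [← map_pow, ← ha3]; exact hy
  · apply hw1
    change χ y = (p : W) * w at hy
    change χ x = w ^ p at hx
    have hxy : (p : B) ^ p * x = y ^ p := by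
      apply hinj
      rw [map_mul, map_pow, map_pow, map_natCast, hx, hy]
      ring
    obtain ⟨a, ⟨ha2, ha3⟩, -⟩ := hB.2 p hp x y hxy
    refine ⟨a, ?_⟩
    change χ a = w
    apply eq_of_mul_pow_eq_of_isReduced p hp
    · rw [← hy, ha3, map_mul, map_natCast]
    · rw [← map_pow, ← ha2]; exact hx

theorem bijective_iff_isAWNRing {B : Type u} [CommRing B] (hφ : IsAWNmap φ) (ψ : A →+* B)
    (hψ : IsUH ψ) (χ : B →+* W) (hχ : χ.comp ψ = φ) :
    Function.Bijective χ ↔ HTop.IsAWNRing B := by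
  constructor
  · intro h
    exact isAWNRing_of_ringEquiv (RingEquiv.ofBijective χ h) hφ.isAWNRing
  · intro hB
    have := hφ.isReduced
    have hχU : IsUH χ := hψ.of_comp (by rw [hχ]; exact hφ.1)
    exact bijective_of_isAWNRing_of_isUH hB χ hχU

end awn

end Groth.Agent.Lib.Helper69.AWNRing
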