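import Mathlib
import Groth.Prelude.Def_HTop2
import Groth.Agent.Lib.Helper69.AWNRing

/-!
# Existence of the absolute weak normalization of a ring (Stacks 0EUS)

`A^awn` is realised as the weak normalization of `A` in the integral closure of `A` in
`∏_P AlgebraicClosure k(P)`.
-/

open AlgebraicGeometry CategoryTheory
open scoped TensorProduct
universe u

namespace Groth.Agent.Lib.Helper69.AWNExist

open Groth.Agent.Lib.Helper69.UHRing Groth.Agent.Lib.Helper69.AWNRing
  Groth.Agent.Lib.Helper69.WeakNorm Groth.Agent.Lib.Helper69.SpecResidue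

section lift

lemma exists_lift_algClosure {K K' : Type u} [Field K] [Field K'] (m : K →+* K')
    (hpi : ∀ z : K', ∃ n : ℕ, z ^ ringExpChar K ^ n ∈ Set.range m) :
    ∃ L : K' →+* AlgebraicClosure K, ∀ x : K, L (m x) = algebraMap K (AlgebraicClosure K) x := by
  letI : Algebra K K' := m.toAlgebra
  have hE := ringExpChar.expChar K
  have hpi' : IsPurelyInseparable K K' := by
    rw [isPurelyInseparable_iff_pow_mem K (ringExpChar K)]
    intro z
    obtain ⟨n, w, hw⟩ := hpi z
    exact ⟨n, w, hw⟩
  let L : K' →ₐ[K] AlgebraicClosure K := IsAlgClosed.lift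
  exact ⟨L, fun x => L.commutes x⟩

end lift

section theta

variable {A C : Type u} [CommRing A] [CommRing C] (ψ : A →+* C)

set_option backward.isDefEq.respectTransparency.types false in
/-- for a prime `Q` of `C`, a field point of `C` with values in the algebraic closure of
`k(Q ∩ A)`, compatible with `A`, when the residue extension is algebraic -/
lemma exists_theta (hpts : FieldPtsInj ψ) (Q : PrimeSpectrum C) :
    ∃ θ : C →+* AlgebraicClosure (PrimeSpectrum.comap ψ Q).asIdeal.ResidueField,
      ∀ a : A, θ (ψ a) = algebraMap A _ a := by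
  set P := PrimeSpectrum.comap ψ Q with hP
  set m := Ideal.ResidueField.map P.asIdeal Q.asIdeal ψ rfl with hm
  obtain ⟨L, hL⟩ := exists_lift_algClosure m (pow_mem_range_map_of_fieldPts ψ hpts Q)
  refine ⟨L.comp (algebraMap C Q.asIdeal.ResidueField), ?_⟩
  intro a
  rw [RingHom.comp_apply]
  have h1 : algebraMap C Q.asIdeal.ResidueField (ψ a) =
      m (algebraMap A P.asIdeal.ResidueField a) :=
    (Ideal.ResidueField.map_algebraMap P.asIdeal Q.asIdeal ψ rfl a).symm
  rw [h1, hL]
  exact (IsScalarTower.algebraMap_apply A P.asIdeal.ResidueField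
    (AlgebraicClosure P.asIdeal.ResidueField) a).symm

end theta

section general

variable {A B C : Type u} [CommRing A] [CommRing B] [CommRing C] [Algebra A B]

/-- the image of a map from a universal homeomorphism lands in the weak normalization -/
lemma map_mem_eqSub (ψ : A →+* C) (hψ : FieldPtsInj ψ) (g : C →+* B)
    (hg : ∀ a, g (ψ a) = algebraMap A B a) (c : C) : g c ∈ eqSub A B := by
  rw [mem_eqSub, nilpotent_iff_mem_prime]
  intro J hJ
  let π : B ⊗[A] B →+* J.ResidueField := algebraMap _ _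
  let ψ₁ : B →+* J.ResidueField :=
    π.comp (Algebra.TensorProduct.includeLeft (R := A) (S := A) (A := B) (B := B)).toRingHom
  let ψ₂ : B →+* J.ResidueField :=
    π.comp (Algebra.TensorProduct.includeRight (R := A) (A := B) (B := B)).toRingHom
  have hag : (ψ₁.comp g).comp ψ = (ψ₂.comp g).comp ψ := by
    ext a
    change π ((g (ψ a)) ⊗ₜ[A] (1 : B)) = π ((1 : B) ⊗ₜ[A] (g (ψ a)))
    congr 1
    rw [hg, Algebra.algebraMap_eq_smul_one, TensorProduct.smul_tmul]
  have h1 := hψ _ _ _ hag
  have h2 : ψ₁ (g c) = ψ₂ (g c) := RingHom.congr_fun h1 c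
  have h3 : π (g c ⊗ₜ[A] (1 : B) - (1 : B) ⊗ₜ[A] g c) = 0 := by
    rw [map_sub, sub_eq_zero]
    exact h2
  exact Ideal.algebraMap_residueField_eq_zero.mp h3

lemma IsUH.of_surj {φ : A →+* C} (h1 : φ.IsIntegral)
    (h2 : Function.Surjective (PrimeSpectrum.comap φ)) (h3 : FieldPtsInj φ) : IsUH φ :=
  (isUH_iff φ).mpr (isUnivHomeo_of φ h1 h2 h3)

end general

section construction

variable (A : Type u) [CommRing A]

/-- the big product of algebraic closures of residue fields -/
abbrev Nbig : Type u := ∀ P : PrimeSpectrum A, AlgebraicClosure P.asIdeal.ResidueField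

/-- the integral closure of `A` in `Nbig A` -/
noncomputable def B0 : Subalgebra A (Nbig A) := integralClosure A (Nbig A)

/-- the absolute weak normalization -/
noncomputable def Wawn : Subalgebra A (B0 A) := eqSub A (B0 A)

instance : Algebra.IsIntegral A (B0 A) := inferInstanceAs (Algebra.IsIntegral A (integralClosure A (Nbig A)))

set_option backward.isDefEq.respectTransparency.types false in
lemma ker_le_nilradical : RingHom.ker (algebraMap A (Wawn A)) ≤ nilradical A := by
  intro a ha
  rw [RingHom.mem_ker] at ha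
  rw [mem_nilradical, nilpotent_iff_mem_prime]
  intro J hJ
  have h1 : ((algebraMap A (Wawn A) a : B0 A) : Nbig A) ⟨J, hJ⟩ = 0 := by
    rw [ha]; rfl
  have h2 : algebraMap A (AlgebraicClosure J.ResidueField) a = 0 := h1
  rw [IsScalarTower.algebraMap_apply A J.ResidueField (AlgebraicClosure J.ResidueField),
    map_eq_zero, Ideal.algebraMap_residueField_eq_zero] at h2
  exact h2

lemma isUH_algebraMap_Wawn : IsUH (A := A) (B := Wawn A) (algebraMap A (Wawn A)) := by
  have hint : RingHom.IsIntegral (R := A) (A := Wawn A) (algebraMap A (Wawn A)) := by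
    have : Algebra.IsIntegral A (Wawn A) :=
      Algebra.IsIntegral.of_injective (Wawn A).val Subtype.val_injective
    exact algebraMap_isIntegral_iff.mpr this
  refine IsUH.of_surj hint ?_ (fieldPts_eqSub A (B0 A))
  exact Groth.Agent.Lib.Helper69.EtaPt.comap_surjective_of_isIntegral_of_ker_le_nilradical _ hint
    (ker_le_nilradical A)

variable {A}

theorem exists_map_Wawn {C : Type u} [CommRing C] (ψ : A →+* C) (hψ : IsUH ψ) :
    ∃ χ : C →+* Wawn A, χ.comp ψ = algebraMap A (Wawn A) := by
  have key : ∀ P : PrimeSpectrum A, ∃ g : C →+* AlgebraicClosure P.asIdeal.ResidueField,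
      ∀ a, g (ψ a) = algebraMap A _ a := by
    intro P
    obtain ⟨Q, rfl⟩ := hψ.2.1.2 P
    exact exists_theta ψ hψ.2.2 Q
  choose g hg using key
  let G : C →+* Nbig A := RingHom.pi g
  have hG : ∀ a, G (ψ a) = algebraMap A (Nbig A) a := by
    intro a
    funext P
    exact hg P a
  have hGint : ∀ c, G c ∈ B0 A := by
    intro c
    obtain ⟨p, hp, hpc⟩ := hψ.1 c
    refine ⟨p, hp, ?_⟩
    have h1 := Polynomial.hom_eval₂ p ψ G c
    rw [hpc, map_zero] at h1
    have h2 : G.comp ψ = algebraMap A (Nbig A) := RingHom.ext hG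
    rw [h2] at h1
    exact h1.symm
  let G₀ : C →+* B0 A :=
    { toFun := fun c => ⟨G c, hGint c⟩
      map_one' := Subtype.ext (map_one G)
      map_mul' := fun a b => Subtype.ext (map_mul G a b)
      map_zero' := Subtype.ext (map_zero G)
      map_add' := fun a b => Subtype.ext (map_add G a b) }
  have hG₀ : ∀ a, G₀ (ψ a) = algebraMap A (B0 A) a := fun a => Subtype.ext (hG a)
  have hmem : ∀ c, G₀ c ∈ Wawn A := fun c => map_mem_eqSub ψ hψ.2.2 G₀ hG₀ c
  let χ : C →+* Wawn A :=
    { toFun := fun c => ⟨G₀ c, hmem c⟩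
      map_one' := Subtype.ext (map_one G₀)
      map_mul' := fun a b => Subtype.ext (map_mul G₀ a b)
      map_zero' := Subtype.ext (map_zero G₀)
      map_add' := fun a b => Subtype.ext (map_add G₀ a b) }
  refine ⟨χ, RingHom.ext fun a => Subtype.ext ?_⟩
  exact hG₀ a

theorem unique_map_Wawn {C : Type u} [CommRing C] (ψ : A →+* C) (hψ : IsUH ψ)
    (χ₁ χ₂ : C →+* Wawn A) (h : χ₁.comp ψ = χ₂.comp ψ) : χ₁ = χ₂ := by
  refine RingHom.ext fun c => Subtype.ext (Subtype.ext ?_)
  funext P
  let ev : Wawn A →+* AlgebraicClosure P.asIdeal.ResidueField :=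
    ((Pi.evalRingHom _ P).comp ((B0 A).val : B0 A →+* Nbig A)).comp
      ((Wawn A).val : Wawn A →+* B0 A)
  have h1 : (ev.comp χ₁).comp ψ = (ev.comp χ₂).comp ψ :=
    RingHom.ext fun a => congrArg ev (RingHom.congr_fun h a)
  have h2 := hψ.2.2 _ _ _ h1
  exact RingHom.congr_fun h2 c

theorem isAWNmap_Wawn : IsAWNmap (A := A) (W := Wawn A) (algebraMap A (Wawn A)) := by
  refine ⟨isUH_algebraMap_Wawn A, ?_⟩
  intro C _ ψ hψ
  obtain ⟨χ, hχ⟩ := exists_map_Wawn ψ hψ
  refine ⟨χ, hχ, ?_⟩
  intro χ' hχ'
  exact unique_map_Wawn ψ hψ χ' χ (hχ'.trans hχ.symm)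

end construction

end Groth.Agent.Lib.Helper69.AWNExist
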