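import Mathlib.RingTheory.HopfAlgebra.Convolution
import Mathlib.RingTheory.Bialgebra.TensorProduct
import Mathlib.RingTheory.HopfAlgebra.TensorProduct

/-!
# The antipode of a commutative Hopf algebra is an anti-coalgebra map

`Δ (S a) = Σ S a₂ ⊗ S a₁`, proved through the convolution group of algebra maps `A → A ⊗ A`.
-/

namespace Groth.Agent.Lib.Helper69

open Coalgebra Bialgebra HopfAlgebra TensorProduct WithConv

variable {R A : Type*} [CommRing R] [CommRing A] [HopfAlgebra R A]

theorem comul_eq_mul :
    toConv (comulAlgHom R A) =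
      toConv (Algebra.TensorProduct.includeLeft : A →ₐ[R] A ⊗[R] A) *
        toConv (Algebra.TensorProduct.includeRight : A →ₐ[R] A ⊗[R] A) := by
  apply WithConv.ofConv_injective
  apply AlgHom.ext
  intro a
  rw [ofConv_toConv]
  erw [AlgHom.convMul_apply]
  simp

theorem comul_comp_antipode :
    toConv ((comulAlgHom R A).comp (antipodeAlgHom R A)) =
      toConv ((Algebra.TensorProduct.includeRight : A →ₐ[R] A ⊗[R] A).comp (antipodeAlgHom R A)) *
        toConv ((Algebra.TensorProduct.includeLeft : A →ₐ[R] A ⊗[R] A).comp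
          (antipodeAlgHom R A)) := by
  have h1 : (toConv (comulAlgHom R A))⁻¹ =
      toConv ((comulAlgHom R A).comp (antipodeAlgHom R A)) := rfl
  have h2 : (toConv (Algebra.TensorProduct.includeLeft : A →ₐ[R] A ⊗[R] A))⁻¹ =
      toConv ((Algebra.TensorProduct.includeLeft : A →ₐ[R] A ⊗[R] A).comp
        (antipodeAlgHom R A)) := rfl
  have h3 : (toConv (Algebra.TensorProduct.includeRight : A →ₐ[R] A ⊗[R] A))⁻¹ =
      toConv ((Algebra.TensorProduct.includeRight : A →ₐ[R] A ⊗[R] A).comp
        (antipodeAlgHom R A)) := rfl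
  rw [← h1, ← h2, ← h3, comul_eq_mul]
  exact mul_inv_rev (G := WithConv (A →ₐ[R] A ⊗[R] A)) _ _

/-- Anti-comultiplicativity of the antipode: `Δ ∘ S = (S ⊗ S) ∘ τ ∘ Δ`. -/
theorem comul_antipode (a : A) :
    comul (R := R) (antipode R a) =
      TensorProduct.map (antipode R) (antipode R)
        (TensorProduct.comm R A A (comul (R := R) a)) := by
  have h := congrArg (fun f => f.ofConv a) (comul_comp_antipode (R := R) (A := A))
  erw [AlgHom.convMul_apply] at h
  have h' : comul (R := R) (antipode R a) =
      (Algebra.TensorProduct.lift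
        ((Algebra.TensorProduct.includeRight : A →ₐ[R] A ⊗[R] A).comp (antipodeAlgHom R A))
        ((Algebra.TensorProduct.includeLeft : A →ₐ[R] A ⊗[R] A).comp (antipodeAlgHom R A))
        (fun _ _ => Commute.all _ _)) (comul (R := R) a) := h
  rw [h']
  generalize comul (R := R) a = x
  induction x using TensorProduct.induction_on with
  | zero => simp
  | tmul x y =>
    simp [Algebra.TensorProduct.tmul_mul_tmul]
  | add x y hx hy => simp only [map_add, hx, hy]

end Groth.Agent.Lib.Helper69
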