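import Mathlib

/-!
Algebras of small rank over a big field: if `R` is a `K`-algebra with `Module.rank K R < #K`
(and `K` uncountable), then `R` is a Jacobson ring and every field quotient of `R` is algebraic
over `K` (Stacks 046V-style, via `Algebra.Transcendental.rank_eq_cardinalMk`).
-/

open Cardinal Polynomial

namespace Groth.Agent.Lib.Helper69.BigFieldJac

universe u

/-- A field extension `L/K` of rank `< #K` is algebraic. -/
theorem isAlgebraic_of_rank_lt (K L : Type u) [Field K] [Field L] [Algebra K L]
    (h : Module.rank K L < #K) : Algebra.IsAlgebraic K L := by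
  by_contra hna
  rw [← Algebra.transcendental_iff_not_isAlgebraic] at hna
  have h1 := Algebra.Transcendental.rank_eq_cardinalMk K L
  have h2 : #K ≤ #L := Cardinal.mk_le_of_injective (algebraMap K L).injective
  rw [h1] at h
  exact absurd h (not_lt.mpr h2)

theorem isAlgebraic_of_surjective (K R L : Type u) [Field K] [CommRing R] [Algebra K R] [Field L]
    [Algebra K L] (h : Module.rank K R < #K) (φ : R →ₐ[K] L) (hφ : Function.Surjective φ) :
    Algebra.IsAlgebraic K L :=
  isAlgebraic_of_rank_lt K L
    ((LinearMap.rank_le_of_surjective φ.toLinearMap hφ).trans_lt h)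

theorem ker_isMaximal (K R L : Type u) [Field K] [CommRing R] [Algebra K R] [Field L] [Algebra K L]
    [Algebra.IsAlgebraic K L] (ψ : R →ₐ[K] L) : (RingHom.ker ψ.toRingHom).IsMaximal := by
  have h1 : IsField ψ.range := Subalgebra.isField_of_algebraic _
  have e : (R ⧸ RingHom.ker ψ.toRingHom) ≃+* ψ.toRingHom.range :=
    RingHom.quotientKerEquivRange ψ.toRingHom
  have h2 : IsField ψ.toRingHom.range := h1
  exact Ideal.Quotient.maximal_of_isField _ (MulEquiv.isField h2 e.toMulEquiv)

theorem rank_away_lt (K D : Type u) [Field K] [CommRing D] [Algebra K D]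
    (hK : ℵ₀ < #K) (h : Module.rank K D < #K) (x : D) :
    Module.rank K (Localization.Away x) < #K := by
  let φ : D[X] →ₐ[D] Localization.Away x := Polynomial.aeval (IsLocalization.Away.invSelf x)
  have hφ : Function.Surjective φ := by
    intro y
    obtain ⟨d, s, hs⟩ := IsLocalization.exists_mk'_eq (Submonoid.powers x) y
    obtain ⟨n, hn⟩ := s.2
    refine ⟨Polynomial.C d * Polynomial.X ^ n, ?_⟩
    simp only [φ, map_mul, Polynomial.aeval_C, map_pow, Polynomial.aeval_X]
    rw [← hs, IsLocalization.eq_mk'_iff_mul_eq, ← hn]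
    simp only [map_pow]
    rw [mul_assoc, ← mul_pow]
    have : IsLocalization.Away.invSelf x * algebraMap D (Localization.Away x) x = 1 := by
      rw [mul_comm]; exact IsLocalization.Away.mul_invSelf x
    rw [this, one_pow, mul_one]
  have h1 : Module.rank K (Localization.Away x) ≤ Module.rank K D[X] :=
    LinearMap.rank_le_of_surjective (φ.toLinearMap.restrictScalars K) hφ
  have h2 : Module.rank K D[X] = Module.rank K (ℕ →₀ D) :=
    (((Polynomial.toFinsuppIsoLinear D).restrictScalars K).trans
      (AddMonoidAlgebra.coeffLinearEquiv K)).rank_eq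
  have h3 : Module.rank K (ℕ →₀ D) = ℵ₀ * Module.rank K D := by
    rw [rank_finsupp]; simp
  rw [h2, h3] at h1
  exact h1.trans_lt (Cardinal.mul_lt_of_lt hK.le hK h)

/-- A `K`-algebra of rank `< #K` over an uncountable field is a Jacobson ring. -/
theorem isJacobsonRing_of_rank_lt (K R : Type u) [Field K] [CommRing R] [Algebra K R]
    (hK : ℵ₀ < #K) (h : Module.rank K R < #K) : IsJacobsonRing R := by
  rw [isJacobsonRing_iff_prime_eq]
  intro P hP
  refine le_antisymm ?_ Ideal.le_jacobson
  intro x hx
  by_contra hxP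
  let D := R ⧸ P
  let xb : D := Ideal.Quotient.mk P x
  have hxb : xb ≠ 0 := by
    intro h0
    exact hxP (Ideal.Quotient.eq_zero_iff_mem.mp h0)
  have hD : Module.rank K D < #K :=
    (LinearMap.rank_le_of_surjective (Ideal.Quotient.mkₐ K P).toLinearMap
      Ideal.Quotient.mk_surjective).trans_lt h
  have hrank := rank_away_lt K D hK hD xb
  have hinj : Function.Injective (algebraMap D (Localization.Away xb)) :=
    IsLocalization.injective _ (powers_le_nonZeroDivisors_of_noZeroDivisors hxb)
  have : Nontrivial (Localization.Away xb) := hinj.nontrivial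
  obtain ⟨M, hM⟩ := Ideal.exists_maximal (Localization.Away xb)
  let _ : Field (Localization.Away xb ⧸ M) := Ideal.Quotient.field M
  have halg : Algebra.IsAlgebraic K (Localization.Away xb ⧸ M) :=
    isAlgebraic_of_surjective K _ _ hrank (Ideal.Quotient.mkₐ K M) Ideal.Quotient.mk_surjective
  let ψ : R →ₐ[K] (Localization.Away xb ⧸ M) :=
    (Ideal.Quotient.mkₐ K M).comp
      ((IsScalarTower.toAlgHom K D (Localization.Away xb)).comp (Ideal.Quotient.mkₐ K P))
  have hmax := ker_isMaximal K R _ ψ
  have hPm : P ≤ RingHom.ker ψ.toRingHom := by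
    intro y hy
    rw [RingHom.mem_ker]
    change Ideal.Quotient.mk M (algebraMap D _ (Ideal.Quotient.mk P y)) = 0
    rw [Ideal.Quotient.eq_zero_iff_mem.mpr hy, map_zero, map_zero]
  have hxm : x ∉ RingHom.ker ψ.toRingHom := by
    intro hxk
    rw [RingHom.mem_ker] at hxk
    change Ideal.Quotient.mk M (algebraMap D _ xb) = 0 at hxk
    rw [Ideal.Quotient.eq_zero_iff_mem] at hxk
    have hu : IsUnit (algebraMap D (Localization.Away xb) xb) :=
      IsLocalization.Away.algebraMap_isUnit xb
    exact hM.ne_top (Ideal.eq_top_of_isUnit_mem _ hxk hu)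
  rw [Ideal.jacobson, Ideal.mem_sInf] at hx
  exact hxm (hx ⟨hPm, hmax⟩)

end Groth.Agent.Lib.Helper69.BigFieldJac
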