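import Groth.Agent.Lib.Helper69.BigFieldJac
import Groth.Agent.Lib.Helper21.ResMap

/-!
Scheme-level glue for "big base field" statements: a `K`-scheme covered by affine opens
`Spec R` with `Module.rank K R < #K` (`K` uncountable) is Jacobson and has algebraic residue
fields at closed points.
-/

open Cardinal CategoryTheory CategoryTheory.Limits AlgebraicGeometry TensorProduct

namespace Groth.Agent.Lib.Helper69.BigFieldJacSch

universe u

attribute [local instance] Curv2.resAlgebra

theorem surjective_of_isClosedImmersion_SpecMap {R S : CommRingCat.{u}} (φ : R ⟶ S)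
    [IsClosedImmersion (Spec.map φ)] : Function.Surjective φ.hom := by
  obtain ⟨_, h2⟩ := IsClosedImmersion.isAffine_surjective_of_isAffine (Spec.map φ)
  have e : φ = (Scheme.ΓSpecIso R).inv ≫ (Spec.map φ).appTop ≫ (Scheme.ΓSpecIso S).hom := by
    rw [← Category.assoc, ← Scheme.ΓSpecIso_inv_naturality, Category.assoc, Iso.inv_hom_id,
      Category.comp_id]
  rw [e]
  simp only [CommRingCat.hom_comp, RingHom.coe_comp]
  exact ((Scheme.ΓSpecIso S).commRingCatIsoToRingEquiv.surjective.comp h2).comp
    (Scheme.ΓSpecIso R).commRingCatIsoToRingEquiv.symm.surjective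

/-- Residue fields at closed points are algebraic. -/
theorem isAlgebraic_residueField (K : Type u) [Field K] (Y : Scheme.{u})
    [Y.Over (Spec (CommRingCat.of K))] (R : Type u) [CommRing R] [Algebra K R]
    (h : Spec (CommRingCat.of R) ⟶ Y) [IsOpenImmersion h]
    (hq : h ≫ (Y ↘ Spec (CommRingCat.of K)) = Spec.map (CommRingCat.ofHom (algebraMap K R)))
    (hrank : Module.rank K R < #K) (x : Y) (hx : IsClosed ({x} : Set Y))
    (hxh : x ∈ Set.range h) : Algebra.IsAlgebraic K (Y.residueField x) := by
  have hci : IsClosedImmersion (Y.fromSpecResidueField x) :=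
    isClosed_singleton_iff_isClosedImmersion.mp hx
  have hsub : Set.range (Y.fromSpecResidueField x) ⊆ Set.range h := by
    rw [Scheme.range_fromSpecResidueField]
    exact Set.singleton_subset_iff.mpr hxh
  let l : Spec (Y.residueField x) ⟶ Spec (CommRingCat.of R) :=
    IsOpenImmersion.lift h (Y.fromSpecResidueField x) hsub
  have hl : l ≫ h = Y.fromSpecResidueField x := IsOpenImmersion.lift_fac _ _ _
  have hlci : IsClosedImmersion l := by
    have : IsClosedImmersion (l ≫ h) := by rw [hl]; exact hci
    exact IsClosedImmersion.of_comp l h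
  let ev : CommRingCat.of R ⟶ Y.residueField x := Spec.preimage l
  have hev : Spec.map ev = l := Spec.map_preimage l
  have hevs : Function.Surjective ev.hom := by
    have : IsClosedImmersion (Spec.map ev) := by rw [hev]; exact hlci
    exact surjective_of_isClosedImmersion_SpecMap ev
  have hcomp : ev.hom.comp (algebraMap K R) = Curv2.resMap K Y x := by
    have h1 : Spec.map (CommRingCat.ofHom (algebraMap K R) ≫ ev) =
        Spec.map (CommRingCat.ofHom (Curv2.resMap K Y x)) := by
      rw [Spec.map_comp, hev, ← hq, ← Category.assoc, hl,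
        Groth.Agent.Lib.Helper21.SpecMap_resMap]
    have h2 := Spec.map_injective h1
    have h3 := congrArg CommRingCat.Hom.hom h2
    simpa using h3
  let φ : R →ₐ[K] Y.residueField x :=
    { ev.hom with
      commutes' := fun c => by
        change (ev.hom.comp (algebraMap K R)) c = _
        rw [hcomp]; rfl }
  exact BigFieldJac.isAlgebraic_of_surjective K R _ hrank φ hevs

/-- Jacobson from an affine cover by Jacobson rings. -/
theorem jacobsonSpace_of_cover (Y : Scheme.{u})
    (H : ∀ x : Y, ∃ (R : CommRingCat.{u}) (h : Spec R ⟶ Y), IsOpenImmersion h ∧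
      x ∈ Set.range h ∧ IsJacobsonRing R) : JacobsonSpace Y := by
  choose R h h1 h2 h3 using H
  have hcov : TopologicalSpace.IsOpenCover (fun x : Y => (h x).opensRange) := by
    rw [TopologicalSpace.IsOpenCover, eq_top_iff]
    intro y _
    exact TopologicalSpace.Opens.mem_iSup.mpr ⟨y, h2 y⟩
  rw [hcov.jacobsonSpace_iff]
  intro x
  have : IsJacobsonRing (R x) := h3 x
  let e : Spec (R x) ≃ₜ Set.range (h x) := (h x).isOpenEmbedding.isEmbedding.toHomeomorph
  exact JacobsonSpace.of_isOpenEmbedding (f := e.symm) e.symm.isOpenEmbedding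

end Groth.Agent.Lib.Helper69.BigFieldJacSch
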