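import Mathlib

/-! # A Noetherian domain whose generic point is open has dimension ≤ 1 (helper69)

Height-free formulation: no chain `p₁ < q < m'` of primes with `f ∉ p₁` and `f` in every prime
strictly containing `p₁`. -/

set_option autoImplicit false

noncomputable section

namespace Groth.Agent.Lib.Helper69.OpenGenericDim

/-- domain version. -/
theorem false_of_chain_domain {D : Type*} [CommRing D] [IsDomain D] [IsNoetherianRing D]
    {f : D} (hf : f ≠ 0) (H : ∀ Q : Ideal D, Q.IsPrime → Q ≠ ⊥ → f ∈ Q)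
    {q m' : Ideal D} [hq : q.IsPrime] [hm' : m'.IsPrime] (hq0 : q ≠ ⊥) (hqm : q < m') : False := by
  classical
  have pit : ∀ {P Q : Ideal D} {x : D}, P.IsPrime → Q ∈ (Ideal.span {x}).minimalPrimes → P < Q →
      P = ⊥ := by
    intro P Q x hP hQ hPQ
    have h1 := Ideal.mem_minimalPrimes_span_of_mem_minimalPrimes_span_insert (q := P) (p := Q)
      hPQ x ∅ (by simpa using hQ) ∅ (Set.empty_subset _) (Set.empty_subset _)
    rw [Ideal.span_empty] at h1
    have hbot : (⊥ : Ideal D).IsPrime := Ideal.isPrime_bot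
    exact le_bot_iff.mp (h1.2 ⟨hbot, le_rfl⟩ bot_le)
  have hfin : (Ideal.span {f}).minimalPrimes.Finite :=
    Ideal.finite_minimalPrimes_of_isNoetherianRing D _
  have hfq : Ideal.span {f} ≤ q := by
    rw [Ideal.span_singleton_le_iff_mem]
    exact H q hq hq0
  obtain ⟨P0, hP0, hP0q⟩ := Ideal.exists_minimalPrimes_le hfq
  -- prime avoidance
  have havoid : ¬ ((m' : Set D) ⊆ ⋃ P ∈ (hfin.toFinset : Set (Ideal D)), (P : Set D)) := by
    intro hsub
    have hsub' := (Ideal.subset_union_prime (s := hfin.toFinset) (f := fun P : Ideal D => P)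
      P0 P0 (fun P hP _ _ => ((hfin.mem_toFinset).mp hP).1.1) (I := m')).mp hsub
    obtain ⟨P, hP, hmP⟩ := hsub'
    have hP' : P ∈ (Ideal.span {f}).minimalPrimes := (hfin.mem_toFinset).mp hP
    exact hq0 (pit hq hP' (lt_of_lt_of_le hqm hmP))
  rw [Set.not_subset] at havoid
  obtain ⟨g, hgm, hg⟩ := havoid
  have hgP : ∀ P ∈ (Ideal.span {f}).minimalPrimes, g ∉ P := by
    intro P hP hgP
    apply hg
    simp only [Set.mem_iUnion]
    exact ⟨P, by simpa using hP, hgP⟩
  have hgm' : Ideal.span {g} ≤ m' := by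
    rw [Ideal.span_singleton_le_iff_mem]; exact hgm
  obtain ⟨Q, hQ, hQm⟩ := Ideal.exists_minimalPrimes_le hgm'
  have hQprime : Q.IsPrime := hQ.1.1
  have hgQ : g ∈ Q := hQ.1.2 (Ideal.mem_span_singleton_self g)
  have hQ0 : Q ≠ ⊥ := by
    intro h0
    rw [h0, Ideal.mem_bot] at hgQ
    exact hgP P0 hP0 (hgQ ▸ P0.zero_mem)
  have hfQ : Ideal.span {f} ≤ Q := by
    rw [Ideal.span_singleton_le_iff_mem]
    exact H Q hQprime hQ0
  obtain ⟨P, hP, hPQ⟩ := Ideal.exists_minimalPrimes_le hfQ
  have hPprime : P.IsPrime := hP.1.1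
  have hP0' : P ≠ ⊥ := by
    intro h0
    have : f ∈ P := hP.1.2 (Ideal.mem_span_singleton_self f)
    rw [h0, Ideal.mem_bot] at this
    exact hf this
  rcases eq_or_lt_of_le hPQ with h | h
  · exact hgP P hP (h ▸ hgQ)
  · exact hP0' (pit hPprime hQ h)

/-- general version. -/
theorem false_of_chain {R : Type*} [CommRing R] [IsNoetherianRing R]
    {p₁ q m' : Ideal R} [hp₁ : p₁.IsPrime] [hq : q.IsPrime] [hm' : m'.IsPrime]
    (h1 : p₁ < q) (h2 : q < m') {f : R} (hf : f ∉ p₁)
    (H : ∀ Q : Ideal R, Q.IsPrime → p₁ < Q → f ∈ Q) : False := by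
  let π := Ideal.Quotient.mk p₁
  have hπ : Function.Surjective π := Ideal.Quotient.mk_surjective
  have hker : RingHom.ker π = p₁ := Ideal.mk_ker
  have hD : IsDomain (R ⧸ p₁) := Ideal.Quotient.isDomain p₁
  have hcm : ∀ J : Ideal R, p₁ ≤ J → (J.map π).comap π = J := by
    intro J hJ
    rw [Ideal.comap_map_of_surjective π hπ, ← RingHom.ker_eq_comap_bot, hker]
    exact sup_eq_left.mpr hJ
  have hqprime : (q.map π).IsPrime :=
    Ideal.map_isPrime_of_surjective hπ (by rw [hker]; exact h1.le)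
  have hmprime : (m'.map π).IsPrime :=
    Ideal.map_isPrime_of_surjective hπ (by rw [hker]; exact (h1.trans h2).le)
  refine false_of_chain_domain (D := R ⧸ p₁) (f := π f) ?_ ?_ (q := q.map π) (m' := m'.map π)
    ?_ ?_
  · intro h0
    exact hf (Ideal.Quotient.eq_zero_iff_mem.mp h0)
  · intro Q hQ hQ0
    have hcQ : (Q.comap π).IsPrime := Ideal.comap_isPrime π Q
    have hle : p₁ ≤ Q.comap π := by
      intro a ha
      rw [Ideal.mem_comap]
      have h0 : π a = 0 := Ideal.Quotient.eq_zero_iff_mem.mpr ha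
      rw [h0]
      exact Q.zero_mem
    have hlt : p₁ < Q.comap π := by
      refine lt_of_le_of_ne hle ?_
      intro heq
      apply hQ0
      rw [← Ideal.map_comap_of_surjective π hπ Q, ← heq]
      exact Ideal.map_quotient_self p₁
    exact H _ hcQ hlt
  · intro h0
    have := hcm q h1.le
    have h5 : Ideal.comap π ⊥ = p₁ := by
      rw [← RingHom.ker_eq_comap_bot]; exact Ideal.mk_ker
    rw [h0, h5] at this
    exact h1.ne this
  · refine lt_of_le_of_ne (Ideal.map_mono h2.le) ?_
    intro heq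
    have h3 := hcm q h1.le
    have h4 := hcm m' (h1.trans h2).le
    rw [heq, h4] at h3
    exact h2.ne h3.symm

end Groth.Agent.Lib.Helper69.OpenGenericDim
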