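import Mathlib
import Groth.Agent.Lib.Helper69.OpenGenericDim

/-! # Every point of a locally Noetherian scheme specializes to a closed point (helper69) -/

set_option autoImplicit false

universe u

open CategoryTheory AlgebraicGeometry TopologicalSpace

noncomputable section

namespace Groth.Agent.Lib.Helper69.ClosedPtLN

theorem isClosed_singleton_of_forall {X : Type*} [TopologicalSpace X] (x : X)
    (h : ∀ y, x ⤳ y → y = x) : IsClosed ({x} : Set X) := by
  have : closure ({x} : Set X) = {x} := by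
    apply Set.Subset.antisymm
    · intro y hy
      exact h y (specializes_iff_mem_closure.mpr hy)
    · exact subset_closure
  rw [← this]
  exact isClosed_closure

theorem exists_isClosed_specializes {X : Scheme.{u}} [IsLocallyNoetherian X] (x : X) :
    ∃ z : X, x ⤳ z ∧ IsClosed ({z} : Set X) := by
  classical
  obtain ⟨_, ⟨U, hU, rfl⟩, hxU, -⟩ :=
    X.isBasis_affineOpens.exists_subset_of_mem_open (Set.mem_univ x) isOpen_univ
  have hU' : IsAffineOpen U := hU
  have hN : IsNoetherianRing Γ(X, U) := IsLocallyNoetherian.component_noetherian ⟨U, hU⟩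
  obtain ⟨M, hM, hle⟩ := Ideal.exists_le_maximal (hU'.primeIdealOf ⟨x, hxU⟩).asIdeal
    (hU'.primeIdealOf ⟨x, hxU⟩).isPrime.ne_top
  let PM : PrimeSpectrum Γ(X, U) := ⟨M, hM.isPrime⟩
  set x₁ : X := hU'.fromSpec PM with hx₁
  have hx₁U : x₁ ∈ U := by
    have : x₁ ∈ Set.range hU'.fromSpec := ⟨PM, rfl⟩
    rw [hU'.range_fromSpec] at this
    exact this
  have hxx₁ : x ⤳ x₁ := by
    have h1 : hU'.primeIdealOf ⟨x, hxU⟩ ⤳ PM :=
      (PrimeSpectrum.le_iff_specializes _ _).mp hle
    have h2 := h1.map hU'.fromSpec.continuous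
    rwa [hU'.fromSpec_primeIdealOf ⟨x, hxU⟩] at h2
  -- x₁ is closed in U
  have F1 : ∀ y ∈ U, x₁ ⤳ y → y = x₁ := by
    intro y hyU hy
    have h1 : hU'.fromSpec PM ⤳ hU'.fromSpec (hU'.primeIdealOf ⟨y, hyU⟩) := by
      rw [hU'.fromSpec_primeIdealOf ⟨y, hyU⟩]; exact hy
    have h2 : PM ⤳ hU'.primeIdealOf ⟨y, hyU⟩ :=
      (hU'.fromSpec.isOpenEmbedding.isInducing.specializes_iff).mp h1
    have h3 : PM ≤ hU'.primeIdealOf ⟨y, hyU⟩ := (PrimeSpectrum.le_iff_specializes _ _).mpr h2
    have h4 : M = (hU'.primeIdealOf ⟨y, hyU⟩).asIdeal :=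
      hM.eq_of_le (hU'.primeIdealOf ⟨y, hyU⟩).isPrime.ne_top h3
    have h5 : PM = hU'.primeIdealOf ⟨y, hyU⟩ := PrimeSpectrum.ext h4
    have h6 := hU'.fromSpec_primeIdealOf ⟨y, hyU⟩
    rw [← h5] at h6
    exact h6.symm
  by_cases hcl : ∀ y, x₁ ⤳ y → y = x₁
  · exact ⟨x₁, hxx₁, isClosed_singleton_of_forall x₁ hcl⟩
  · push Not at hcl
    obtain ⟨y, hx₁y, hyne⟩ := hcl
    refine ⟨y, hxx₁.trans hx₁y, isClosed_singleton_of_forall y ?_⟩
    intro y' hyy'
    by_contra hne
    -- work in the local ring at y'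
    let R := X.presheaf.stalk y'
    let φ := X.fromSpecStalk y'
    have hemb : Topology.IsEmbedding φ := φ.isEmbedding
    have hrange : ∀ w : X, w ⤳ y' → ∃ P : PrimeSpectrum R, φ P = w := by
      intro w hw
      have : w ∈ Set.range φ := by
        rw [Scheme.range_fromSpecStalk]; exact hw
      exact this
    obtain ⟨P₁, hP₁⟩ := hrange x₁ (hx₁y.trans hyy')
    obtain ⟨Q, hQ⟩ := hrange y hyy'
    obtain ⟨M', hM'⟩ := hrange y' specializes_rfl
    have hle1 : P₁ ≤ Q := by
      rw [PrimeSpectrum.le_iff_specializes]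
      exact (hemb.isInducing.specializes_iff).mp (by rw [hP₁, hQ]; exact hx₁y)
    have hle2 : Q ≤ M' := by
      rw [PrimeSpectrum.le_iff_specializes]
      exact (hemb.isInducing.specializes_iff).mp (by rw [hQ, hM']; exact hyy')
    have hlt1 : P₁.asIdeal < Q.asIdeal := by
      refine lt_of_le_of_ne hle1 ?_
      intro h
      have : P₁ = Q := PrimeSpectrum.ext h
      rw [this, hQ] at hP₁
      exact hyne hP₁
    have hlt2 : Q.asIdeal < M'.asIdeal := by
      refine lt_of_le_of_ne hle2 ?_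
      intro h
      have : Q = M' := PrimeSpectrum.ext h
      rw [this, hM'] at hQ
      exact hne hQ
    -- the open set
    have hWopen : IsOpen (φ ⁻¹' (U : Set X)) := U.2.preimage φ.continuous
    have hP₁W : P₁ ∈ φ ⁻¹' (U : Set X) := by
      change φ P₁ ∈ U
      rw [hP₁]; exact hx₁U
    obtain ⟨_, ⟨f, rfl⟩, hfP₁, hfW⟩ :=
      PrimeSpectrum.isTopologicalBasis_basic_opens.exists_subset_of_mem_open hP₁W hWopen
    have hfP₁' : f ∉ P₁.asIdeal := hfP₁
    have hN' : IsNoetherianRing R := inferInstance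
    haveI := P₁.isPrime
    haveI := Q.isPrime
    haveI := M'.isPrime
    refine OpenGenericDim.false_of_chain (R := R) hlt1 hlt2 hfP₁' ?_
    intro Q' hQ' hlt
    by_contra hfQ'
    let PQ' : PrimeSpectrum R := ⟨Q', hQ'⟩
    have h1 : φ PQ' ∈ U := hfW (show PQ' ∈ (PrimeSpectrum.basicOpen f : Set _) from hfQ')
    have h2 : x₁ ⤳ φ PQ' := by
      rw [← hP₁]
      exact ((PrimeSpectrum.le_iff_specializes P₁ PQ').mp hlt.le).map φ.continuous
    have h3 := F1 _ h1 h2
    rw [← hP₁] at h3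
    have h4 : PQ' = P₁ := hemb.injective h3
    have h5 : Q' = P₁.asIdeal := congrArg PrimeSpectrum.asIdeal h4
    exact hlt.ne h5.symm

end Groth.Agent.Lib.Helper69.ClosedPtLN
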