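import Mathlib
import Groth.Agent.Lib.Helper69.GUBiratSch

/-!
# Quasi-compact dominant morphisms hit every generic point (by a generic point)
-/

set_option autoImplicit false
set_option backward.isDefEq.respectTransparency.types false
universe u
open CategoryTheory CategoryTheory.Limits AlgebraicGeometry

namespace Groth.Agent.Lib.Helper69.DomGeneric

open Groth.Agent.Lib.Helper69.BiratBC Groth.Agent.Lib.Helper69.GUBiratSch

/-- Every point of a quasi-sober space has a generization that is a generic point of an
irreducible component. -/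
theorem exists_genericPoints_specializes {α : Type*} [TopologicalSpace α] [QuasiSober α]
    (y₀ : α) : ∃ y ∈ genericPoints α, y ⤳ y₀ := by
  obtain ⟨y, hy⟩ := QuasiSober.sober (isIrreducible_irreducibleComponent (x := y₀))
    isClosed_irreducibleComponent
  refine ⟨y, ?_, ?_⟩
  · show closure {y} ∈ irreducibleComponents α
    rw [hy.def]
    exact irreducibleComponent_mem_irreducibleComponents y₀
  · rw [specializes_iff_mem_closure, hy.def]
    exact mem_irreducibleComponent

/-- A quasi-compact dominant morphism hits every generic point of the target. -/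
theorem exists_map_eq_of_mem_genericPoints {Y Z : Scheme.{u}} (g : Y ⟶ Z) [QuasiCompact g]
    [IsDominant g] (z : Z) (hz : z ∈ genericPoints Z) : ∃ y₀ : Y, g y₀ = z := by
  -- an affine open neighbourhood of z
  obtain ⟨V, hV, hzV⟩ : ∃ V : Z.Opens, IsAffineOpen V ∧ z ∈ V :=
    ⟨(Z.affineCover.f (Z.affineCover.idx z)).opensRange, isAffineOpen_opensRange _,
      Z.affineCover.covers z⟩
  have hW : IsCompact ((g ⁻¹ᵁ V : Y.Opens) : Set Y) :=
    QuasiCompact.isCompact_preimage (f := g) _ V.isOpen hV.isCompact
  obtain ⟨R, k, hk⟩ := isCompact_iff_exists.mp hW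
  have hrange : Set.range (k ≫ g) ⊆ Set.range hV.fromSpec := by
    rw [hV.range_fromSpec]
    rintro _ ⟨t, rfl⟩
    have : k t ∈ ((g ⁻¹ᵁ V : Y.Opens) : Set Y) := hk ▸ Set.mem_range_self t
    exact this
  let k' : Spec R ⟶ Spec Γ(Z, V) := IsOpenImmersion.lift hV.fromSpec (k ≫ g) hrange
  have hk' : k' ≫ hV.fromSpec = k ≫ g := IsOpenImmersion.lift_fac _ _ _
  obtain ⟨p', hp'⟩ : ∃ p' : Spec Γ(Z, V), hV.fromSpec p' = z := by
    have : z ∈ Set.range hV.fromSpec := by rw [hV.range_fromSpec]; exact hzV
    exact this
  have hp'min : (p' : PrimeSpectrum Γ(Z, V)).asIdeal ∈ minimalPrimes Γ(Z, V) := by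
    rw [← mem_genericPoints_iff_of_isOpenImmersion hV.fromSpec p', hp']
    exact hz
  -- density
  have hdense : DenseRange k' := by
    intro s
    rw [hV.fromSpec.isOpenEmbedding.isInducing.closure_eq_preimage_closure_image]
    show hV.fromSpec s ∈ closure (hV.fromSpec '' Set.range k')
    have h1 : hV.fromSpec '' Set.range k' = (V : Set Z) ∩ Set.range g := by
      ext t
      constructor
      · rintro ⟨_, ⟨r, rfl⟩, rfl⟩
        have h2 : hV.fromSpec (k' r) = g (k r) := by
          have := congrArg (fun h : Spec R ⟶ Z => h r) hk'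
          simpa using this
        rw [h2]
        refine ⟨?_, Set.mem_range_self _⟩
        have : k r ∈ ((g ⁻¹ᵁ V : Y.Opens) : Set Y) := hk ▸ Set.mem_range_self r
        exact this
      · rintro ⟨htV, y, rfl⟩
        have hyW : y ∈ Set.range k := by rw [hk]; exact htV
        obtain ⟨r, rfl⟩ := hyW
        refine ⟨k' r, Set.mem_range_self _, ?_⟩
        have := congrArg (fun h : Spec R ⟶ Z => h r) hk'
        simpa using this
    rw [h1]
    have hsV : hV.fromSpec s ∈ (V : Set Z) := by
      rw [← hV.range_fromSpec]; exact Set.mem_range_self s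
    exact (g.denseRange.open_subset_closure_inter V.isOpen) hsV
  obtain ⟨φ, hφ⟩ : ∃ φ : Γ(Z, V) ⟶ R, Spec.map φ = k' := ⟨Spec.preimage k', Spec.map_preimage k'⟩
  have hdense' : DenseRange (PrimeSpectrum.comap φ.hom) := by
    rw [← hφ] at hdense
    exact hdense
  obtain ⟨q, hq⟩ := (PrimeSpectrum.denseRange_comap_iff_minimalPrimes φ.hom).mp hdense' _ hp'min
  refine ⟨k q, ?_⟩
  have h3 : k' q = p' := by
    rw [← hφ]
    exact hq
  have := congrArg (fun h : Spec R ⟶ Z => h q) hk'
  simp only [Scheme.Hom.comp_apply] at this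
  rw [← this, h3, hp']

/-- A quasi-compact dominant morphism hits every generic point of the target by a generic point
of the source. -/
theorem exists_mem_genericPoints_map_eq {Y Z : Scheme.{u}} (g : Y ⟶ Z) [QuasiCompact g]
    [IsDominant g] (z : Z) (hz : z ∈ genericPoints Z) : ∃ y ∈ genericPoints Y, g y = z := by
  obtain ⟨y₀, hy₀⟩ := exists_map_eq_of_mem_genericPoints g z hz
  obtain ⟨y, hy, hyy₀⟩ := exists_genericPoints_specializes y₀
  refine ⟨y, hy, ?_⟩
  have h1 : g y ⤳ z := hy₀ ▸ hyy₀.map g.continuous
  exact (mem_genericPoints_iff z).mp hz _ h1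

end Groth.Agent.Lib.Helper69.DomGeneric
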