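import Groth.Prelude.Def_W4c1chowmix47Eta
import Mathlib

/-!
# Field-point API for the pointwise rings `M_η(A)` (namespace `EtaPt`)

`ev η φ : η.N A →+* η.obj L` evaluates a family `x ∈ ∏_p F(k(p))` at a field point `φ : A →+* L`.
-/

universe u

namespace Groth.Agent.Lib.Helper69.EtaPt

open _root_.EtaPt

variable (η : FieldEndo.{u})

section basics

variable {K L E : Type u} [Field K] [Field L] [Field E]

lemma map_injective (f : K →+* L) : Function.Injective (η.map f) := (η.map f).injective

lemma eta_injective (K : Type u) [Field K] : Function.Injective (η.eta K) := (η.eta K).injective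

lemma map_comp_apply (f : K →+* L) (g : L →+* E) (x : η.obj K) :
    η.map (g.comp f) x = η.map g (η.map f x) := by
  rw [η.map_comp]; rfl

lemma map_id_apply (x : η.obj K) : η.map (RingHom.id K) x = x := by
  rw [η.map_id]; rfl

lemma eta_natural_apply (f : K →+* L) (x : K) : η.map f (η.eta K x) = η.eta L (f x) :=
  congrArg (fun h => h x) (congrArg DFunLike.coe (η.eta_natural f))

lemma map_bijective_of_bijective (f : K →+* L) (hf : Function.Bijective f) :
    Function.Bijective (η.map f) := by
  let e : K ≃+* L := RingEquiv.ofBijective f hf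
  have h1 : (η.map (e.symm : L →+* K)).comp (η.map f) = RingHom.id _ := by
    rw [← η.map_comp, ← η.map_id]
    congr 1
    ext x
    exact e.symm_apply_apply x
  have h2 : (η.map f).comp (η.map (e.symm : L →+* K)) = RingHom.id _ := by
    rw [← η.map_comp, ← η.map_id]
    congr 1
    ext x
    exact e.apply_symm_apply x
  refine ⟨(η.map f).injective, fun y => ⟨η.map (e.symm : L →+* K) y, ?_⟩⟩
  exact congrArg (fun h => h y) (congrArg DFunLike.coe h2)

/-- Frobenius-power injectivity in any field receiving a map from `K`. -/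
lemma pow_inj_of_ringHom (f : K →+* L) (n : ℕ) {x y : L}
    (h : x ^ ringExpChar K ^ n = y ^ ringExpChar K ^ n) : x = y := by
  have : ExpChar K (ringExpChar K) := ringExpChar.expChar K
  have : ExpChar L (ringExpChar K) := expChar_of_injective_ringHom f.injective _
  exact iterateFrobenius_inj L (ringExpChar K) n (by simpa [iterateFrobenius_def] using h)

/-- Two ring maps out of `F K` agreeing on the image of `η_K` are equal. -/
lemma ringHom_ext_of_eta {f g : η.obj K →+* L} (h : f.comp (η.eta K) = g.comp (η.eta K)) :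
    f = g := by
  ext x
  obtain ⟨n, y, hy⟩ := η.exists_pow_mem_range_eta K x
  apply pow_inj_of_ringHom (f.comp (η.eta K)) n
  rw [← map_pow, ← map_pow, ← hy]
  exact congrArg (fun h => h y) (congrArg DFunLike.coe h)

lemma eta_obj_eq_map_eta (K : Type u) [Field K] : η.eta (η.obj K) = η.map (η.eta K) :=
  ringHom_ext_of_eta η (η.eta_natural (η.eta K)).symm

lemma bijective_eta_obj (K : Type u) [Field K] : Function.Bijective (η.eta (η.obj K)) := by
  rw [eta_obj_eq_map_eta]; exact η.bijective_map_eta K

lemma bijective_eta_of_ringEquiv (e : K ≃+* L) (h : Function.Bijective (η.eta K)) :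
    Function.Bijective (η.eta L) := by
  have hF : Function.Bijective (η.map (e : K →+* L)) := map_bijective_of_bijective η _ e.bijective
  have : (η.eta L : L → η.obj L) = (η.map (e : K →+* L)) ∘ (η.eta K) ∘ e.symm := by
    funext x
    simp only [Function.comp_apply]
    rw [eta_natural_apply]
    simp
  rw [this]
  exact hF.comp (h.comp e.symm.bijective)

lemma inV_iff_of_isFractionRing (R : Type u) [CommRing R] [IsDomain R] (K : Type u) [Field K]
    [Algebra R K] [IsFractionRing R K] : η.InV R ↔ Function.Bijective (η.eta K) := by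
  let e : FractionRing R ≃+* K := (FractionRing.algEquiv R K).toRingEquiv
  exact ⟨bijective_eta_of_ringEquiv η e, bijective_eta_of_ringEquiv η e.symm⟩

end basics


section ev

variable {A B : Type u} [CommRing A] [CommRing B] {L L' : Type u} [Field L] [Field L']

/-- The point of `Spec A` underlying a field point. -/
def kerPt (φ : A →+* L) : PrimeSpectrum A := ⟨RingHom.ker φ, RingHom.ker_isPrime φ⟩

/-- The canonical map `k(ker φ) → L`. -/
noncomputable def kerLift (φ : A →+* L) : (kerPt φ).asIdeal.ResidueField →+* L :=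
  Ideal.ResidueField.lift _ φ le_rfl (fun a ha => by
    change IsUnit (φ a)
    rw [isUnit_iff_ne_zero]
    exact fun h => ha h)

@[simp] lemma kerLift_algebraMap (φ : A →+* L) (a : A) :
    kerLift φ (algebraMap A (kerPt φ).asIdeal.ResidueField a) = φ a :=
  Ideal.ResidueField.lift_algebraMap _ _ _ _ _

lemma kerLift_comp_algebraMap (φ : A →+* L) :
    (kerLift φ).comp (algebraMap A (kerPt φ).asIdeal.ResidueField) = φ :=
  RingHom.ext (kerLift_algebraMap φ)

/-- Evaluation of a family `x ∈ ∏_p F(k(p))` at a field point `φ : A → L`. -/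
noncomputable def ev (φ : A →+* L) : η.N A →+* η.obj L :=
  (η.map (kerLift φ)).comp
    (Pi.evalRingHom (fun p : PrimeSpectrum A => η.obj p.asIdeal.ResidueField) (kerPt φ))

lemma ev_apply (φ : A →+* L) (x : η.N A) : ev η φ x = η.map (kerLift φ) (x (kerPt φ)) := rfl

/-- Key computation rule: to evaluate at `φ`, give a prime `p` and a factorization
`A → k(p) → L` of `φ`. -/
lemma ev_eq_of (φ : A →+* L) (p : PrimeSpectrum A) (ψ : p.asIdeal.ResidueField →+* L)
    (h : ψ.comp (algebraMap A p.asIdeal.ResidueField) = φ) (x : η.N A) :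
    ev η φ x = η.map ψ (x p) := by
  have hp : p = kerPt φ := by
    apply PrimeSpectrum.ext
    change p.asIdeal = RingHom.ker φ
    ext a
    rw [RingHom.mem_ker, ← h, RingHom.comp_apply, map_eq_zero,
      Ideal.algebraMap_residueField_eq_zero]
  subst hp
  have hψ : ψ = kerLift φ := Ideal.ResidueField.ringHom_ext (by
    rw [h, kerLift_comp_algebraMap])
  subst hψ
  rfl

lemma apply_eq_ev (x : η.N A) (p : PrimeSpectrum A) :
    x p = ev η (algebraMap A p.asIdeal.ResidueField) x := by
  rw [ev_eq_of η _ p (RingHom.id _) (RingHom.id_comp _), map_id_apply]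

lemma ext_ev {x y : η.N A}
    (h : ∀ p : PrimeSpectrum A, ev η (algebraMap A p.asIdeal.ResidueField) x =
      ev η (algebraMap A p.asIdeal.ResidueField) y) : x = y := by
  funext p
  rw [apply_eq_ev η x p, apply_eq_ev η y p, h]

lemma Nmap_apply (f : A →+* B) (x : η.N A) (q : PrimeSpectrum B) :
    η.Nmap f x q = η.map (Ideal.ResidueField.map (PrimeSpectrum.comap f q).asIdeal q.asIdeal f rfl)
      (x (PrimeSpectrum.comap f q)) := rfl

lemma ev_Nmap (f : A →+* B) (φ : B →+* L) (x : η.N A) :
    ev η φ (η.Nmap f x) = ev η (φ.comp f) x := by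
  rw [ev_eq_of η (φ.comp f) (PrimeSpectrum.comap f (kerPt φ))
    ((kerLift φ).comp (Ideal.ResidueField.map _ _ f rfl)) ?_, map_comp_apply, ev_apply, Nmap_apply]
  ext a
  change kerLift φ (Ideal.ResidueField.map _ _ f rfl (algebraMap A _ a)) = φ (f a)
  rw [Ideal.ResidueField.map_algebraMap]
  exact kerLift_algebraMap φ (f a)

lemma ev_comp (φ : A →+* L) (ψ : L →+* L') (x : η.N A) :
    ev η (ψ.comp φ) x = η.map ψ (ev η φ x) := by
  rw [ev_eq_of η (ψ.comp φ) (kerPt φ) (ψ.comp (kerLift φ)) ?_, map_comp_apply, ev_apply]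
  rw [RingHom.comp_assoc, kerLift_comp_algebraMap]

lemma t_apply (a : A) (p : PrimeSpectrum A) :
    η.t A a p = η.eta p.asIdeal.ResidueField (algebraMap A p.asIdeal.ResidueField a) := rfl

lemma ev_t (φ : A →+* L) (a : A) : ev η φ (η.t A a) = η.eta L (φ a) := by
  rw [ev_apply, t_apply, eta_natural_apply, kerLift_algebraMap]

lemma Nmap_apply_eq_ev (f : A →+* B) (x : η.N A) (q : PrimeSpectrum B) :
    η.Nmap f x q = ev η ((algebraMap B q.asIdeal.ResidueField).comp f) x := by
  rw [apply_eq_ev η (η.Nmap f x) q, ev_Nmap]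

lemma Nmap_comp {C : Type u} [CommRing C] (f : A →+* B) (g : B →+* C) (x : η.N A) :
    η.Nmap (g.comp f) x = η.Nmap g (η.Nmap f x) := by
  apply ext_ev
  intro p
  rw [ev_Nmap, ev_Nmap, ev_Nmap, RingHom.comp_assoc]

lemma Nmap_id (x : η.N A) : η.Nmap (RingHom.id A) x = x := by
  apply ext_ev
  intro p
  rw [ev_Nmap, RingHom.comp_id]

/-- `ev` only depends on the map, so equal maps give equal values. -/
lemma ev_congr {φ ψ : A →+* L} (h : φ = ψ) (x : η.N A) : ev η φ x = ev η ψ x := by rw [h]

/-- Membership in `M` via field points. -/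
lemma mem_M_iff (x : η.N A) :
    x ∈ η.M A ↔ ∀ (R : Type u) [CommRing R] [IsDomain R] [ValuationRing R], η.InV R →
      ∀ g : A →+* R, ∃ r : R, ∀ (L : Type u) [Field L] (ψ : R →+* L),
        ev η (ψ.comp g) x = η.eta L (ψ r) := by
  constructor
  · intro hx R _ _ _ hR g
    obtain ⟨r, hr⟩ := hx R hR g
    refine ⟨r, fun L _ ψ => ?_⟩
    rw [← ev_Nmap, ← hr, ev_t]
  · intro hx R _ _ _ hR g
    obtain ⟨r, hr⟩ := hx R hR g
    refine ⟨r, ?_⟩
    apply ext_ev
    intro p
    rw [ev_t, ev_Nmap, hr]

lemma Nmap_mem_M (f : A →+* B) {x : η.N A} (hx : x ∈ η.M A) : η.Nmap f x ∈ η.M B := by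
  intro R _ _ _ hR g
  rw [← Nmap_comp]
  exact hx R hR (g.comp f)

end ev

section valuation

variable {A B : Type u} [CommRing A] [CommRing B] {L L' : Type u} [Field L] [Field L']

/-- A valuation subring of `L` through which `φ` factors, with prescribed centre `p' ⊇ ker φ`. -/
lemma exists_valuationSubring_dominating (φ : A →+* L) (p' : Ideal A) [p'.IsPrime]
    (hle : RingHom.ker φ ≤ p') :
    ∃ (V : ValuationSubring L) (g : A →+* V), V.subtype.comp g = φ ∧
      (IsLocalRing.maximalIdeal V).comap g = p' := by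
  have hunit : ∀ s : p'.primeCompl, IsUnit (φ s) :=
    fun s => isUnit_iff_ne_zero.mpr (fun h => s.2 (hle h))
  let f : Localization.AtPrime p' →+* L := IsLocalization.lift (M := p'.primeCompl) hunit
  obtain ⟨V, h, hloc⟩ := IsLocalRing.exists_factor_valuationRing f
  let g' : Localization.AtPrime p' →+* V := f.codRestrict V.toSubring h
  have hloc' : IsLocalHom g' := hloc
  refine ⟨V, g'.comp (algebraMap A _), ?_, ?_⟩
  · ext a
    change f (algebraMap A _ a) = φ a
    exact IsLocalization.lift_eq hunit a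
  · have h5 : (IsLocalRing.maximalIdeal V).comap g' = IsLocalRing.maximalIdeal _ :=
      ((IsLocalRing.local_hom_TFAE g').out 0 4).mp hloc'
    rw [← Ideal.comap_comap, h5]
    exact Localization.AtPrime.under_maximalIdeal

lemma exists_of_mem_M_valuationSubring {x : η.N A} (hx : x ∈ η.M A)
    (hL : Function.Bijective (η.eta L)) (V : ValuationSubring L) (g : A →+* V) :
    ∃ r : V, ∀ (L' : Type u) [Field L'] (ψ : V →+* L'), ev η (ψ.comp g) x = η.eta L' (ψ r) :=
  (mem_M_iff η x).mp hx V ((inV_iff_of_isFractionRing η V L).mpr hL) g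

/-- Vanishing propagates along specialization, for elements of `M`. -/
lemma apply_eq_zero_of_ev_eq_zero {x : η.N A} (hx : x ∈ η.M A) (φ : A →+* L)
    (hL : Function.Bijective (η.eta L)) (h0 : ev η φ x = 0) (p' : PrimeSpectrum A)
    (hle : RingHom.ker φ ≤ p'.asIdeal) : x p' = 0 := by
  obtain ⟨V, g, hg, hcomap⟩ := exists_valuationSubring_dominating φ p'.asIdeal hle
  obtain ⟨r, hr⟩ := exists_of_mem_M_valuationSubring η hx hL V g
  have hr0 : r = 0 := by
    have := hr L V.subtype
    rw [hg, h0] at this
    have h2 : V.subtype r = 0 := by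
      apply eta_injective η; rw [← this, map_zero]
    exact V.subtype_injective (by rw [h2, map_zero])
  let res : V →+* IsLocalRing.ResidueField V := IsLocalRing.residue V
  have h1 := hr _ res
  rw [hr0, map_zero, map_zero] at h1
  have hk : kerPt (res.comp g) = p' := by
    apply PrimeSpectrum.ext
    change RingHom.ker (res.comp g) = p'.asIdeal
    rw [← hcomap, ← RingHom.comap_ker, IsLocalRing.ker_residue]
  rw [ev_apply] at h1
  have h2 : x (kerPt (res.comp g)) = 0 := by
    apply map_injective η (kerLift (res.comp g)); rw [h1, map_zero]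
  rw [hk] at h2
  exact h2

lemma apply_eq_of_ev_eq {x y : η.N A} (hx : x ∈ η.M A) (hy : y ∈ η.M A) (φ : A →+* L)
    (hL : Function.Bijective (η.eta L)) (h : ev η φ x = ev η φ y) (p' : PrimeSpectrum A)
    (hle : RingHom.ker φ ≤ p'.asIdeal) : x p' = y p' := by
  have := apply_eq_zero_of_ev_eq_zero η ((η.M A).sub_mem hx hy) φ hL (by rw [map_sub, h, sub_self])
    p' hle
  rwa [Pi.sub_apply, sub_eq_zero] at this

/-- The field point `A → k(p) → F(k(p))`. -/
noncomputable def etaPt (p : PrimeSpectrum A) : A →+* η.obj p.asIdeal.ResidueField :=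
  (η.eta p.asIdeal.ResidueField).comp (algebraMap A p.asIdeal.ResidueField)

lemma ker_etaPt (p : PrimeSpectrum A) : RingHom.ker (etaPt η p) = p.asIdeal := by
  ext a
  simp [etaPt, RingHom.mem_ker]

lemma ev_etaPt (p : PrimeSpectrum A) (x : η.N A) :
    ev η (etaPt η p) x = η.eta (η.obj p.asIdeal.ResidueField) (x p) := by
  rw [etaPt, ev_comp, ← apply_eq_ev, eta_obj_eq_map_eta]

/-- An element of `M A` vanishing at all minimal primes is zero. -/
lemma eq_zero_of_minimalPrimes {x : η.N A} (hx : x ∈ η.M A)
    (h : ∀ p : PrimeSpectrum A, p.asIdeal ∈ minimalPrimes A → x p = 0) : x = 0 := by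
  funext p'
  obtain ⟨p, hpmin, hple⟩ := Ideal.exists_minimalPrimes_le (bot_le : ⊥ ≤ p'.asIdeal)
  let P : PrimeSpectrum A := ⟨p, hpmin.1.1⟩
  refine apply_eq_zero_of_ev_eq_zero η hx (etaPt η P) (bijective_eta_obj η _) ?_ p' ?_
  · rw [ev_etaPt, h P hpmin, map_zero]
  · rw [ker_etaPt]; exact hple

lemma isIntegralElem_of_isIntegral_closure_range (φ : A →+* L) (z : L)
    (h : IsIntegral (Subring.closure (Set.range φ)) z) : φ.IsIntegralElem z := by
  set S := Subring.closure (Set.range φ) with hS
  let φ' : A →+* S := φ.codRestrict S (fun a => Subring.subset_closure ⟨a, rfl⟩)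
  have hsurj : Function.Surjective φ' := by
    rintro ⟨s, hs⟩
    have : s ∈ φ.range := (Subring.closure_le (t := φ.range)).mpr (fun y hy => hy) hs
    obtain ⟨a, rfl⟩ := this
    exact ⟨a, rfl⟩
  obtain ⟨p, hp, hpz⟩ := h
  obtain ⟨q, hq, -, hqm⟩ := Polynomial.lifts_and_degree_eq_and_monic
    (Polynomial.mem_lifts_of_surjective hsurj p) hp
  refine ⟨q, hqm, ?_⟩
  rw [← hq, Polynomial.eval₂_map] at hpz
  exact hpz

/-- Values of elements of `M A` at field points with `η` bijective are integral over `A`. -/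
lemma isIntegralElem_of_mem_M {x : η.N A} (hx : x ∈ η.M A) (φ : A →+* L)
    (hL : Function.Bijective (η.eta L)) (z : L) (hz : η.eta L z = ev η φ x) :
    φ.IsIntegralElem z := by
  apply isIntegralElem_of_isIntegral_closure_range
  have hmem : z ∈ (integralClosure (Subring.closure (Set.range φ)) L).toSubring := by
    rw [← iInf_valuationSubring_superset, Subring.mem_iInf]
    rintro ⟨V, hV⟩
    let g : A →+* V := φ.codRestrict V.toSubring (fun a => hV ⟨a, rfl⟩)
    obtain ⟨r, hr⟩ := exists_of_mem_M_valuationSubring η hx hL V g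
    have h1 := hr L V.subtype
    have hg : V.subtype.comp g = φ := by ext a; rfl
    rw [hg, ← hz] at h1
    have : z = V.subtype r := eta_injective η L h1
    rw [this]
    exact r.2
  exact hmem

end valuation

section integralBij

variable {A B : Type u} [CommRing A] [CommRing B] {L L' : Type u} [Field L] [Field L']

lemma Nmap_t (f : A →+* B) (a : A) : η.Nmap f (η.t A a) = η.t B (f a) := η.Nmap_t_apply f a

/-- If `N(f)` is bijective, any field point `φ` of `A` with `η_L` bijective extends to `B`. -/
lemma exists_extend_fieldPt (f : A →+* B) (hN : Function.Bijective (η.Nmap f))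
    (φ : A →+* L) (hL : Function.Bijective (η.eta L)) :
    ∃ φ' : B →+* L, φ'.comp f = φ := by
  let e : η.N A ≃+* η.N B := RingEquiv.ofBijective (η.Nmap f) hN
  let ηL : L ≃+* η.obj L := RingEquiv.ofBijective (η.eta L) hL
  refine ⟨(ηL.symm : η.obj L →+* L).comp ((ev η φ).comp ((e.symm : η.N B →+* η.N A).comp (η.t B))), ?_⟩
  ext a
  change ηL.symm (ev η φ (e.symm (η.t B (f a)))) = φ a
  have h1 : e.symm (η.t B (f a)) = η.t A a := by
    rw [RingEquiv.symm_apply_eq]
    exact (Nmap_t η f a).symm
  rw [h1, ev_t, RingEquiv.symm_apply_eq]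
  rfl

/-- S13811 as a lemma. -/
lemma exists_factor_of_isIntegral_of_bijective_Nmap (f : A →+* B)
    (hf : f.IsIntegral) (hN : Function.Bijective (η.Nmap f))
    (R : Type u) [CommRing R] [IsDomain R] [ValuationRing R] (hR : η.InV R) (g : A →+* R) :
    ∃ g' : B →+* R, g'.comp f = g := by
  let ι : R →+* FractionRing R := algebraMap R (FractionRing R)
  have hι : Function.Injective ι := IsFractionRing.injective R (FractionRing R)
  obtain ⟨g'', hg''⟩ := exists_extend_fieldPt η f hN (ι.comp g) hR
  have hint : ∀ b : B, ∃ r : R, ι r = g'' b := by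
    intro b
    obtain ⟨p, hp, hpb⟩ := hf b
    have h1 : Polynomial.eval₂ (g''.comp f) (g'' b) p = 0 := by
      rw [← Polynomial.hom_eval₂, hpb, map_zero]
    rw [hg'', ← Polynomial.eval₂_map] at h1
    have : IsIntegral R (g'' b) := ⟨p.map g, hp.map g, h1⟩
    exact IsIntegrallyClosed.isIntegral_iff.mp this
  choose r hr using hint
  refine ⟨{ toFun := r
            map_one' := hι (by rw [hr, map_one, map_one])
            map_mul' := fun a b => hι (by rw [hr, map_mul, map_mul, hr, hr])
            map_zero' := hι (by rw [hr, map_zero, map_zero])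
            map_add' := fun a b => hι (by rw [hr, map_add, map_add, hr, hr]) }, ?_⟩
  ext a
  apply hι
  change ι (r (f a)) = ι (g a)
  rw [hr]
  exact congrArg (fun h => h a) (congrArg DFunLike.coe hg'')

/-- S13812 as a lemma. -/
lemma bijOn_Nmap_M (f : A →+* B) (hf : f.IsIntegral) (hN : Function.Bijective (η.Nmap f)) :
    Set.BijOn (η.Nmap f) (η.M A) (η.M B) := by
  refine ⟨fun x hx => Nmap_mem_M η f hx, hN.1.injOn, ?_⟩
  intro y hy
  obtain ⟨x, rfl⟩ := hN.2 y
  refine ⟨x, ?_, rfl⟩
  intro R _ _ _ hR g
  obtain ⟨g', rfl⟩ := exists_factor_of_isIntegral_of_bijective_Nmap η f hf hN R hR g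
  rw [Nmap_comp]
  exact hy R hR g'

end integralBij

end Groth.Agent.Lib.Helper69.EtaPt
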