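import Groth.Agent.Lib.Helper69.EtaPt

/-!
# `M_η(A)` for rings with finitely many minimal primes: integrality, spectrum, residue fields
-/

universe u

namespace Groth.Agent.Lib.Helper69.EtaPt

open _root_.EtaPt

variable (η : FieldEndo.{u})

section general

lemma eq_of_le_of_comap_eq {R S : Type*} [CommRing R] [CommRing S] (f : R →+* S)
    (hf : f.IsIntegral) {I J : Ideal S} [I.IsPrime] (hIJ : I ≤ J) (h : I.comap f = J.comap f) :
    I = J := by
  by_contra hne
  have hlt : I < J := lt_of_le_of_ne hIJ hne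
  obtain ⟨_, x, hxJ, hxI⟩ := SetLike.lt_iff_le_and_exists.mp hlt
  obtain ⟨p, hp, hpx⟩ := hf x
  have := Ideal.comap_lt_comap_of_root_mem_sdiff (f := f) hIJ ⟨hxJ, hxI⟩
    (Polynomial.map_monic_ne_zero hp) (by rw [hpx]; exact I.zero_mem)
  exact this.ne h

lemma residueMap_comp_algebraMap {R S : Type*} [CommRing R] [CommRing S] (I : Ideal R) [I.IsPrime]
    (J : Ideal S) [J.IsPrime] (f : R →+* S) (h : I = J.comap f) :
    (Ideal.ResidueField.map I J f h).comp (algebraMap R I.ResidueField) =
      (algebraMap S J.ResidueField).comp f := by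
  ext a
  exact Ideal.ResidueField.map_algebraMap I J f h a

end general

section fin

variable {A : Type u} [CommRing A]

/-- The projection `M A → F(k(P))`. -/
noncomputable def proj (P : PrimeSpectrum A) : η.M A →+* η.obj P.asIdeal.ResidueField :=
  (Pi.evalRingHom (fun p : PrimeSpectrum A => η.obj p.asIdeal.ResidueField) P).comp (η.M A).subtype

lemma proj_apply (P : PrimeSpectrum A) (x : η.M A) : proj η P x = (x : η.N A) P := rfl

lemma proj_q (P : PrimeSpectrum A) (a : A) :
    proj η P (η.q A a) = η.eta _ (algebraMap A P.asIdeal.ResidueField a) := rfl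

lemma proj_comp_q (P : PrimeSpectrum A) : (proj η P).comp (η.q A) = etaPt η P := rfl

lemma coe_q (a : A) : ((η.q A a : η.M A) : η.N A) = η.t A a := rfl

/-- The prime `Q_P = ker (M A → F(k(P)))`. -/
noncomputable def QP (P : PrimeSpectrum A) : PrimeSpectrum (η.M A) := kerPt (proj η P)

lemma mem_QP (P : PrimeSpectrum A) (x : η.M A) : x ∈ (QP η P).asIdeal ↔ (x : η.N A) P = 0 :=
  Iff.rfl

lemma comap_QP (P : PrimeSpectrum A) : PrimeSpectrum.comap (η.q A) (QP η P) = P := by
  apply PrimeSpectrum.ext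
  ext a
  change proj η P (η.q A a) = 0 ↔ a ∈ P.asIdeal
  rw [proj_q, map_eq_zero, Ideal.algebraMap_residueField_eq_zero]

lemma coe_eval₂ (x : η.M A) (F : Polynomial A) :
    ((Polynomial.eval₂ (η.q A) x F : η.M A) : η.N A) = Polynomial.eval₂ (η.t A) (x : η.N A) F :=
  Polynomial.hom_eval₂ F (η.q A) (η.M A).subtype x

lemma eval₂_apply (x : η.N A) (F : Polynomial A) (P : PrimeSpectrum A) :
    (Polynomial.eval₂ (η.t A) x F) P = Polynomial.eval₂ (etaPt η P) (x P) F :=
  Polynomial.hom_eval₂ F (η.t A)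
    (Pi.evalRingHom (fun p : PrimeSpectrum A => η.obj p.asIdeal.ResidueField) P) x

/-- S13802 as a lemma. -/
theorem isIntegral_q (hA : (minimalPrimes A).Finite) : (η.q A).IsIntegral := by
  rintro ⟨x, hx⟩
  have key : ∀ p : Ideal A, ∀ hp : p ∈ minimalPrimes A, ∃ f : Polynomial A, f.Monic ∧
      Polynomial.eval₂ (etaPt η ⟨p, hp.1.1⟩) (x ⟨p, hp.1.1⟩) f = 0 := by
    intro p hp
    exact isIntegralElem_of_mem_M η hx (etaPt η ⟨p, hp.1.1⟩) (bijective_eta_obj η _)
      (x ⟨p, hp.1.1⟩) (ev_etaPt η _ x).symm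
  choose f hfm hf0 using key
  let F : Polynomial A := ∏ p ∈ hA.toFinset.attach, f p.1 (hA.mem_toFinset.mp p.2)
  have hFm : F.Monic := Polynomial.monic_prod_of_monic _ _ (fun p _ => hfm _ _)
  refine ⟨F, hFm, ?_⟩
  apply Subtype.ext
  rw [coe_eval₂]
  have hmem : Polynomial.eval₂ (η.t A) x F ∈ η.M A := by
    rw [← coe_eval₂ η ⟨x, hx⟩ F]
    exact Subtype.mem _
  change Polynomial.eval₂ (η.t A) x F = 0
  apply eq_zero_of_minimalPrimes η hmem
  intro P hP
  rw [eval₂_apply, Polynomial.eval₂_finsetProd]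
  apply Finset.prod_eq_zero (i := ⟨P.asIdeal, hA.mem_toFinset.mpr hP⟩) (Finset.mem_attach _ _)
  exact hf0 P.asIdeal hP

/-- every prime of `M A` contains some `Q_p` with `p` minimal -/
lemma exists_minimal_QP_le (hA : (minimalPrimes A).Finite) (Q : PrimeSpectrum (η.M A)) :
    ∃ P : PrimeSpectrum A, P.asIdeal ∈ minimalPrimes A ∧ (QP η P).asIdeal ≤ Q.asIdeal := by
  have hinf : (hA.toFinset.attach.inf fun p =>
      (QP η ⟨p.1, (hA.mem_toFinset.mp p.2).1.1⟩).asIdeal) ≤ Q.asIdeal := by
    intro y hy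
    rw [Submodule.mem_finsetInf] at hy
    have : y = 0 := by
      apply Subtype.ext
      apply eq_zero_of_minimalPrimes η y.2
      intro P hP
      exact hy ⟨P.asIdeal, hA.mem_toFinset.mpr hP⟩ (Finset.mem_attach _ _)
    rw [this]
    exact Q.asIdeal.zero_mem
  obtain ⟨p, -, hp⟩ := (Ideal.IsPrime.inf_le' Q.isPrime).mp hinf
  exact ⟨⟨p.1, (hA.mem_toFinset.mp p.2).1.1⟩, hA.mem_toFinset.mp p.2, hp⟩

/-- Key lemma: an element of `M A` vanishing at `P = Q ∩ A` lies in `Q`. -/
lemma mem_of_apply_comap_eq_zero (hA : (minimalPrimes A).Finite) (Q : PrimeSpectrum (η.M A))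
    (x : η.M A) (hx : (x : η.N A) (PrimeSpectrum.comap (η.q A) Q) = 0) : x ∈ Q.asIdeal := by
  obtain ⟨P0, -, hle⟩ := exists_minimal_QP_le η hA Q
  obtain ⟨V, gB, hgB, hcomap⟩ := exists_valuationSubring_dominating (proj η P0) Q.asIdeal hle
  let g : A →+* V := gB.comp (η.q A)
  obtain ⟨r, hr⟩ := exists_of_mem_M_valuationSubring η x.2 (bijective_eta_obj η _) V g
  have h1 := hr _ V.subtype
  have hsub : V.subtype.comp g = etaPt η P0 := by
    rw [← RingHom.comp_assoc, hgB]; rfl
  rw [hsub, ev_etaPt] at h1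
  have hr' : r = gB x := by
    apply V.subtype_injective
    have h2 : V.subtype (gB x) = proj η P0 x := RingHom.congr_fun hgB x
    rw [h2]
    exact (eta_injective η _ h1).symm
  let res : V →+* IsLocalRing.ResidueField V := IsLocalRing.residue V
  have h2 := hr _ res
  have hk : kerPt (res.comp g) = PrimeSpectrum.comap (η.q A) Q := by
    apply PrimeSpectrum.ext
    change RingHom.ker (res.comp g) = Q.asIdeal.comap (η.q A)
    rw [← hcomap, Ideal.comap_comap, ← RingHom.comap_ker, IsLocalRing.ker_residue]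
  have h3 : (x : η.N A) (kerPt (res.comp g)) = 0 := by
    rw [hk]; exact hx
  rw [ev_apply, h3, map_zero] at h2
  have h4 : res r = 0 := by
    apply eta_injective η; rw [← h2, map_zero]
  rw [hr'] at h4
  have h5 : gB x ∈ IsLocalRing.maximalIdeal V := by
    rw [← IsLocalRing.ker_residue]; exact h4
  rw [← hcomap]
  exact h5

lemma QP_comap_eq (hA : (minimalPrimes A).Finite) (Q : PrimeSpectrum (η.M A)) :
    QP η (PrimeSpectrum.comap (η.q A) Q) = Q := by
  apply PrimeSpectrum.ext
  have hle : (QP η (PrimeSpectrum.comap (η.q A) Q)).asIdeal ≤ Q.asIdeal :=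
    fun x hx => mem_of_apply_comap_eq_zero η hA Q x hx
  refine eq_of_le_of_comap_eq (η.q A) (isIntegral_q η hA) hle ?_
  exact congrArg PrimeSpectrum.asIdeal (comap_QP η (PrimeSpectrum.comap (η.q A) Q))

theorem comap_q_bijective (hA : (minimalPrimes A).Finite) :
    Function.Bijective (PrimeSpectrum.comap (η.q A)) := by
  constructor
  · intro Q Q' h
    rw [← QP_comap_eq η hA Q, ← QP_comap_eq η hA Q', h]
  · intro P
    exact ⟨QP η P, comap_QP η P⟩

/-- The residue field factorization `k(P) → k(Q) → F(k(P))` of `η`. -/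
theorem exists_residue_factor (hA : (minimalPrimes A).Finite) (Q : PrimeSpectrum (η.M A)) :
    ∃ φ : Q.asIdeal.ResidueField →+* η.obj (PrimeSpectrum.comap (η.q A) Q).asIdeal.ResidueField,
      φ.comp (Ideal.ResidueField.map (PrimeSpectrum.comap (η.q A) Q).asIdeal Q.asIdeal (η.q A) rfl) =
        η.eta (PrimeSpectrum.comap (η.q A) Q).asIdeal.ResidueField ∧
      ∀ x : η.M A, φ (algebraMap (η.M A) Q.asIdeal.ResidueField x) =
        (x : η.N A) (PrimeSpectrum.comap (η.q A) Q) := by
  have hQ : ∀ x : η.M A, x ∈ Q.asIdeal ↔ (x : η.N A) (PrimeSpectrum.comap (η.q A) Q) = 0 := by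
    intro x
    have := congrArg PrimeSpectrum.asIdeal (QP_comap_eq η hA Q)
    rw [← this]
    exact mem_QP η _ x
  let π := proj η (PrimeSpectrum.comap (η.q A) Q)
  have h1 : Q.asIdeal ≤ RingHom.ker π := fun x hx => (hQ x).mp hx
  have h2 : Q.asIdeal.primeCompl ≤ (IsUnit.submonoid _).comap π := by
    intro x hx
    change IsUnit (π x)
    rw [isUnit_iff_ne_zero]
    exact fun h => hx ((hQ x).mpr h)
  refine ⟨Ideal.ResidueField.lift Q.asIdeal π h1 h2, ?_, ?_⟩
  · apply Ideal.ResidueField.ringHom_ext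
    ext a
    change Ideal.ResidueField.lift Q.asIdeal π h1 h2
      (Ideal.ResidueField.map _ _ (η.q A) rfl (algebraMap A _ a)) = η.eta _ (algebraMap A _ a)
    rw [Ideal.ResidueField.map_algebraMap, Ideal.ResidueField.lift_algebraMap]
    rfl
  · intro x
    rw [Ideal.ResidueField.lift_algebraMap]
    rfl

/-- `F` of the residue field extension of `q_A` is bijective (definitional comap version). -/
lemma bijective_map_residue (hA : (minimalPrimes A).Finite) (Q : PrimeSpectrum (η.M A)) :
    Function.Bijective (η.map (Ideal.ResidueField.map (PrimeSpectrum.comap (η.q A) Q).asIdeal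
      Q.asIdeal (η.q A) rfl)) := by
  obtain ⟨φ, hφ, -⟩ := exists_residue_factor η hA Q
  refine ⟨map_injective η _, fun z => ?_⟩
  obtain ⟨w, hw⟩ := (η.bijective_map_eta (PrimeSpectrum.comap (η.q A) Q).asIdeal.ResidueField).2
    (η.map φ z)
  refine ⟨w, ?_⟩
  apply map_injective η φ
  rw [← map_comp_apply, hφ, hw]

/-- general-`P` version -/
lemma bijective_map_residue' (hA : (minimalPrimes A).Finite) (P : PrimeSpectrum A)
    (Q : PrimeSpectrum (η.M A)) (h : P.asIdeal = Q.asIdeal.comap (η.q A)) :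
    Function.Bijective (η.map (Ideal.ResidueField.map P.asIdeal Q.asIdeal (η.q A) h)) := by
  have hP : P = PrimeSpectrum.comap (η.q A) Q := PrimeSpectrum.ext h
  subst hP
  exact bijective_map_residue η hA Q

lemma asIdeal_eq_comap_QP (P : PrimeSpectrum A) :
    P.asIdeal = (QP η P).asIdeal.comap (η.q A) :=
  (congrArg PrimeSpectrum.asIdeal (comap_QP η P)).symm

/-- S13804 as a lemma. -/
theorem bijective_Nmap_q (hA : (minimalPrimes A).Finite) : Function.Bijective (η.Nmap (η.q A)) := by
  constructor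
  · intro x y hxy
    funext P
    have h1 : ev η ((algebraMap (η.M A) (QP η P).asIdeal.ResidueField).comp (η.q A)) x =
        ev η ((algebraMap (η.M A) (QP η P).asIdeal.ResidueField).comp (η.q A)) y := by
      rw [← ev_Nmap, ← ev_Nmap, hxy]
    rw [ev_eq_of η _ P (Ideal.ResidueField.map P.asIdeal (QP η P).asIdeal (η.q A)
        (asIdeal_eq_comap_QP η P)) (residueMap_comp_algebraMap _ _ _ _),
      ev_eq_of η _ P (Ideal.ResidueField.map P.asIdeal (QP η P).asIdeal (η.q A)
        (asIdeal_eq_comap_QP η P)) (residueMap_comp_algebraMap _ _ _ _)] at h1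
    exact map_injective η _ h1
  · intro y
    have hb := fun P : PrimeSpectrum A => bijective_map_residue' η hA P (QP η P)
      (asIdeal_eq_comap_QP η P)
    choose x hx using fun P : PrimeSpectrum A => (hb P).2 (y (QP η P))
    refine ⟨x, ?_⟩
    apply ext_ev
    intro Q
    obtain ⟨P, rfl⟩ : ∃ P, QP η P = Q := ⟨_, QP_comap_eq η hA Q⟩
    rw [ev_Nmap, ev_eq_of η _ P (Ideal.ResidueField.map P.asIdeal (QP η P).asIdeal (η.q A)
        (asIdeal_eq_comap_QP η P)) (residueMap_comp_algebraMap _ _ _ _), hx, ← apply_eq_ev]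

/-- S13815, first part. -/
theorem Nmap_q_eq_t (hA : (minimalPrimes A).Finite) (x : η.M A) :
    η.Nmap (η.q A) (x : η.N A) = η.t (η.M A) x := by
  apply ext_ev
  intro Q
  obtain ⟨φ, hφ, hφx⟩ := exists_residue_factor η hA Q
  rw [ev_Nmap, ev_t, ev_eq_of η _ (PrimeSpectrum.comap (η.q A) Q)
    (Ideal.ResidueField.map (PrimeSpectrum.comap (η.q A) Q).asIdeal Q.asIdeal (η.q A) rfl)
    (residueMap_comp_algebraMap _ _ _ _)]
  apply map_injective η φ
  rw [← map_comp_apply, hφ, eta_natural_apply, hφx, eta_obj_eq_map_eta]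

/-- S13815, second part. -/
theorem bijective_q_M (hA : (minimalPrimes A).Finite) : Function.Bijective (η.q (η.M A)) := by
  have hb := bijOn_Nmap_M η (η.q A) (isIntegral_q η hA) (bijective_Nmap_q η hA)
  constructor
  · intro x y hxy
    have h1 : η.t (η.M A) x = η.t (η.M A) y := congrArg Subtype.val hxy
    rw [← Nmap_q_eq_t η hA, ← Nmap_q_eq_t η hA] at h1
    exact Subtype.ext ((bijective_Nmap_q η hA).1 h1)
  · rintro ⟨z, hz⟩
    obtain ⟨x', hx', rfl⟩ := hb.2.2 hz
    refine ⟨⟨x', hx'⟩, Subtype.ext ?_⟩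
    exact (Nmap_q_eq_t η hA ⟨x', hx'⟩).symm

end fin

section univ

variable {A B : Type u} [CommRing A] [CommRing B]

lemma t_injective_of_isReduced [IsReduced B] : Function.Injective (η.t B) := by
  rw [injective_iff_map_eq_zero]
  intro b hb
  have : b ∈ nilradical B := by
    rw [nilradical_eq_sInf, Ideal.mem_sInf]
    intro P hP
    have hP' : P.IsPrime := hP
    have h1 := congrFun hb ⟨P, hP'⟩
    rw [t_apply] at h1
    have h2 : algebraMap B (P.ResidueField) b = 0 := by
      apply eta_injective η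
      rw [map_zero]
      exact h1
    exact Ideal.algebraMap_residueField_eq_zero.mp h2
  exact IsReduced.eq_zero b (mem_nilradical.mp this)

/-- S13805 as a lemma. -/
theorem bijective_of_isIntegral_of_reduced (hA : (minimalPrimes A).Finite) [IsReduced B]
    (f : η.M A →+* B) (hf : f.IsIntegral) (hN : Function.Bijective (η.Nmap f)) :
    Function.Bijective f := by
  have hb := bijOn_Nmap_M η f hf hN
  have hqM := bijective_q_M η hA
  have htB := t_injective_of_isReduced η (B := B)
  constructor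
  · intro x y hxy
    apply hqM.1
    apply Subtype.ext
    change η.t (η.M A) x = η.t (η.M A) y
    apply hN.1
    rw [Nmap_t, Nmap_t, hxy]
  · intro b
    obtain ⟨z, hz, hzb⟩ := hb.2.2 (η.t_mem_M B b)
    obtain ⟨x, hx⟩ := hqM.2 ⟨z, hz⟩
    refine ⟨x, htB ?_⟩
    rw [← hzb, ← Nmap_t]
    congr 1
    exact congrArg Subtype.val hx

/-- field points of `B` are determined by their restriction to `A` when `N(g)` is bijective -/
lemma fieldPt_ext_of_bijective_Nmap (g : A →+* B) (hN : Function.Bijective (η.Nmap g))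
    {L : Type u} [Field L] {χ₁ χ₂ : B →+* L} (h : χ₁.comp g = χ₂.comp g) : χ₁ = χ₂ := by
  ext b
  obtain ⟨x, hx⟩ := hN.2 (η.t B b)
  apply eta_injective η L
  rw [← ev_t, ← ev_t, ← hx, ev_Nmap, ev_Nmap, h]

/-- S13806 as a lemma. -/
theorem existsUnique_lift_q (g : A →+* B) (hg : g.IsIntegral)
    (hN : Function.Bijective (η.Nmap g)) : ∃! g' : B →+* η.M A, g'.comp g = η.q A := by
  have hb := bijOn_Nmap_M η g hg hN
  let e : η.N A ≃+* η.N B := RingEquiv.ofBijective (η.Nmap g) hN
  have hmem : ∀ b : B, ((e.symm : η.N B →+* η.N A).comp (η.t B)) b ∈ η.M A := by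
    intro b
    obtain ⟨x, hx, hxb⟩ := hb.2.2 (η.t_mem_M B b)
    have : e.symm (η.t B b) = x := by
      rw [RingEquiv.symm_apply_eq]; exact hxb.symm
    change e.symm (η.t B b) ∈ η.M A
    rw [this]; exact hx
  refine ⟨((e.symm : η.N B →+* η.N A).comp (η.t B)).codRestrict (η.M A) hmem, ?_, ?_⟩
  · refine RingHom.ext fun a => ?_
    apply Subtype.ext
    change e.symm (η.t B (g a)) = η.t A a
    rw [RingEquiv.symm_apply_eq]
    exact (Nmap_t η g a).symm
  · intro g₂ hg₂
    refine RingHom.ext fun b => ?_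
    apply Subtype.ext
    funext P
    have h1 : (proj η P).comp g₂ = (proj η P).comp
        (((e.symm : η.N B →+* η.N A).comp (η.t B)).codRestrict (η.M A) hmem) := by
      apply fieldPt_ext_of_bijective_Nmap η g hN
      rw [RingHom.comp_assoc, RingHom.comp_assoc, hg₂]
      congr 1
      refine RingHom.ext fun a => ?_
      apply Subtype.ext
      change η.t A a = e.symm (η.t B (g a))
      rw [eq_comm, RingEquiv.symm_apply_eq]
      exact (Nmap_t η g a).symm
    exact RingHom.congr_fun h1 b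

end univ

end Groth.Agent.Lib.Helper69.EtaPt
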