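import Groth.Agent.Lib.Helper69.EtaPtRel

/-!
# Localization `A → A_f` and the rings `N_η`, `M_η`
-/

universe u

namespace Groth.Agent.Lib.Helper69.EtaPt

open _root_.EtaPt

variable (η : FieldEndo.{u})

section loc

variable {A : Type u} [CommRing A] (f : A)

/-- The extension of `A → k(P)` to `A_f` when `f ∉ P`. -/
noncomputable def awayPt (P : PrimeSpectrum A) (h : f ∉ P.asIdeal) :
    Localization.Away f →+* P.asIdeal.ResidueField :=
  IsLocalization.Away.lift f (g := algebraMap A P.asIdeal.ResidueField) (by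
    rw [isUnit_iff_ne_zero, ne_eq, Ideal.algebraMap_residueField_eq_zero]
    exact h)

lemma awayPt_comp (P : PrimeSpectrum A) (h : f ∉ P.asIdeal) :
    (awayPt f P h).comp (algebraMap A (Localization.Away f)) = algebraMap A P.asIdeal.ResidueField :=
  IsLocalization.Away.lift_comp _ _

/-- extension by zero of a family on `D(f)` -/
noncomputable def extZero (y : η.N (Localization.Away f)) : η.N A := fun P =>
  open Classical in
  if h : f ∈ P.asIdeal then 0 else ev η (awayPt f P h) y

lemma ev_extZero (y : η.N (Localization.Away f)) {L : Type u} [Field L]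
    (ψ' : Localization.Away f →+* L) :
    ev η (ψ'.comp (algebraMap A (Localization.Away f))) (extZero η f y) = ev η ψ' y := by
  set ψ := ψ'.comp (algebraMap A (Localization.Away f)) with hψ
  have hf : f ∉ (kerPt ψ).asIdeal := by
    intro h
    have h1 : ψ' (algebraMap A (Localization.Away f) f) = 0 := h
    have h2 : IsUnit (ψ' (algebraMap A (Localization.Away f) f)) :=
      (IsLocalization.Away.algebraMap_isUnit f).map ψ'
    rw [h1] at h2
    exact not_isUnit_zero h2
  rw [ev_apply]
  have h1 : extZero η f y (kerPt ψ) = ev η (awayPt f (kerPt ψ) hf) y := by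
    unfold extZero
    rw [dif_neg hf]
  rw [h1, ← ev_comp]
  apply ev_congr
  apply IsLocalization.ringHom_ext (Submonoid.powers f)
  rw [RingHom.comp_assoc, awayPt_comp, kerLift_comp_algebraMap]

lemma Nmap_extZero (y : η.N (Localization.Away f)) :
    η.Nmap (algebraMap A (Localization.Away f)) (extZero η f y) = y := by
  apply ext_ev
  intro Q
  rw [ev_Nmap, ev_extZero]

lemma extZero_apply_of_mem (y : η.N (Localization.Away f)) (P : PrimeSpectrum A)
    (h : f ∈ P.asIdeal) : extZero η f y P = 0 := by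
  unfold extZero
  rw [dif_pos h]

lemma t_apply_of_mem (P : PrimeSpectrum A) (h : f ∈ P.asIdeal) : η.t A f P = 0 := by
  rw [t_apply, Ideal.algebraMap_residueField_eq_zero.mpr h, map_zero]

lemma apply_eq_zero_of_Nmap_away_eq_zero (x : η.N A)
    (hx : η.Nmap (algebraMap A (Localization.Away f)) x = 0) (P : PrimeSpectrum A)
    (h : f ∉ P.asIdeal) : x P = 0 := by
  have h1 : ev η (awayPt f P h) (η.Nmap (algebraMap A (Localization.Away f)) x) = 0 := by
    rw [hx, map_zero]
  rw [ev_Nmap, awayPt_comp, ← apply_eq_ev] at h1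
  exact h1

lemma t_mul_eq_zero_of_Nmap_away_eq_zero (x : η.N A)
    (hx : η.Nmap (algebraMap A (Localization.Away f)) x = 0) : η.t A f * x = 0 := by
  funext P
  rw [Pi.mul_apply, Pi.zero_apply]
  by_cases h : f ∈ P.asIdeal
  · rw [t_apply_of_mem η f P h, zero_mul]
  · rw [apply_eq_zero_of_Nmap_away_eq_zero η f x hx P h, mul_zero]

/-- S13824 as a lemma. -/
theorem Nmap_away_isLocalization :
    (∀ y : η.N (Localization.Away f), ∃ (x : η.N A) (n : ℕ),
        y * η.t (Localization.Away f) (algebraMap A (Localization.Away f) f) ^ n =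
          η.Nmap (algebraMap A (Localization.Away f)) x) ∧
      ∀ x : η.N A, η.Nmap (algebraMap A (Localization.Away f)) x = 0 →
        ∃ n : ℕ, η.t A f ^ n * x = 0 := by
  constructor
  · intro y
    exact ⟨extZero η f y, 0, by rw [pow_zero, mul_one, Nmap_extZero]⟩
  · intro x hx
    refine ⟨1, ?_⟩
    funext P
    rw [pow_one, Pi.mul_apply, Pi.zero_apply]
    by_cases h : f ∈ P.asIdeal
    · rw [t_apply_of_mem η f P h, zero_mul]
    · rw [apply_eq_zero_of_Nmap_away_eq_zero η f x hx P h, mul_zero]

lemma minimalPrimes_away_finite (hA : (minimalPrimes A).Finite) :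
    (minimalPrimes (Localization.Away f)).Finite := by
  have h1 := IsLocalization.minimalPrimes_map (Submonoid.powers f) (Localization.Away f)
    (⊥ : Ideal A)
  rw [Ideal.map_bot] at h1
  change (⊥ : Ideal (Localization.Away f)).minimalPrimes.Finite
  rw [h1]
  apply Set.Finite.preimage _ hA
  intro J₁ _ J₂ _ h12
  have e1 := IsLocalization.map_under (Submonoid.powers f) (Localization.Away f) J₁
  have e2 := IsLocalization.map_under (Submonoid.powers f) (Localization.Away f) J₂
  rw [← e1, ← e2]
  exact congrArg (Ideal.map (algebraMap A (Localization.Away f))) h12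

/-- the main technical step for S13825 -/
lemma mem_M_of_away (y : η.N (Localization.Away f)) (hy : y ∈ η.M (Localization.Away f)) (m : ℕ)
    (P₀ : Polynomial A) (hP₀ : P₀.Monic)
    (hroot : Polynomial.eval₂ ((η.t (Localization.Away f)).comp (algebraMap A (Localization.Away f)))
      (η.t (Localization.Away f) (algebraMap A (Localization.Away f) f) ^ m * y) P₀ = 0) :
    η.t A f ^ (m + 1) * extZero η f y ∈ η.M A := by
  set α := algebraMap A (Localization.Away f) with hα
  rw [mem_M_iff]
  intro R _ _ _ hR g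
  by_cases hgf : g f = 0
  · refine ⟨0, fun L _ ψ => ?_⟩
    rw [map_mul, map_pow, ev_t, RingHom.comp_apply, hgf]
    simp
  let K := FractionRing R
  let ι : R →+* K := algebraMap R K
  have hι : Function.Injective ι := IsFractionRing.injective R K
  have hunitK : IsUnit ((ι.comp g) f) :=
    isUnit_iff_ne_zero.mpr (fun h => hgf (hι (by rw [map_zero]; exact h)))
  let gK : Localization.Away f →+* K := IsLocalization.Away.lift f (g := ι.comp g) hunitK
  have hgK : gK.comp α = ι.comp g := IsLocalization.Away.lift_comp _ _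
  have hgKf : gK (α f) = ι (g f) := RingHom.congr_fun hgK f
  obtain ⟨w, hw⟩ := hR.2 (ev η gK y)
  -- Claim 1: integrality
  have hint : IsIntegral R (ι (g f) ^ m * w) := by
    refine ⟨P₀.map g, hP₀.map g, ?_⟩
    have h1 := congrArg (ev η gK) hroot
    rw [Polynomial.hom_eval₂, map_zero, map_mul, map_pow, ev_t, ← hw, ← map_pow, ← map_mul] at h1
    have h2 : (ev η gK).comp ((η.t (Localization.Away f)).comp α) = (η.eta K).comp (ι.comp g) := by
      ext a
      change ev η gK (η.t _ (α a)) = η.eta K (ι (g a))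
      rw [ev_t]
      exact congrArg (η.eta K) (RingHom.congr_fun hgK a)
    rw [h2, ← Polynomial.hom_eval₂] at h1
    have h3 : Polynomial.eval₂ (ι.comp g) (gK (α f) ^ m * w) P₀ = 0 := by
      apply eta_injective η K
      rw [h1, map_zero]
    rw [Polynomial.eval₂_map, ← hgKf]
    exact h3
  obtain ⟨r₁, hr₁⟩ := IsIntegrallyClosed.isIntegral_iff.mp hint
  refine ⟨g f * r₁, fun L _ ψ => ?_⟩
  by_cases hψ : ψ (g f) = 0
  · rw [map_mul, map_pow, ev_t, RingHom.comp_apply, hψ, map_mul ψ, hψ]
    simp
  -- the main case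
  have hle : RingHom.ker ι ≤ (kerPt ψ).asIdeal := by
    intro a ha
    rw [RingHom.mem_ker] at ha
    have : a = 0 := hι (by rw [ha, map_zero])
    rw [this]; exact Ideal.zero_mem _
  obtain ⟨V, gV, hV, hcomap⟩ := exists_valuationSubring_dominating ι (kerPt ψ).asIdeal hle
  have hunitV : IsUnit ((gV.comp g) f) := by
    rw [← IsLocalRing.notMem_maximalIdeal]
    intro hmem
    have h1 : g f ∈ Ideal.comap gV (IsLocalRing.maximalIdeal V) := hmem
    rw [hcomap] at h1
    exact hψ h1
  let gVf : Localization.Away f →+* V := IsLocalization.Away.lift f (g := gV.comp g) hunitV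
  have hgVf : gVf.comp α = gV.comp g := IsLocalization.Away.lift_comp _ _
  have hsub : V.subtype.comp gVf = gK := by
    apply IsLocalization.ringHom_ext (Submonoid.powers f)
    rw [RingHom.comp_assoc, hgVf, ← RingHom.comp_assoc, hV]
    exact hgK.symm
  obtain ⟨rV, hrV⟩ := exists_of_mem_M_valuationSubring η hy hR V gVf
  have hrVw : V.subtype rV = w := by
    have h1 := hrV K V.subtype
    rw [hsub, ← hw] at h1
    exact (eta_injective η K h1).symm
  have hgVr₁ : gV r₁ = gV (g f) ^ m * rV := by
    apply V.subtype_injective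
    rw [map_mul, map_pow, hrVw]
    have h1 : V.subtype (gV r₁) = ι r₁ := RingHom.congr_fun hV r₁
    have h2 : V.subtype (gV (g f)) = ι (g f) := RingHom.congr_fun hV (g f)
    rw [h1, h2]
    exact hr₁
  have hQ : PrimeSpectrum.comap gV ⟨IsLocalRing.maximalIdeal V, inferInstance⟩ = kerPt ψ :=
    PrimeSpectrum.ext hcomap
  obtain ⟨E, _, j, χ, hχ⟩ := exists_common_extension gV ψ _ hQ
  apply map_injective η j
  have hcompo : j.comp (ψ.comp g) = (χ.comp gVf).comp α := by
    rw [← RingHom.comp_assoc, ← hχ, RingHom.comp_assoc, ← hgVf, RingHom.comp_assoc]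
  rw [← ev_comp, hcompo, map_mul, map_pow, ev_t, ev_extZero, hrV E χ, eta_natural_apply]
  have h3 : j (ψ (g f * r₁)) = χ (gV (g f * r₁)) := (RingHom.congr_fun hχ (g f * r₁)).symm
  have h4 : ((χ.comp gVf).comp α) f = χ (gV (g f)) := by
    change χ ((gVf.comp α) f) = _
    rw [hgVf]; rfl
  rw [h3, h4, map_mul gV, hgVr₁, ← mul_assoc, ← pow_succ', map_mul χ, map_pow χ, map_mul (η.eta E),
    map_pow (η.eta E)]

/-- S13825 as a lemma. -/
theorem M_away_isLocalization (hA : (minimalPrimes A).Finite) :
    (∀ y ∈ η.M (Localization.Away f), ∃ x ∈ η.M A, ∃ n : ℕ,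
        y * η.t (Localization.Away f) (algebraMap A (Localization.Away f) f) ^ n =
          η.Nmap (algebraMap A (Localization.Away f)) x) ∧
      ∀ x ∈ η.M A, η.Nmap (algebraMap A (Localization.Away f)) x = 0 →
        ∃ n : ℕ, η.t A f ^ n * x = 0 := by
  refine ⟨fun y hy => ?_, fun x _ hx => (Nmap_away_isLocalization η f).2 x hx⟩
  have hAf := minimalPrimes_away_finite f hA
  -- integrality and clearing denominators
  obtain ⟨m, P₀, hP₀, hroot⟩ : ∃ (m : ℕ) (P₀ : Polynomial A), P₀.Monic ∧
      Polynomial.eval₂ ((η.t (Localization.Away f)).comp (algebraMap A (Localization.Away f)))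
        (η.t (Localization.Away f) (algebraMap A (Localization.Away f) f) ^ m * y) P₀ = 0 := by
    let := (η.q (Localization.Away f)).toAlgebra
    let := ((η.q (Localization.Away f)).comp (algebraMap A (Localization.Away f))).toAlgebra
    have : IsScalarTower A (Localization.Away f) (η.M (Localization.Away f)) :=
      IsScalarTower.of_algebraMap_eq (fun _ => rfl)
    have hyint : IsIntegral (Localization.Away f) (⟨y, hy⟩ : η.M (Localization.Away f)) :=
      isIntegral_q η hAf ⟨y, hy⟩
    obtain ⟨⟨_, m, rfl⟩, P₀, hP₀, hP₀y⟩ :=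
      IsIntegral.exists_multiple_integral_of_isLocalization (Submonoid.powers f)
        (Rₘ := Localization.Away f) _ hyint
    refine ⟨m, P₀, hP₀, ?_⟩
    have h1 := congrArg (η.M (Localization.Away f)).subtype hP₀y
    rw [Polynomial.hom_eval₂, map_zero] at h1
    convert h1 using 2
    · rfl
    · symm
      rw [Submonoid.smul_def, Algebra.smul_def, map_mul]
      congr 1
      change η.t _ (algebraMap A (Localization.Away f) (f ^ m)) = _
      rw [map_pow, map_pow]
  refine ⟨_, mem_M_of_away η f y hy m P₀ hP₀ hroot, m + 1, ?_⟩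
  rw [map_mul, map_pow, Nmap_t, Nmap_extZero, mul_comm]

end loc

section relLoc

lemma ring_aux1 {R : Type*} [CommRing R] (y c : R) (k n : ℕ) :
    y * c ^ k * c ^ (n + 1) - c ^ (k + 1) * (y * c ^ n) = 0 := by ring

lemma ring_aux2 {R : Type*} [CommRing R] (b c : R) (n : ℕ) :
    b * c ^ (n + 2) = c * (b * c ^ (n + 1)) := by ring

lemma ring_aux3 {R : Type*} [CommRing R] (y c : R) (k n : ℕ) :
    y * c ^ (k + n + 2) = y * c ^ k * c ^ (n + 2) := by ring

variable {A B : Type u} [CommRing A] [CommRing B]

lemma awayMap_comp (φ : A →+* B) (f : A) :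
    (Localization.awayMap φ f).comp (algebraMap A (Localization.Away f)) =
      (algebraMap B (Localization.Away (φ f))).comp φ :=
  IsLocalization.map_comp _

/-- S13829 as a lemma. -/
theorem rel_away_isLocalization (hA : (minimalPrimes A).Finite) (φ : A →+* B) (f : A) :
    (η.rel φ).map (algebraMap B (Localization.Away (φ f))) ≤ η.rel (Localization.awayMap φ f) ∧
      ∀ y ∈ η.rel (Localization.awayMap φ f), ∃ x ∈ η.rel φ, ∃ n : ℕ,
        y * algebraMap B (Localization.Away (φ f)) (φ f) ^ n =
          algebraMap B (Localization.Away (φ f)) x := by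
  set α := algebraMap A (Localization.Away f) with hα
  set β := algebraMap B (Localization.Away (φ f)) with hβ
  have hsq : (Localization.awayMap φ f).comp α = β.comp φ := awayMap_comp φ f
  constructor
  · rintro _ ⟨b, ⟨x, hx, hxb⟩, rfl⟩
    refine ⟨η.Nmap α x, Nmap_mem_M η α hx, ?_⟩
    rw [← Nmap_comp, hsq, Nmap_comp, hxb, Nmap_t]
  · rintro y ⟨z, hz, hzy⟩
    obtain ⟨xA, hxA, n, hn⟩ := (M_away_isLocalization η f hA).1 z hz
    obtain ⟨k, b, hkb⟩ := IsLocalization.Away.surj (φ f) y
    change z * η.t _ (α f) ^ n = η.Nmap α xA at hn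
    change y * β (φ f) ^ k = β b at hkb
    -- the two candidates agree after localization
    set u := η.t B (b * φ f ^ (n + 1)) - η.Nmap φ (η.t A f ^ (k + 1) * xA) with hu
    have hu0 : η.Nmap β u = 0 := by
      have h1 : (Localization.awayMap φ f) (α f) = β (φ f) := RingHom.congr_fun hsq f
      have e1 : η.Nmap β (η.t B (b * φ f ^ (n + 1))) =
          η.t _ y * η.t _ (β (φ f)) ^ k * η.t _ (β (φ f)) ^ (n + 1) := by
        rw [Nmap_t, map_mul β, map_pow β, ← hkb]
        simp only [map_mul, map_pow]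
      have s1 : η.Nmap β (η.Nmap φ (η.t A f ^ (k + 1) * xA)) =
          η.Nmap (Localization.awayMap φ f) (η.Nmap α (η.t A f ^ (k + 1) * xA)) := by
        rw [← Nmap_comp, ← Nmap_comp, hsq]
      have s2 : η.Nmap α (η.t A f ^ (k + 1) * xA) =
          η.t _ (α f) ^ (k + 1) * (z * η.t _ (α f) ^ n) := by
        rw [hn]
        simp only [map_mul, map_pow, Nmap_t]
      have e2 : η.Nmap β (η.Nmap φ (η.t A f ^ (k + 1) * xA)) =
          η.t _ (β (φ f)) ^ (k + 1) * (η.t _ y * η.t _ (β (φ f)) ^ n) := by
        rw [s1, s2]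
        simp only [map_mul, map_pow, Nmap_t, hzy, h1]
      rw [hu, map_sub, e1, e2]
      exact ring_aux1 _ _ k n
    have h2 := t_mul_eq_zero_of_Nmap_away_eq_zero η (φ f) u hu0
    refine ⟨b * φ f ^ (n + 2), ⟨η.t A f ^ (k + 2) * xA,
      (η.M A).mul_mem ((η.M A).pow_mem (η.t_mem_M A f) _) hxA, ?_⟩, k + n + 2, ?_⟩
    · rw [hu, mul_sub, sub_eq_zero] at h2
      have h3 : η.t B (φ f) * η.Nmap φ (η.t A f ^ (k + 1) * xA) =
          η.Nmap φ (η.t A f ^ (k + 2) * xA) := by
        rw [← Nmap_t η φ f, ← map_mul, ← mul_assoc, ← pow_succ']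
      rw [← h3, ← h2, ← map_mul]
      congr 1
      exact (ring_aux2 _ _ n).symm
    · rw [map_mul β, map_pow β, ← hkb]
      exact ring_aux3 _ _ k n

end relLoc

end Groth.Agent.Lib.Helper69.EtaPt
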