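import Groth.Agent.Lib.Helper69.EtaPtRel
import Groth.Prelude.Def_EGA4b

/-!
# `q_A` is bijective for normal rings with finitely many minimal primes
-/

universe u

namespace Groth.Agent.Lib.Helper69.EtaPt

open _root_.EtaPt

variable (η : FieldEndo.{u})

section normal

/-- S13809 as a lemma: surjectivity part, phrased with `range t`. -/
theorem mem_range_t_of_isIntegrallyClosed (A : Type u) [CommRing A] [IsDomain A]
    [IsIntegrallyClosed A] (hA : η.InV A) {x : η.N A} (hx : x ∈ η.M A) : ∃ a : A, η.t A a = x := by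
  have hL : Function.Bijective (η.eta (⊥ : Ideal A).ResidueField) :=
    (inV_iff_of_isFractionRing η A _).mp hA
  let P0 : PrimeSpectrum A := ⟨⊥, Ideal.isPrime_bot⟩
  obtain ⟨z, hz⟩ := hL.2 (x P0)
  have hint : (algebraMap A (⊥ : Ideal A).ResidueField).IsIntegralElem z := by
    apply isIntegralElem_of_mem_M η hx _ hL z
    rw [hz]
    exact apply_eq_ev η x P0
  obtain ⟨a, ha⟩ := IsIntegrallyClosed.isIntegral_iff.mp hint
  refine ⟨a, ?_⟩
  funext p'
  refine apply_eq_of_ev_eq η (η.t_mem_M A a) hx (algebraMap A (⊥ : Ideal A).ResidueField) hL ?_ p' ?_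
  · rw [ev_t, ha, hz]
    exact apply_eq_ev η x P0
  · rw [Ideal.ker_algebraMap_residueField]
    exact bot_le

variable {A : Type u} [CommRing A]

/-- S13827 as a lemma. -/
theorem bijective_q_of_isNormalRing (hn : EGA4.IsNormalRing A) (hA : (minimalPrimes A).Finite)
    (hη : ∀ p : PrimeSpectrum A, p.asIdeal ∈ minimalPrimes A →
      Function.Bijective (η.eta p.asIdeal.ResidueField)) :
    Function.Bijective (η.q A) := by
  constructor
  · -- injectivity: A is reduced
    intro a a' haa
    have h1 : η.t A (a - a') = 0 := by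
      rw [map_sub, sub_eq_zero]; exact congrArg Subtype.val haa
    obtain ⟨n, hnil⟩ := isNilpotent_of_t_eq_zero η (a - a') h1
    have h2 : a - a' = 0 := by
      apply eq_zero_of_localization
      intro J hJ
      have : IsDomain (Localization.AtPrime J) := (hn J).1
      have h3 : (algebraMap A (Localization.AtPrime J) (a - a')) ^ n = 0 := by
        rw [← map_pow, hnil, map_zero]
      exact eq_zero_of_pow_eq_zero h3
    exact sub_eq_zero.mp h2
  · rintro ⟨x, hx⟩
    -- the conductor-type ideal
    let I : Ideal A :=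
      { carrier := {s | ∃ a, η.t A s * x = η.t A a}
        add_mem' := by
          rintro s s' ⟨a, ha⟩ ⟨a', ha'⟩
          exact ⟨a + a', by rw [map_add, add_mul, ha, ha', map_add]⟩
        zero_mem' := ⟨0, by rw [map_zero, zero_mul]⟩
        smul_mem' := by
          rintro c s ⟨a, ha⟩
          exact ⟨c * a, by rw [smul_eq_mul, map_mul, mul_assoc, ha, map_mul]⟩ }
    suffices hI : I = ⊤ by
      have h1 : (1 : A) ∈ I := by rw [hI]; trivial
      obtain ⟨a, ha⟩ := h1
      rw [map_one, one_mul] at ha
      exact ⟨a, Subtype.ext ha.symm⟩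
    by_contra hI
    obtain ⟨P, hPmax, hIP⟩ := Ideal.exists_le_maximal I hI
    have hPprime : P.IsPrime := hPmax.isPrime
    have hdom : IsDomain (Localization.AtPrime P) := (hn P).1
    have hic : IsIntegrallyClosed (Localization.AtPrime P) := (hn P).2
    let AP := Localization.AtPrime P
    let K := FractionRing AP
    let loc : A →+* AP := algebraMap A AP
    let ιK : AP →+* K := algebraMap AP K
    have hιK : Function.Injective ιK := IsFractionRing.injective AP K
    let φ : A →+* K := ιK.comp loc
    let P₀ : PrimeSpectrum A := kerPt φ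
    -- description of the kernel
    have hker : ∀ a : A, a ∈ P₀.asIdeal ↔ ∃ s : A, s ∉ P ∧ s * a = 0 := by
      intro a
      change φ a = 0 ↔ _
      constructor
      · intro h0
        have h1 : loc a = 0 := hιK (by rw [map_zero]; exact h0)
        obtain ⟨⟨s, hs⟩, hsa⟩ := (IsLocalization.map_eq_zero_iff P.primeCompl AP a).mp h1
        exact ⟨s, hs, hsa⟩
      · rintro ⟨s, hs, hsa⟩
        have h1 : loc a = 0 := (IsLocalization.map_eq_zero_iff P.primeCompl AP a).mpr ⟨⟨s, hs⟩, hsa⟩
        change ιK (loc a) = 0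
        rw [h1, map_zero]
    -- any prime inside P contains P₀
    have hP₀le : ∀ p : Ideal A, p.IsPrime → p ≤ P → P₀.asIdeal ≤ p := by
      intro p hp hpP a ha
      obtain ⟨s, hs, hsa⟩ := (hker a).mp ha
      have : s * a ∈ p := by rw [hsa]; exact p.zero_mem
      exact (hp.mem_or_mem this).resolve_left (fun h => hs (hpP h))
    have hP₀P : P₀.asIdeal ≤ P := hP₀le P hPprime le_rfl
    have hP₀min : P₀.asIdeal ∈ minimalPrimes A := by
      obtain ⟨p, hpmin, hple⟩ := Ideal.exists_minimalPrimes_le (bot_le : ⊥ ≤ P₀.asIdeal)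
      have h1 : P₀.asIdeal ≤ p := hP₀le p hpmin.1.1 (hple.trans hP₀P)
      have : p = P₀.asIdeal := le_antisymm hple h1
      rw [← this]; exact hpmin
    -- η is bijective at K
    have hφs : ∀ s : A, s ∉ P → φ s ≠ 0 := fun s hs h0 => hs (hP₀P h0)
    have hsurj : Function.Surjective (kerLift φ) := by
      have hloc : ∀ u : AP, ∃ c, kerLift φ c = ιK u := by
        intro u
        obtain ⟨a, s, rfl⟩ := IsLocalization.exists_mk'_eq P.primeCompl u
        refine ⟨algebraMap A _ a / algebraMap A _ (s : A), ?_⟩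
        rw [map_div₀, kerLift_algebraMap, kerLift_algebraMap]
        have h1 : IsLocalization.mk' AP a s * loc s = loc a := IsLocalization.mk'_spec AP a s
        have h2 : ιK (IsLocalization.mk' AP a s) * φ s = φ a := by
          change _ * ιK (loc s) = ιK (loc a)
          rw [← map_mul, h1]
        rw [div_eq_iff (hφs s s.2), h2]
      intro z
      obtain ⟨u, v, hv, rfl⟩ := IsFractionRing.div_surjective (A := AP) z
      obtain ⟨c, hc⟩ := hloc u
      obtain ⟨d, hd⟩ := hloc v
      exact ⟨c / d, by rw [map_div₀, hc, hd]⟩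
    have hKbij : Function.Bijective (η.eta K) :=
      bijective_eta_of_ringEquiv η
        (RingEquiv.ofBijective (kerLift φ) ⟨(kerLift φ).injective, hsurj⟩) (hη P₀ hP₀min)
    -- apply the integrally closed case to AP
    obtain ⟨c, hc⟩ := mem_range_t_of_isIntegrallyClosed η AP hKbij (Nmap_mem_M η loc hx)
    obtain ⟨b, s, rfl⟩ := IsLocalization.exists_mk'_eq P.primeCompl c
    -- agreement at P₀
    have hev : ev η φ (η.t A s * x) = ev η φ (η.t A b) := by
      rw [map_mul, ev_t, ev_t]
      change _ * ev η (ιK.comp loc) x = _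
      rw [← ev_Nmap, ← hc, ev_t, ← map_mul]
      congr 1
      change ιK (loc s) * ιK (IsLocalization.mk' AP b s) = ιK (loc b)
      rw [← map_mul, mul_comm, IsLocalization.mk'_spec]
    have hP₀eq : (η.t A s * x) P₀ = η.t A b P₀ := apply_eq_of_ev_eq_kerPt η φ hev P₀ rfl
    -- the element e
    have hex : ∀ p : Ideal A, p ∈ minimalPrimes A → p ≠ P₀.asIdeal → ∃ e ∈ p, e ∉ P := by
      intro p hp hne
      by_contra hcon
      push Not at hcon
      have hpP : p ≤ P := fun e he => hcon e he
      have h1 : P₀.asIdeal ≤ p := hP₀le p hp.1.1 hpP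
      have h2 : p ≤ P₀.asIdeal := hp.2 ⟨P₀.isPrime, bot_le⟩ h1
      exact hne (le_antisymm h2 h1)
    classical
    let ee : Ideal A → A := fun p =>
      if h : p ∈ minimalPrimes A ∧ p ≠ P₀.asIdeal then (hex p h.1 h.2).choose else 1
    have hee1 : ∀ p, ee p ∉ P := by
      intro p
      by_cases h : p ∈ minimalPrimes A ∧ p ≠ P₀.asIdeal
      · simp only [ee, dif_pos h]
        exact (hex p h.1 h.2).choose_spec.2
      · simp only [ee, dif_neg h]
        exact fun h1 => hPprime.ne_top ((Ideal.eq_top_iff_one P).mpr h1)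
    have hee2 : ∀ p, p ∈ minimalPrimes A → p ≠ P₀.asIdeal → ee p ∈ p := by
      intro p hp hne
      simp only [ee, dif_pos (⟨hp, hne⟩ : p ∈ minimalPrimes A ∧ p ≠ P₀.asIdeal)]
      exact (hex p hp hne).choose_spec.1
    let e : A := ∏ p ∈ hA.toFinset, ee p
    have heP : e ∉ P := by
      intro h
      obtain ⟨p, -, hp⟩ := (Ideal.IsPrime.prod_mem_iff).mp h
      exact hee1 p hp
    have hep : ∀ p, p ∈ minimalPrimes A → p ≠ P₀.asIdeal → e ∈ p := by
      intro p hp hne
      obtain ⟨c, hc⟩ := Finset.dvd_prod_of_mem ee (hA.mem_toFinset.mpr hp)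
      change e = ee p * c at hc
      rw [hc]
      exact Ideal.mul_mem_right _ _ (hee2 p hp hne)
    -- e * s ∈ I
    have hesI : e * s ∈ I := by
      refine ⟨e * b, ?_⟩
      have hmem : η.t A (e * s) * x - η.t A (e * b) ∈ η.M A :=
        (η.M A).sub_mem ((η.M A).mul_mem (η.t_mem_M A _) hx) (η.t_mem_M A _)
      have h0 := eq_zero_of_minimalPrimes η hmem (fun p hp => ?_)
      · exact sub_eq_zero.mp h0
      · rw [Pi.sub_apply, sub_eq_zero, map_mul, map_mul, mul_assoc]
        by_cases hpe : p = P₀
        · rw [hpe, Pi.mul_apply, Pi.mul_apply (η.t A e), hP₀eq]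
        · have hne : p.asIdeal ≠ P₀.asIdeal := fun h => hpe (PrimeSpectrum.ext h)
          have h1 : η.t A e p = 0 := by
            rw [t_apply, Ideal.algebraMap_residueField_eq_zero.mpr (hep p.asIdeal hp hne), map_zero]
          rw [Pi.mul_apply, Pi.mul_apply (η.t A e), h1, zero_mul, zero_mul]
    have : e * s ∈ P := hIP hesI
    rcases hPprime.mem_or_mem this with h | h
    · exact heP h
    · exact s.2 h

end normal

end Groth.Agent.Lib.Helper69.EtaPt
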