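import Groth.Agent.Lib.Helper69.EtaPtRel
import Groth.Agent.Lib.Helper69.SpecResidue

/-!
# Seminormalization via the pointwise ring for the identity endofunctor
-/

universe u

namespace Groth.Agent.Lib.Helper69.EtaPt

open _root_.EtaPt AlgebraicGeometry CategoryTheory

variable (η : FieldEndo.{u})

section general

variable {A B : Type u} [CommRing A] [CommRing B]

lemma bijective_map_residue_of (f : A →+* B)
    (hres : ∀ Q : PrimeSpectrum B, Function.Bijective
      (η.map (Ideal.ResidueField.map (PrimeSpectrum.comap f Q).asIdeal Q.asIdeal f rfl)))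
    (P : PrimeSpectrum A) (Q : PrimeSpectrum B) (h : P.asIdeal = Q.asIdeal.comap f) :
    Function.Bijective (η.map (Ideal.ResidueField.map P.asIdeal Q.asIdeal f h)) := by
  have hP : P = PrimeSpectrum.comap f Q := PrimeSpectrum.ext h
  subst hP
  exact hres Q

/-- `N(f)` is bijective when `Spec f` is bijective and `F` of all residue field maps is. -/
theorem bijective_Nmap_of (f : A →+* B) (hbij : Function.Bijective (PrimeSpectrum.comap f))
    (hres : ∀ Q : PrimeSpectrum B, Function.Bijective
      (η.map (Ideal.ResidueField.map (PrimeSpectrum.comap f Q).asIdeal Q.asIdeal f rfl))) :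
    Function.Bijective (η.Nmap f) := by
  refine ⟨Nmap_injective_of_comap_surjective η f hbij.2, fun y => ?_⟩
  choose QQ hQQ using hbij.2
  have hh : ∀ P : PrimeSpectrum A, P.asIdeal = (QQ P).asIdeal.comap f :=
    fun P => (congrArg PrimeSpectrum.asIdeal (hQQ P)).symm
  choose x hx using fun P : PrimeSpectrum A =>
    (bijective_map_residue_of η f hres P (QQ P) (hh P)).2 (y (QQ P))
  refine ⟨x, ?_⟩
  apply ext_ev
  intro Q
  obtain ⟨P, rfl⟩ : ∃ P, QQ P = Q := ⟨PrimeSpectrum.comap f Q, hbij.1 (hQQ _)⟩
  rw [ev_Nmap, ev_eq_of η _ P (Ideal.ResidueField.map P.asIdeal (QQ P).asIdeal f (hh P))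
    (residueMap_comp_algebraMap _ _ _ _), hx, ← apply_eq_ev]

end general

section ident

variable {A B : Type u} [CommRing A] [CommRing B]

/-- a ring map between fields with a retraction is bijective -/
lemma bijective_of_comp_eq_id {K L : Type*} [Field K] [Field L] (m : K →+* L) (φ : L →+* K)
    (h : φ.comp m = RingHom.id K) : Function.Bijective m := by
  refine ⟨m.injective, fun z => ⟨φ z, φ.injective ?_⟩⟩
  exact RingHom.congr_fun h (φ z)

/-- ring-level data for a ring map being a "subintegral-type" map (identity endofunctor) -/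
theorem isIntegral_and_bijective_Nmap_of_univHomeo (ψ : A →+* B)
    (h1 : FlatMor.IsUnivHomeo (Spec.map (CommRingCat.ofHom ψ)))
    (h2 : HTop.ResidueFieldsIso (Spec.map (CommRingCat.ofHom ψ))) :
    ψ.IsIntegral ∧ Function.Bijective (FieldEndo.ident.{u}.Nmap ψ) := by
  obtain ⟨hint, hbij⟩ := SpecResidue.of_isUnivHomeo_SpecMap ψ h1
  exact ⟨hint, bijective_Nmap_of FieldEndo.ident.{u} ψ hbij
    ((SpecResidue.residueFieldsIso_SpecMap_iff ψ).mp h2)⟩

end ident

end Groth.Agent.Lib.Helper69.EtaPt
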