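import Groth.Agent.Lib.Helper69.EtaPt

/-!
# `M_η(R)` for a valuation ring `R`
-/

universe u

namespace Groth.Agent.Lib.Helper69.EtaPt

open _root_.EtaPt

variable (η : FieldEndo.{u})

section charp

lemma charP_of_ringHom {R L : Type*} [CommRing R] (p : ℕ) [hp : Fact p.Prime] [CharP R p]
    [Field L] (f : R →+* L) : CharP L p :=
  (CharP.charP_iff_prime_eq_zero hp.out).mpr (by
    rw [← map_natCast f, CharP.cast_eq_zero, map_zero])

lemma pow_p_inj {L : Type*} [Field L] (p : ℕ) [hp : Fact p.Prime] [CharP L p] (n : ℕ) {x y : L}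
    (h : x ^ p ^ n = y ^ p ^ n) : x = y := by
  have : ExpChar L p := ExpChar.prime hp.out
  exact iterateFrobenius_inj L p n (by simpa [iterateFrobenius_def] using h)

lemma exists_pow_eq_of_perfectField {L : Type*} [Field L] (p : ℕ) [hp : Fact p.Prime] [CharP L p]
    [PerfectField L] (n : ℕ) (a : L) : ∃ s : L, s ^ p ^ n = a := by
  have : ExpChar L p := ExpChar.prime hp.out
  obtain ⟨s, hs⟩ := (iterateFrobeniusEquiv L p n).surjective a
  exact ⟨s, by rw [← hs, iterateFrobeniusEquiv_def]⟩

end charp

section val

variable (R : Type u) [CommRing R] [IsDomain R] [ValuationRing R]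

/-- the generic point of a domain -/
abbrev botPt : PrimeSpectrum R := ⟨⊥, Ideal.isPrime_bot⟩

/-- Injectivity of the generic component on `M R`. -/
theorem injOn_generic : Set.InjOn (fun x : η.N R => x (botPt R)) (η.M R) := by
  intro x hx y hy hxy
  have h0 : x - y = 0 := by
    apply eq_zero_of_minimalPrimes η ((η.M R).sub_mem hx hy)
    intro P hP
    rw [IsDomain.minimalPrimes_eq_singleton_bot, Set.mem_singleton_iff] at hP
    have hPb : P = botPt R := PrimeSpectrum.ext hP
    rw [hPb, Pi.sub_apply, sub_eq_zero]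
    exact hxy
  exact sub_eq_zero.mp h0

/-- generic components of elements of `M R` are integral over `R`. -/
theorem isIntegralElem_generic {x : η.N R} (hx : x ∈ η.M R) :
    (etaPt η (botPt R)).IsIntegralElem (x (botPt R)) :=
  isIntegralElem_of_mem_M η hx (etaPt η (botPt R)) (bijective_eta_obj η _) _
    (ev_etaPt η _ x).symm

/-- integral elements of `F(K)` have a power coming from `R`. -/
lemma exists_pow_eq_of_isIntegralElem (y : η.obj (botPt R).asIdeal.ResidueField)
    (hy : (etaPt η (botPt R)).IsIntegralElem y) :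
    ∃ (n : ℕ) (r₀ : R), y ^ ringExpChar (botPt R).asIdeal.ResidueField ^ n =
      etaPt η (botPt R) r₀ := by
  obtain ⟨n, w, hw⟩ := η.exists_pow_mem_range_eta (botPt R).asIdeal.ResidueField y
  have h1 : (etaPt η (botPt R)).IsIntegralElem
      (y ^ ringExpChar (botPt R).asIdeal.ResidueField ^ n) := by
    let := (etaPt η (botPt R)).toAlgebra
    exact IsIntegral.pow hy _
  rw [← hw] at h1
  obtain ⟨P, hP, hPw⟩ := h1
  have h2 : Polynomial.eval₂ (algebraMap R (botPt R).asIdeal.ResidueField) w P = 0 := by
    apply eta_injective η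
    rw [Polynomial.hom_eval₂, map_zero]
    exact hPw
  have h3 : IsIntegral R w := ⟨P, hP, h2⟩
  have : IsFractionRing R (botPt R).asIdeal.ResidueField :=
    inferInstanceAs (IsFractionRing R (⊥ : Ideal R).ResidueField)
  obtain ⟨r₀, hr₀⟩ := IsIntegrallyClosed.isIntegral_iff.mp h3
  exact ⟨n, r₀, by rw [← hw, ← hr₀]; rfl⟩

/-- every element of `F(K)` or its inverse is integral over `R`. -/
lemma isIntegralElem_or_inv (z : η.obj (botPt R).asIdeal.ResidueField) :
    (etaPt η (botPt R)).IsIntegralElem z ∨ (etaPt η (botPt R)).IsIntegralElem z⁻¹ := by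
  obtain ⟨n, w, hw⟩ := η.exists_pow_mem_range_eta (botPt R).asIdeal.ResidueField z
  have hpos : ringExpChar (botPt R).asIdeal.ResidueField ^ n ≠ 0 := by
    have : 0 < ringExpChar (botPt R).asIdeal.ResidueField := by
      unfold ringExpChar; exact lt_of_lt_of_le Nat.one_pos (le_max_right _ _)
    exact (pow_pos this n).ne'
  have : IsFractionRing R (botPt R).asIdeal.ResidueField :=
    inferInstanceAs (IsFractionRing R (⊥ : Ideal R).ResidueField)
  rcases ValuationRing.isInteger_or_isInteger R w with ⟨r, hr⟩ | ⟨r, hr⟩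
  · left
    refine ⟨Polynomial.X ^ (ringExpChar (botPt R).asIdeal.ResidueField ^ n) - Polynomial.C r,
      Polynomial.monic_X_pow_sub_C _ hpos, ?_⟩
    rw [Polynomial.eval₂_sub, Polynomial.eval₂_pow, Polynomial.eval₂_X, Polynomial.eval₂_C, ← hw,
      ← hr]
    exact sub_self _
  · right
    refine ⟨Polynomial.X ^ (ringExpChar (botPt R).asIdeal.ResidueField ^ n) - Polynomial.C r,
      Polynomial.monic_X_pow_sub_C _ hpos, ?_⟩
    rw [Polynomial.eval₂_sub, Polynomial.eval₂_pow, Polynomial.eval₂_X, Polynomial.eval₂_C, inv_pow,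
      ← hw, ← map_inv₀, ← hr]
    exact sub_self _

/-- Construction of elements of `M R` from compatible `p^n`-th roots (characteristic `p`). -/
lemma mem_M_of_pow_eq (p : ℕ) [hp : Fact p.Prime] [CharP R p] (n : ℕ) (r₀ : R) (x : η.N R)
    (hx : ∀ 𝔮 : PrimeSpectrum R,
      x 𝔮 ^ p ^ n = η.eta _ (algebraMap R 𝔮.asIdeal.ResidueField r₀))
    (hroot : ∀ (R' : Type u) [CommRing R'] [IsDomain R'] [ValuationRing R'], η.InV R' →
      ∀ g : R →+* R', ∃ r' : R', r' ^ p ^ n = g r₀) : x ∈ η.M R := by
  rw [mem_M_iff]
  intro R' _ _ _ hR' g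
  obtain ⟨r', hr'⟩ := hroot R' hR' g
  refine ⟨r', fun L _ ψ => ?_⟩
  have : CharP (η.obj L) p := charP_of_ringHom p ((η.eta L).comp (ψ.comp g))
  apply pow_p_inj p n
  have hxp : x ^ p ^ n = η.t R r₀ := by
    funext 𝔮
    rw [Pi.pow_apply, hx 𝔮, t_apply]
  rw [← map_pow, hxp, ev_t, ← map_pow, ← map_pow, hr']
  rfl

/-- In characteristic zero `η` is bijective. -/
lemma bijective_eta_of_charZero (K : Type u) [Field K] [CharZero K] :
    Function.Bijective (η.eta K) := by
  refine ⟨eta_injective η K, fun x => ?_⟩
  obtain ⟨n, z, hz⟩ := η.exists_pow_mem_range_eta K x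
  rw [ringExpChar.eq_one, one_pow, pow_one] at hz
  exact ⟨z, hz⟩

variable {R}

/-- Key surjectivity: integral elements are generic components (under the standing hypothesis). -/
theorem exists_mem_M_generic_eq
    (hη : η.InV R ∨ ∀ (k : Type u) [Field k], ringChar k = ringChar R →
      Function.Bijective (η.eta k) → PerfectField k)
    (y : η.obj (botPt R).asIdeal.ResidueField) (hy : (etaPt η (botPt R)).IsIntegralElem y) :
    ∃ x ∈ η.M R, x (botPt R) = y := by
  have hfr : IsFractionRing R (botPt R).asIdeal.ResidueField :=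
    inferInstanceAs (IsFractionRing R (⊥ : Ideal R).ResidueField)
  -- the case InV R
  have caseA : η.InV R → ∃ x ∈ η.M R, x (botPt R) = y := by
    intro hR
    have hL : Function.Bijective (η.eta (botPt R).asIdeal.ResidueField) :=
      (inV_iff_of_isFractionRing η R _).mp hR
    obtain ⟨z, rfl⟩ := hL.2 y
    obtain ⟨P, hP, hPz⟩ := hy
    have h2 : Polynomial.eval₂ (algebraMap R (botPt R).asIdeal.ResidueField) z P = 0 := by
      apply eta_injective η
      rw [Polynomial.hom_eval₂, map_zero]
      exact hPz
    obtain ⟨r, hr⟩ := IsIntegrallyClosed.isIntegral_iff.mp (⟨P, hP, h2⟩ : IsIntegral R z)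
    exact ⟨η.t R r, η.t_mem_M R r, by rw [t_apply, hr]⟩
  rcases hη with hR | hperf
  · exact caseA hR
  · have hchar : CharP R (ringChar R) := ringChar.charP R
    rcases CharP.char_is_prime_or_zero R (ringChar R) with hp | h0
    · -- characteristic p
      have hpf : Fact (ringChar R).Prime := ⟨hp⟩
      set p := ringChar R with hpdef
      have hK0 : CharP (botPt R).asIdeal.ResidueField p :=
        charP_of_ringHom p (algebraMap R (botPt R).asIdeal.ResidueField)
      have hexp : ringExpChar (botPt R).asIdeal.ResidueField = p := by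
        have : ExpChar (botPt R).asIdeal.ResidueField p := ExpChar.prime hp
        exact ringExpChar.eq _ p
      obtain ⟨n, r₀, hr₀⟩ := exists_pow_eq_of_isIntegralElem η R y hy
      rw [hexp] at hr₀
      -- the family of roots
      have hex : ∀ 𝔮 : PrimeSpectrum R, ∃ s : η.obj 𝔮.asIdeal.ResidueField,
          s ^ p ^ n = η.eta _ (algebraMap R 𝔮.asIdeal.ResidueField r₀) := by
        intro 𝔮
        have h1 : CharP (η.obj 𝔮.asIdeal.ResidueField) p :=
          charP_of_ringHom p ((η.eta _).comp (algebraMap R 𝔮.asIdeal.ResidueField))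
        have h2 : PerfectField (η.obj 𝔮.asIdeal.ResidueField) :=
          hperf _ (ringChar.eq _ p) (bijective_eta_obj η _)
        exact exists_pow_eq_of_perfectField p n _
      choose x hx using hex
      refine ⟨x, mem_M_of_pow_eq η R p n r₀ x hx ?_, ?_⟩
      · intro R' _ _ _ hR' g
        have h1 : CharP (FractionRing R') p :=
          charP_of_ringHom p ((algebraMap R' (FractionRing R')).comp g)
        have h2 : PerfectField (FractionRing R') := hperf _ (ringChar.eq _ p) hR'
        obtain ⟨s, hs⟩ := exists_pow_eq_of_perfectField p n (algebraMap R' (FractionRing R') (g r₀))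
        have hint : IsIntegral R' s := by
          refine ⟨Polynomial.X ^ (p ^ n) - Polynomial.C (g r₀),
            Polynomial.monic_X_pow_sub_C _ (pow_pos hp.pos n).ne', ?_⟩
          simp [hs]
        obtain ⟨r', hr'⟩ := IsIntegrallyClosed.isIntegral_iff.mp hint
        refine ⟨r', IsFractionRing.injective R' (FractionRing R') ?_⟩
        rw [map_pow, hr', hs]
      · have h1 : CharP (η.obj (botPt R).asIdeal.ResidueField) p :=
          charP_of_ringHom p (etaPt η (botPt R))
        apply pow_p_inj p n
        rw [hx, hr₀]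
        rfl
    · -- characteristic zero: η is bijective at the fraction field
      rw [h0] at hchar
      have : CharZero R := CharP.charP_to_charZero R
      have : CharZero (botPt R).asIdeal.ResidueField :=
        charZero_of_injective_algebraMap (IsFractionRing.injective R _)
      exact caseA ((inV_iff_of_isFractionRing η R (botPt R).asIdeal.ResidueField).mpr
        (bijective_eta_of_charZero η (botPt R).asIdeal.ResidueField))

end val

end Groth.Agent.Lib.Helper69.EtaPt
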