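import Groth.Agent.Lib.Helper69.FinBirLift
import Groth.Agent.Lib.BlowUp.CartierCompl
import Groth.Agent.Lib.BlowUp.Helper18_EffCartier
import Groth.Agent.Lib.Helper20.IdealComap

/-!
# Finite birational morphisms: the affine-local picture (helper69)
-/

set_option autoImplicit false
set_option linter.style.haveILetI false
universe u

open CategoryTheory CategoryTheory.Limits AlgebraicGeometry Opposite TopologicalSpace

namespace Groth.Agent.Lib.Helper69.FinBirChart

open Groth.Agent.Lib.Helper69.FinBirLift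

variable {X Y : Scheme.{u}} (f : X ⟶ Y) (L : Y.IdealSheafData)

/-- `f` is an isomorphism on sections over opens inside an open over which it is an isomorphism -/
theorem bijective_app_of_le (W : Y.Opens) (hiso : IsIso (f ∣_ W)) (D : Y.Opens)
    (hD : D ≤ W) : Function.Bijective (f.app D).hom := by
  have h1 : ∀ V : W.toScheme.Opens, IsIso (f.app (W.ι ''ᵁ V)) := by
    intro V
    have h2 : IsIso ((f ∣_ W).app V) := inferInstance
    rw [morphismRestrict_app] at h2
    exact @IsIso.of_isIso_comp_right _ _ _ _ _ (f.app (W.ι ''ᵁ V))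
      (X.presheaf.map (eqToHom (image_morphismRestrict_preimage f W V)).op) inferInstance h2
  have h3 : W.ι ''ᵁ (W.ι ⁻¹ᵁ D) = D := by
    rw [Scheme.Hom.image_preimage_eq_opensRange_inf, Scheme.Opens.opensRange_ι]
    exact inf_eq_right.mpr hD
  have h4 := h1 (W.ι ⁻¹ᵁ D)
  rw [h3] at h4
  exact ConcreteCategory.bijective_of_isIso (f.app D)

section Chart

variable (W : Y.Opens) (hW : (W : Set Y) = (L.support : Set Y)ᶜ) (hiso : IsIso (f ∣_ W))
  (U : Y.affineOpens) (t : Γ(Y, U.1)) (ht : L.ideal U = Ideal.span {t})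

include hW ht in
lemma basicOpen_le : Y.basicOpen t ≤ W := by
  rw [← Groth.Agent.Lib.BlowUp.CartierCompl.inf_eq_basicOpen L W hW U t ht]
  exact inf_le_left

/-- restriction commutes with `f.app` -/
lemma app_res {V V' : Y.Opens} (h : V' ≤ V) (a : Γ(Y, V)) :
    (f.app V').hom ((Y.presheaf.map (homOfLE h).op).hom a) =
      (X.presheaf.map (homOfLE (f.preimage_mono h)).op).hom ((f.app V).hom a) := by
  have := f.naturality (homOfLE h).op
  exact congrArg (fun φ => φ.hom a) this

include hW hiso ht in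
theorem injective_app (htnzd : t ∈ nonZeroDivisors Γ(Y, U.1)) :
    Function.Injective (f.app U.1).hom := by
  rw [injective_iff_map_eq_zero]
  intro a ha
  have hbij := bijective_app_of_le f W hiso (Y.basicOpen t) (basicOpen_le L W hW U t ht)
  have h1 : (Y.presheaf.map (homOfLE (Y.basicOpen_le t)).op).hom a = 0 := by
    apply hbij.1
    rw [app_res, ha, map_zero, map_zero]
  obtain ⟨k, hk⟩ := exists_pow_mul_eq_zero_of_res_basicOpen_eq_zero_of_isAffineOpen Y U.2 a t h1
  exact (mul_cancel_left_mem_nonZeroDivisors (pow_mem htnzd k)).mp (by rw [hk, mul_zero])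

include hW ht in
/-- `f^* t` is a nonzerodivisor when the preimage of the complement of `V(L)` is dense and `X` is
reduced -/
theorem app_mem_nonZeroDivisors [IsReduced X] (hdense : Dense (f.base ⁻¹' ((L.support : Set Y)ᶜ))) :
    (f.app U.1).hom t ∈ nonZeroDivisors Γ(X, f ⁻¹ᵁ U.1) := by
  rw [mem_nonZeroDivisors_iff_right]
  intro b hb
  have h1 : X.basicOpen b ⊓ X.basicOpen ((f.app U.1).hom t) = ⊥ := by
    rw [← Scheme.basicOpen_mul, hb, Scheme.basicOpen_zero]
  have h2 : X.basicOpen ((f.app U.1).hom t) = f ⁻¹ᵁ (Y.basicOpen t) :=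
    (Scheme.preimage_basicOpen f t).symm
  have h3 : X.basicOpen b = ⊥ := by
    by_contra hne
    have hne' : (X.basicOpen b : Set X).Nonempty := by
      rw [Set.nonempty_iff_ne_empty]
      intro h
      exact hne (Opens.ext h)
    obtain ⟨x, hx1, hx2⟩ := hdense.inter_open_nonempty _ (X.basicOpen b).2 hne'
    have hxU : x ∈ f ⁻¹ᵁ U.1 := X.basicOpen_le b hx1
    have hxW : f.base x ∈ W := by
      show f.base x ∈ (W : Set Y)
      rw [hW]
      exact hx2
    have hxD : f.base x ∈ Y.basicOpen t := by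
      rw [← Groth.Agent.Lib.BlowUp.CartierCompl.inf_eq_basicOpen L W hW U t ht]
      exact ⟨hxW, hxU⟩
    have : x ∈ X.basicOpen b ⊓ X.basicOpen ((f.app U.1).hom t) := by
      rw [h2]
      exact ⟨hx1, hxD⟩
    rw [h1] at this
    exact this
  exact (AlgebraicGeometry.basicOpen_eq_bot_iff b).mp h3

include hW hiso ht in
/-- every section of `X` over `f⁻¹ U` becomes a section of `Y` after multiplication by a power of `t` -/
theorem exists_app_eq_pow_mul [IsAffineHom f]
    (hnzd : (f.app U.1).hom t ∈ nonZeroDivisors Γ(X, f ⁻¹ᵁ U.1)) (b : Γ(X, f ⁻¹ᵁ U.1)) :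
    ∃ (k : ℕ) (a : Γ(Y, U.1)), (f.app U.1).hom a = (f.app U.1).hom t ^ k * b := by
  have hbij := bijective_app_of_le f W hiso (Y.basicOpen t) (basicOpen_le L W hW U t ht)
  obtain ⟨y, hy⟩ := hbij.2
    ((X.presheaf.map (homOfLE (f.preimage_mono (Y.basicOpen_le t))).op).hom b)
  obtain ⟨k, a, hka⟩ := exists_eq_pow_mul_of_isAffineOpen Y U.1 U.2 t y
  refine ⟨k, a, ?_⟩
  have hV : IsAffineOpen (f ⁻¹ᵁ U.1) := U.2.preimage f
  have h2 : X.basicOpen ((f.app U.1).hom t) = f ⁻¹ᵁ (Y.basicOpen t) :=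
    (Scheme.preimage_basicOpen f t).symm
  -- the difference restricts to zero on `D(f^* t)`
  have h3 : (X.presheaf.map (homOfLE (f.preimage_mono (Y.basicOpen_le t))).op).hom
      ((f.app U.1).hom a - (f.app U.1).hom t ^ k * b) = 0 := by
    rw [map_sub, map_mul, map_pow, ← app_res f (Y.basicOpen_le t), ← app_res f (Y.basicOpen_le t),
      ← hy, sub_eq_zero]
    have hka' : (Y.presheaf.map (homOfLE (Y.basicOpen_le t)).op).hom a =
        (Y.presheaf.map (homOfLE (Y.basicOpen_le t)).op).hom t ^ k * y := hka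
    rw [hka', map_mul, map_pow]
  have h4 : (X.presheaf.map (homOfLE (X.basicOpen_le ((f.app U.1).hom t))).op).hom
      ((f.app U.1).hom a - (f.app U.1).hom t ^ k * b) = 0 := by
    have h5 := congrArg (X.presheaf.map (homOfLE h2.le).op).hom h3
    rw [map_zero, ← CommRingCat.comp_apply, ← Functor.map_comp] at h5
    exact h5
  obtain ⟨m, hm⟩ := exists_pow_mul_eq_zero_of_res_basicOpen_eq_zero_of_isAffineOpen X hV _ _ h4
  have h5 := (mul_cancel_left_mem_nonZeroDivisors (pow_mem hnzd m)).mp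
    (show (f.app U.1).hom t ^ m * ((f.app U.1).hom a - (f.app U.1).hom t ^ k * b) =
      (f.app U.1).hom t ^ m * 0 by rw [hm, mul_zero])
  exact sub_eq_zero.mp h5

include hW hiso ht in
/-- the affine-local setup of `FinBirLift` holds on the chart `(U, t)` for all large exponents -/
theorem exists_setup [IsFinite f] [IsReduced X]
    (hdense : Dense (f.base ⁻¹' ((L.support : Set Y)ᶜ)))
    (htnzd : t ∈ nonZeroDivisors Γ(Y, U.1)) :
    ∃ N : ℕ, ∀ n, N ≤ n → Setup (f.app U.1).hom t n := by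
  have hinj := injective_app f L W hW hiso U t ht htnzd
  have hnzd := app_mem_nonZeroDivisors f L W hW U t ht hdense
  have hfin : (f.app U.1).hom.Finite := f.finite_app U.1 U.2
  have hex := exists_app_eq_pow_mul f L W hW hiso U t ht hnzd
  -- uniform exponent
  letI alg : Algebra Γ(Y, U.1) Γ(X, f ⁻¹ᵁ U.1) := (f.app U.1).hom.toAlgebra
  haveI hmf : Module.Finite Γ(Y, U.1) Γ(X, f ⁻¹ᵁ U.1) := hfin
  obtain ⟨s, hs⟩ := hmf.fg_top
  choose k a hka using hex
  let N := s.sup k
  have hN : ∀ b ∈ s, ∃ a' : Γ(Y, U.1), (f.app U.1).hom a' = (f.app U.1).hom t ^ N * b := by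
    intro b hb
    have hkb : k b ≤ N := Finset.le_sup hb
    refine ⟨t ^ (N - k b) * a b, ?_⟩
    rw [map_mul, map_pow, hka, ← mul_assoc, ← pow_add, Nat.sub_add_cancel hkb]
  let S : Submodule Γ(Y, U.1) Γ(X, f ⁻¹ᵁ U.1) :=
    { carrier := {b | ∃ a' : Γ(Y, U.1), (f.app U.1).hom a' = (f.app U.1).hom t ^ N * b}
      add_mem' := by
        rintro b b' ⟨a₁, h₁⟩ ⟨a₂, h₂⟩
        exact ⟨a₁ + a₂, by rw [map_add, h₁, h₂, mul_add]⟩
      zero_mem' := ⟨0, by rw [map_zero, mul_zero]⟩
      smul_mem' := by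
        rintro c b ⟨a₁, h₁⟩
        refine ⟨c * a₁, ?_⟩
        rw [map_mul, h₁, Algebra.smul_def]
        show (f.app U.1).hom c * _ = _ * ((f.app U.1).hom c * b)
        ring }
  have hS : S = ⊤ := by
    rw [eq_top_iff, ← hs, Submodule.span_le]
    intro b hb
    exact hN b hb
  refine ⟨N, fun n hn => ⟨hinj, hfin.to_isIntegral, hnzd, fun b => ?_⟩⟩
  obtain ⟨a', ha'⟩ : b ∈ S := hS ▸ Submodule.mem_top
  refine ⟨t ^ (n - N) * a', ?_⟩
  rw [map_mul, map_pow, ha', ← mul_assoc, ← pow_add, Nat.sub_add_cancel hn]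

end Chart

/-- a chart: an affine open of `Y` on which `L` is generated by a nonzerodivisor `t`, together with
the affine-local setup for the exponent `n` -/
structure Chart (n : ℕ) where
  U : Y.affineOpens
  t : Γ(Y, U.1)
  ht : L.ideal U = Ideal.span {t}
  htnzd : t ∈ nonZeroDivisors Γ(Y, U.1)
  setup : Setup (f.app U.1).hom t n

theorem exists_charts [CompactSpace Y] [IsFinite f] [IsReduced X]
    (hL : BlowUp.IsEffCartierIdeal L) (W : Y.Opens) (hW : (W : Set Y) = (L.support : Set Y)ᶜ)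
    (hiso : IsIso (f ∣_ W)) (hdense : Dense (f.base ⁻¹' ((L.support : Set Y)ᶜ))) :
    ∃ n : ℕ, n ≠ 0 ∧ ∀ y : Y, ∃ c : Chart f L n, y ∈ c.U.1 := by
  choose U hyU t htnzd ht using hL
  have hN := fun y => exists_setup f L W hW hiso (U y) (t y) (ht y) hdense (htnzd y)
  choose N hN using hN
  obtain ⟨s, hs⟩ := CompactSpace.elim_nhds_subcover (fun y => ((U y).1 : Set Y))
    (fun y => (U y).1.2.mem_nhds (hyU y))
  refine ⟨s.sup N + 1, Nat.succ_ne_zero _, fun y => ?_⟩
  have hy : y ∈ ⋃ x ∈ s, ((U x).1 : Set Y) := hs ▸ Set.mem_univ y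
  simp only [Set.mem_iUnion] at hy
  obtain ⟨x, hxs, hyx⟩ := hy
  exact ⟨⟨U x, t x, ht x, htnzd x, hN x _ ((Finset.le_sup hxs).trans (Nat.le_succ _))⟩, hyx⟩

end Groth.Agent.Lib.Helper69.FinBirChart
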