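import Groth.Agent.Lib.Helper69.FinBirChart

/-!
# Finite birational morphisms: the ideal sheaf `I = f_*((L O_X)^n) ∩ O_Y` (helper69)
-/

set_option autoImplicit false
set_option linter.style.haveILetI false
universe u

open CategoryTheory CategoryTheory.Limits AlgebraicGeometry Opposite TopologicalSpace

namespace Groth.Agent.Lib.Helper69.FinBirIdeal

open Groth.Agent.Lib.Helper69.FinBirLift Groth.Agent.Lib.Helper69.FinBirChart

variable {X Y : Scheme.{u}} (f : X ⟶ Y) (L : Y.IdealSheafData)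

/-- the centre of the blow up -/
noncomputable def idealI (n : ℕ) : Y.IdealSheafData := ((L.comap f) ^ n).map f

variable {f L} {n : ℕ}

theorem ideal_idealI [IsAffineHom f] (c : Chart f L n) :
    (idealI f L n).ideal c.U = idl (f.app c.U.1).hom c.t n := by
  rw [idealI, Scheme.IdealSheafData.ideal_map_of_isAffineHom, Scheme.IdealSheafData.ideal_pow,
    Pi.pow_apply, Groth.Agent.Lib.Helper20.ideal_comap f L ⟨_, c.U.2.preimage f⟩ c.U le_rfl,
    Scheme.Hom.appLE_eq_app, c.ht, Ideal.map_span, Set.image_singleton, Ideal.span_singleton_pow]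
  rfl

/-- the inverse image of `I` on `X` is effective Cartier -/
theorem isEffCartierIdeal_comap [IsAffineHom f] (hc : ∀ y : Y, ∃ c : Chart f L n, y ∈ c.U.1) :
    BlowUp.IsEffCartierIdeal ((idealI f L n).comap f) := by
  intro x
  obtain ⟨c, hxc⟩ := hc (f.base x)
  refine ⟨⟨f ⁻¹ᵁ c.U.1, c.U.2.preimage f⟩, hxc, (f.app c.U.1).hom c.t ^ n,
    pow_mem c.setup.nzd n, ?_⟩
  rw [Groth.Agent.Lib.Helper20.ideal_comap f _ ⟨_, c.U.2.preimage f⟩ c.U le_rfl,
    Scheme.Hom.appLE_eq_app, ideal_idealI c, map_idl]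

/-- `I` and `L` have the same support -/
theorem support_idealI [IsAffineHom f] (hn : n ≠ 0)
    (hc : ∀ y : Y, ∃ c : Chart f L n, y ∈ c.U.1) :
    (idealI f L n).support = L.support := by
  ext y
  obtain ⟨c, hyc⟩ := hc y
  rw [SetLike.mem_coe, SetLike.mem_coe,
    Scheme.IdealSheafData.mem_support_iff_of_mem (U := c.U) hyc,
    Scheme.IdealSheafData.mem_support_iff_of_mem (U := c.U) hyc, ideal_idealI c, c.ht,
    Scheme.mem_zeroLocus_iff, Scheme.mem_zeroLocus_iff]
  constructor
  · intro h a ha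
    rw [SetLike.mem_coe, Ideal.mem_span_singleton'] at ha
    obtain ⟨r, rfl⟩ := ha
    intro hy
    rw [Scheme.basicOpen_mul] at hy
    have h1 := h (c.t ^ n) pow_mem_idl
    rw [Scheme.basicOpen_pow _ _ (Nat.pos_of_ne_zero hn)] at h1
    exact h1 hy.2
  · intro h a ha hy
    obtain ⟨m, r, hr⟩ : ∃ (m : ℕ) (r : Γ(Y, c.U.1)), a ^ m = r * c.t := by
      obtain ⟨m, hm⟩ := idl_le_radical c.setup hn ha
      obtain ⟨r, hr⟩ := Ideal.mem_span_singleton'.mp hm
      exact ⟨m, r, hr.symm⟩
    have hm0 : m ≠ 0 := by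
      rintro rfl
      rw [pow_zero] at hr
      have h1 := h c.t (Ideal.mem_span_singleton_self c.t)
      apply h1
      have : IsUnit c.t := IsUnit.of_mul_eq_one r (by rw [mul_comm]; exact hr.symm)
      rw [Scheme.basicOpen_of_isUnit _ this]
      exact hyc
    have h2 : y ∈ Y.basicOpen (a ^ m) := by
      rw [Scheme.basicOpen_pow _ _ (Nat.pos_of_ne_zero hm0)]
      exact hy
    rw [hr, Scheme.basicOpen_mul] at h2
    exact h c.t (Ideal.mem_span_singleton_self c.t) h2.2

end Groth.Agent.Lib.Helper69.FinBirIdeal
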