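import Mathlib

/-!
# Ring-level lifting lemma for finite birational extensions (helper69)

`ι : A → B` injective and integral, `t : A` with `ι t` a nonzerodivisor of `B` and `t ^ n B ⊆ ι A`.
Put `I = ι⁻¹ (t ^ n B)`.  If `φ : A → C` is such that `φ(I) C = (c)` with `c` a nonzerodivisor, then
`φ` extends uniquely to `B` (the universal property of the blow up of `I`, affine-locally).
-/

set_option autoImplicit false
universe u

namespace Groth.Agent.Lib.Helper69.FinBirLift

open Polynomial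

/-- `eval y (scaleRoots q x) = 0` with `q` monic implies `y ^ deg q ∈ (x)`. -/
theorem pow_mem_span_of_eval_scaleRoots {R : Type*} [CommRing R] (q : R[X]) (hq : q.Monic)
    (x y : R) (h : (q.scaleRoots x).eval y = 0) : y ^ q.natDegree ∈ Ideal.span {x} := by
  rw [eval_eq_sum_range, natDegree_scaleRoots, Finset.sum_range_succ] at h
  have h1 : (q.scaleRoots x).coeff q.natDegree * y ^ q.natDegree = y ^ q.natDegree := by
    rw [coeff_scaleRoots, Nat.sub_self, pow_zero, mul_one, hq.coeff_natDegree, one_mul]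
  rw [h1] at h
  have h2 : y ^ q.natDegree = -∑ i ∈ Finset.range q.natDegree, (q.scaleRoots x).coeff i * y ^ i :=
    eq_neg_of_add_eq_zero_right h
  rw [h2]
  refine neg_mem (Ideal.sum_mem _ fun i hi => ?_)
  rw [coeff_scaleRoots]
  have hi' : i < q.natDegree := Finset.mem_range.mp hi
  obtain ⟨k, hk⟩ : ∃ k, q.natDegree - i = k + 1 := ⟨q.natDegree - i - 1, by omega⟩
  rw [hk, pow_succ]
  have : q.coeff i * (x ^ k * x) * y ^ i = (q.coeff i * x ^ k * y ^ i) * x := by ring
  rw [this]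
  exact Ideal.mul_mem_left _ _ (Ideal.mem_span_singleton_self x)

/-- `eval (c * y) (scaleRoots q (c * x)) = c ^ deg q * eval y (scaleRoots q x)` -/
theorem eval_mul_scaleRoots_mul {R : Type*} [CommRing R] (q : R[X]) (c x y : R) :
    (q.scaleRoots (c * x)).eval (c * y) = c ^ q.natDegree * (q.scaleRoots x).eval y := by
  rw [eval_eq_sum_range, eval_eq_sum_range, natDegree_scaleRoots, natDegree_scaleRoots,
    Finset.mul_sum]
  refine Finset.sum_congr rfl fun i hi => ?_
  have hi' : i ≤ q.natDegree := Nat.lt_succ_iff.mp (Finset.mem_range.mp hi)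
  rw [coeff_scaleRoots, coeff_scaleRoots, mul_pow, mul_pow]
  have : c ^ q.natDegree = c ^ (q.natDegree - i) * c ^ i := by
    rw [← pow_add, Nat.sub_add_cancel hi']
  rw [this]
  ring

variable {A B C : Type u} [CommRing A] [CommRing B] [CommRing C]

/-- the standing hypotheses -/
structure Setup (ι : A →+* B) (t : A) (n : ℕ) : Prop where
  inj : Function.Injective ι
  int : ι.IsIntegral
  nzd : ι t ∈ nonZeroDivisors B
  ex : ∀ b : B, ∃ a : A, ι a = ι t ^ n * b

variable {ι : A →+* B} {t : A} {n : ℕ}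

/-- the ideal `I = ι⁻¹(tⁿ B)` -/
def idl (ι : A →+* B) (t : A) (n : ℕ) : Ideal A := Ideal.comap ι (Ideal.span {ι t ^ n})

theorem mem_idl {a : A} : a ∈ idl ι t n ↔ ∃ b : B, ι a = ι t ^ n * b := by
  rw [idl, Ideal.mem_comap, Ideal.mem_span_singleton']
  constructor
  · rintro ⟨b, hb⟩
    exact ⟨b, by rw [← hb, mul_comm]⟩
  · rintro ⟨b, hb⟩
    exact ⟨b, by rw [hb, mul_comm]⟩

theorem pow_mem_idl : t ^ n ∈ idl ι t n := mem_idl.mpr ⟨1, by rw [map_pow, mul_one]⟩

theorem map_idl : (idl ι t n).map ι = Ideal.span {ι t ^ n} := by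
  apply le_antisymm
  · exact Ideal.map_comap_le
  · rw [Ideal.span_singleton_le_iff_mem]
    have : ι t ^ n = ι (t ^ n) := (map_pow _ _ _).symm
    rw [this]
    exact Ideal.mem_map_of_mem _ pow_mem_idl

/-- elements of `I` are integral over the ideal `(tⁿ)`: a power lies in `(tⁿ)`. -/
theorem exists_pow_mem_span (h : Setup ι t n) {a : A} (ha : a ∈ idl ι t n) :
    ∃ m : ℕ, a ^ m ∈ Ideal.span {t ^ n} := by
  obtain ⟨b, hb⟩ := mem_idl.mp ha
  obtain ⟨p, hp, hpb⟩ := h.int b
  refine ⟨p.natDegree, pow_mem_span_of_eval_scaleRoots p hp (t ^ n) a (h.inj ?_)⟩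
  rw [map_zero, ← eval₂_hom, hb, ← map_pow]
  exact scaleRoots_eval₂_mul_of_commute ι _ _ (Commute.all _ _) (fun _ _ => Commute.all _ _) ▸ by
    rw [hpb, mul_zero]

theorem idl_le_radical (h : Setup ι t n) (hn : n ≠ 0) : idl ι t n ≤ (Ideal.span {t}).radical := by
  intro a ha
  obtain ⟨m, hm⟩ := exists_pow_mem_span h ha
  refine ⟨m, ?_⟩
  have : Ideal.span {t ^ n} ≤ Ideal.span {t} := by
    rw [Ideal.span_singleton_le_iff_mem]
    obtain ⟨k, rfl⟩ := Nat.exists_eq_succ_of_ne_zero hn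
    rw [pow_succ]
    exact Ideal.mul_mem_left _ _ (Ideal.mem_span_singleton_self t)
  exact this hm

/-- for `b : B` with `ι x = tⁿ b` and `φ x = c g`, `φ (tⁿ) = c g₁`: a power of `g` lies in `(g₁)`. -/
theorem exists_pow_mem_span_of_eq (h : Setup ι t n) (φ : A →+* C) {c : C}
    (hc : c ∈ nonZeroDivisors C) {x : A} {b : B} (hx : ι x = ι t ^ n * b) {g g₁ : C}
    (hg : φ x = c * g) (hg₁ : φ (t ^ n) = c * g₁) : ∃ m : ℕ, g ^ m ∈ Ideal.span {g₁} := by
  rcases subsingleton_or_nontrivial C with hC | hC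
  · refine ⟨0, ?_⟩
    rw [Subsingleton.elim (g ^ 0) g₁]
    exact Ideal.mem_span_singleton_self g₁
  obtain ⟨p, hp, hpb⟩ := h.int b
  have h0 : ((p.scaleRoots (t ^ n)).eval x) = 0 := by
    apply h.inj
    rw [map_zero, ← eval₂_hom, hx, ← map_pow, scaleRoots_eval₂_mul, hpb, mul_zero]
  have h1 : ((p.map φ).scaleRoots (φ (t ^ n))).eval (φ x) = 0 := by
    rw [← map_scaleRoots p (t ^ n) φ (by rw [hp.leadingCoeff, map_one]; exact one_ne_zero),
      eval_map, eval₂_hom, h0, map_zero]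
  rw [hg, hg₁, eval_mul_scaleRoots_mul] at h1
  have h2 : ((p.map φ).scaleRoots g₁).eval g = 0 := by
    have h3 : c ^ (p.map φ).natDegree ∈ nonZeroDivisors C := pow_mem hc _
    exact (mul_cancel_left_mem_nonZeroDivisors h3).mp (by rw [h1, mul_zero])
  exact ⟨_, pow_mem_span_of_eval_scaleRoots _ (hp.map φ) g₁ g h2⟩

/-- **the lifting lemma** -/
theorem existsUnique_lift (h : Setup ι t n) (φ : A →+* C) (c : C) (hc : c ∈ nonZeroDivisors C)
    (hI : (idl ι t n).map φ = Ideal.span {c}) : ∃! ψ : B →+* C, ψ.comp ι = φ := by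
  classical
  have hcancel : ∀ {x y : C}, c * x = c * y → x = y := fun hxy =>
    (mul_cancel_left_mem_nonZeroDivisors hc).mp hxy
  have hBcancel : ∀ {x y : B}, ι t ^ n * x = ι t ^ n * y → x = y := fun hxy =>
    (mul_cancel_left_mem_nonZeroDivisors (pow_mem h.nzd n)).mp hxy
  choose a ha using h.ex
  have ha_mem : ∀ b, a b ∈ idl ι t n := fun b => mem_idl.mpr ⟨b, ha b⟩
  have hγ : ∀ b, ∃ g : C, φ (a b) = c * g := by
    intro b
    have h1 : φ (a b) ∈ Ideal.span {c} := hI ▸ Ideal.mem_map_of_mem φ (ha_mem b)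
    obtain ⟨g, hg⟩ := Ideal.mem_span_singleton'.mp h1
    exact ⟨g, by rw [← hg, mul_comm]⟩
  choose γ hγ using hγ
  -- properties of `a`
  have a_one : a 1 = t ^ n := h.inj (by rw [ha, mul_one, map_pow])
  have a_add : ∀ b b', a (b + b') = a b + a b' := fun b b' =>
    h.inj (by rw [map_add, ha, ha, ha, mul_add])
  have a_mul : ∀ b b', a (b * b') * t ^ n = a b * a b' := fun b b' =>
    h.inj (by rw [map_mul, map_mul, ha, ha, ha, map_pow]; ring)
  have a_ι : ∀ x, a (ι x) = t ^ n * x := fun x => h.inj (by rw [ha, map_mul, map_pow])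
  -- properties of `γ`
  have hγ₁ : φ (t ^ n) = c * γ 1 := by rw [← a_one]; exact hγ 1
  have γ_add : ∀ b b', γ (b + b') = γ b + γ b' := fun b b' =>
    hcancel (by rw [← hγ, a_add, map_add, hγ, hγ, mul_add])
  have γ_mul : ∀ b b', γ (b * b') * γ 1 = γ b * γ b' := fun b b' => by
    apply hcancel
    apply hcancel
    have := congrArg φ (a_mul b b')
    rw [map_mul, map_mul, hγ, hγ, hγ, hγ₁] at this
    calc c * (c * (γ (b * b') * γ 1)) = c * γ (b * b') * (c * γ 1) := by ring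
      _ = c * γ b * (c * γ b') := this
      _ = c * (c * (γ b * γ b')) := by ring
  have γ_ι : ∀ x, γ (ι x) = γ 1 * φ x := fun x =>
    hcancel (by rw [← hγ, a_ι, map_mul, hγ₁]; ring)
  -- `γ 1` is a unit
  have hunit : IsUnit (γ 1) := by
    by_contra hnu
    obtain ⟨𝔭, h𝔭max, h𝔭⟩ := exists_max_ideal_of_mem_nonunits hnu
    have h𝔭prime := h𝔭max.isPrime
    have h1 : (idl ι t n).map φ ≤ Ideal.span {c} * 𝔭 := by
      rw [Ideal.map_le_iff_le_comap]
      intro x hx
      obtain ⟨b, hb⟩ := mem_idl.mp hx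
      obtain ⟨g, hg⟩ : ∃ g : C, φ x = c * g := by
        have h1 : φ x ∈ Ideal.span {c} := hI ▸ Ideal.mem_map_of_mem φ hx
        obtain ⟨g, hg⟩ := Ideal.mem_span_singleton'.mp h1
        exact ⟨g, by rw [← hg, mul_comm]⟩
      obtain ⟨m, hm⟩ := exists_pow_mem_span_of_eq h φ hc hb hg hγ₁
      have hg𝔭 : g ∈ 𝔭 := by
        refine h𝔭prime.mem_of_pow_mem m ?_
        exact ((Ideal.span_singleton_le_iff_mem (I := 𝔭)).mpr h𝔭) hm
      rw [Ideal.mem_comap, hg]
      exact Ideal.mul_mem_mul (Ideal.mem_span_singleton_self c) hg𝔭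
    rw [hI] at h1
    have h2 : c ∈ Ideal.span {c} * 𝔭 := h1 (Ideal.mem_span_singleton_self c)
    obtain ⟨g, hg𝔭, hg⟩ := Ideal.mem_span_singleton_mul.mp h2
    have h3 : g = 1 := hcancel (by rw [hg, mul_one])
    rw [h3] at hg𝔭
    exact h𝔭prime.ne_top ((Ideal.eq_top_iff_one _).mpr hg𝔭)
  obtain ⟨u, hu⟩ := hunit
  have hu1 : γ 1 * ↑u⁻¹ = 1 := by rw [← hu]; exact u.mul_inv
  let ψ : B →+* C :=
    { toFun := fun b => γ b * ↑u⁻¹
      map_one' := hu1
      map_mul' := fun b b' => by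
        have := γ_mul b b'
        calc γ (b * b') * ↑u⁻¹ = γ (b * b') * γ 1 * ↑u⁻¹ * ↑u⁻¹ := by
              rw [mul_assoc (γ (b * b')) (γ 1), hu1, mul_one]
          _ = γ b * ↑u⁻¹ * (γ b' * ↑u⁻¹) := by rw [this]; ring
      map_zero' := by
        have : γ 0 = 0 := by
          have := γ_add 0 0
          rw [add_zero] at this
          exact left_eq_add.mp this
        rw [this, zero_mul]
      map_add' := fun b b' => by rw [γ_add, add_mul] }
  refine ⟨ψ, ?_, fun ψ' hψ' => ?_⟩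
  · ext x
    show γ (ι x) * ↑u⁻¹ = φ x
    rw [γ_ι, mul_comm (γ 1), mul_assoc, hu1, mul_one]
  · ext b
    show ψ' b = γ b * ↑u⁻¹
    have h1 : ψ' b * (c * γ 1) = c * γ b := by
      rw [← hγ₁, ← hψ', RingHom.comp_apply, ← map_mul, ← hγ, ← hψ', RingHom.comp_apply]
      congr 1
      rw [ha, map_pow, mul_comm]
    have h2 : ψ' b * γ 1 = γ b := hcancel (by rw [← h1]; ring)
    rw [← h2, mul_assoc, hu1, mul_one]

end Groth.Agent.Lib.Helper69.FinBirLift
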