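import Groth.Agent.Lib.Helper69.FinBirIdeal

/-!
# Finite birational morphisms: the universal property of the blow up (helper69)
-/

set_option autoImplicit false
set_option linter.style.haveILetI false
universe u

open CategoryTheory CategoryTheory.Limits AlgebraicGeometry Opposite TopologicalSpace

namespace Groth.Agent.Lib.Helper69.FinBirUP

open Groth.Agent.Lib.Helper69.FinBirLift Groth.Agent.Lib.Helper69.FinBirChart
  Groth.Agent.Lib.Helper69.FinBirIdeal Groth.Agent.Lib.BlowUp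

variable {X Y Z : Scheme.{u}} {f : X ⟶ Y} {L : Y.IdealSheafData} {n : ℕ}

/-- morphisms agreeing on sections into an affine open agree -/
theorem ι_comp_eq_of_appLE_eq (h₁ h₂ : Z ⟶ X) {V : X.Opens} (hV : IsAffineOpen V) {W : Z.Opens}
    (hW : IsAffineOpen W) (e₁ : W ≤ h₁ ⁻¹ᵁ V) (e₂ : W ≤ h₂ ⁻¹ᵁ V)
    (h : h₁.appLE V W e₁ = h₂.appLE V W e₂) : W.ι ≫ h₁ = W.ι ≫ h₂ := by
  rw [← hW.isoSpec_hom_fromSpec, Category.assoc, Category.assoc,
    ← hV.SpecMap_appLE_fromSpec h₁ hW e₁, ← hV.SpecMap_appLE_fromSpec h₂ hW e₂, h]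

/-- ring-level: unique extension on a good pair -/
theorem existsUnique_ringHom [IsAffineHom f] (g : Z ⟶ Y) (c : Chart f L n) (W : Z.affineOpens)
    (e : W.1 ≤ g ⁻¹ᵁ c.U.1) (s : Γ(Z, W.1)) (hs : s ∈ nonZeroDivisors Γ(Z, W.1))
    (hsI : ((idealI f L n).comap g).ideal W = Ideal.span {s}) :
    ∃! ψ : Γ(X, f ⁻¹ᵁ c.U.1) →+* Γ(Z, W.1),
      ψ.comp (f.app c.U.1).hom = (g.appLE c.U.1 W.1 e).hom :=
  existsUnique_lift c.setup _ s hs (by
    rw [← ideal_idealI c, ← Groth.Agent.Lib.Helper20.ideal_comap g _ W c.U e, hsI])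

/-- uniqueness of lifts -/
theorem hom_ext_of_comp_eq [IsAffineHom f] (hc : ∀ y : Y, ∃ c : Chart f L n, y ∈ c.U.1)
    (g : Z ⟶ Y) (hg : BlowUp.IsEffCartierIdeal ((idealI f L n).comap g)) (h₁ h₂ : Z ⟶ X)
    (e₁ : h₁ ≫ f = g) (e₂ : h₂ ≫ f = g) : h₁ = h₂ := by
  refine Scheme.hom_ext_of_forall _ _ fun z => ?_
  obtain ⟨c, hzc⟩ := hc (g.base z)
  obtain ⟨W, hzW, hWle, s, hs, hsI⟩ := exists_le_of_isEffCartierIdeal hg z (g ⁻¹ᵁ c.U.1) hzc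
  refine ⟨W.1, hzW, ?_⟩
  have hV := c.U.2.preimage f
  have le₁ : W.1 ≤ h₁ ⁻¹ᵁ (f ⁻¹ᵁ c.U.1) := by
    rw [← Scheme.Hom.comp_preimage, e₁]; exact hWle
  have le₂ : W.1 ≤ h₂ ⁻¹ᵁ (f ⁻¹ᵁ c.U.1) := by
    rw [← Scheme.Hom.comp_preimage, e₂]; exact hWle
  apply ι_comp_eq_of_appLE_eq h₁ h₂ hV W.2 le₁ le₂
  obtain ⟨ψ, -, huniq⟩ := existsUnique_ringHom g c W hWle s hs hsI
  have k₁ : (h₁.appLE _ _ le₁).hom.comp (f.app c.U.1).hom = (g.appLE c.U.1 W.1 hWle).hom := by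
    subst e₁
    rw [Scheme.Hom.comp_appLE]
    rfl
  have k₂ : (h₂.appLE _ _ le₂).hom.comp (f.app c.U.1).hom = (g.appLE c.U.1 W.1 hWle).hom := by
    subst e₂
    rw [Scheme.Hom.comp_appLE]
    rfl
  exact CommRingCat.hom_ext ((huniq _ k₁).trans (huniq _ k₂).symm)

/-- local existence of lifts -/
theorem exists_local_lift [IsAffineHom f] (hc : ∀ y : Y, ∃ c : Chart f L n, y ∈ c.U.1)
    (g : Z ⟶ Y) (hg : BlowUp.IsEffCartierIdeal ((idealI f L n).comap g)) (z : Z) :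
    ∃ (W : Z.Opens) (_ : z ∈ W) (h : W.toScheme ⟶ X), h ≫ f = W.ι ≫ g := by
  obtain ⟨c, hzc⟩ := hc (g.base z)
  obtain ⟨W, hzW, hWle, s, hs, hsI⟩ := exists_le_of_isEffCartierIdeal hg z (g ⁻¹ᵁ c.U.1) hzc
  obtain ⟨ψ, hψ, -⟩ := existsUnique_ringHom g c W hWle s hs hsI
  have hV := c.U.2.preimage f
  refine ⟨W.1, hzW, W.2.isoSpec.hom ≫ Spec.map (CommRingCat.ofHom ψ) ≫ hV.fromSpec, ?_⟩
  have h1 : hV.fromSpec ≫ f = Spec.map (f.app c.U.1) ≫ c.U.2.fromSpec := by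
    rw [← c.U.2.SpecMap_appLE_fromSpec f hV le_rfl, Scheme.Hom.appLE_eq_app]
  have h2 : f.app c.U.1 ≫ CommRingCat.ofHom ψ = g.appLE c.U.1 W.1 hWle :=
    CommRingCat.hom_ext hψ
  rw [Category.assoc, Category.assoc, h1, ← Spec.map_comp_assoc, h2,
    c.U.2.SpecMap_appLE_fromSpec g W.2 hWle, W.2.isoSpec_hom_fromSpec_assoc]

/-- **the universal property** -/
theorem existsUnique_lift_hom [IsAffineHom f] (hc : ∀ y : Y, ∃ c : Chart f L n, y ∈ c.U.1)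
    (g : Z ⟶ Y) (hg : BlowUp.IsEffCartierIdeal ((idealI f L n).comap g)) :
    ∃! h : Z ⟶ X, h ≫ f = g := by
  choose W hzW h hh using exists_local_lift hc g hg
  have hcov : IsOpenCover W := by
    rw [IsOpenCover, eq_top_iff]
    intro z _
    exact Opens.mem_iSup.mpr ⟨z, hzW z⟩
  let 𝒰 : Z.OpenCover := Z.openCoverOfIsOpenCover W hcov
  let h' : ∀ x : 𝒰.I₀, 𝒰.X x ⟶ X := h
  have hh' : ∀ x : 𝒰.I₀, h' x ≫ f = 𝒰.f x ≫ g := hh
  have hcompat : ∀ x y : 𝒰.I₀, pullback.fst (𝒰.f x) (𝒰.f y) ≫ h' x =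
      pullback.snd _ _ ≫ h' y := by
    intro x y
    refine hom_ext_of_comp_eq hc (pullback.fst (𝒰.f x) (𝒰.f y) ≫ 𝒰.f x ≫ g) ?_ _ _ ?_ ?_
    · rw [← Category.assoc, Scheme.IdealSheafData.comap_comp]
      exact isEffCartierIdeal_comap_of_flat _ _ hg
    · rw [Category.assoc, hh']
    · rw [Category.assoc, hh']
      exact (pullback.condition_assoc (f := 𝒰.f x) (g := 𝒰.f y) g).symm
  refine ⟨𝒰.glueMorphisms h' hcompat, ?_, fun k hk => ?_⟩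
  · refine Scheme.Cover.hom_ext 𝒰 _ _ fun x => ?_
    rw [Scheme.Cover.ι_glueMorphisms_assoc]
    exact hh' x
  · refine hom_ext_of_comp_eq hc g hg _ _ hk ?_
    refine Scheme.Cover.hom_ext 𝒰 _ _ fun x => ?_
    rw [Scheme.Cover.ι_glueMorphisms_assoc]
    exact hh' x

/-- **`f` is a blowing up of `I`** -/
theorem isBlowUp [IsAffineHom f] (hc : ∀ y : Y, ∃ c : Chart f L n, y ∈ c.U.1) :
    BlowUp.IsBlowUp f (idealI f L n) :=
  ⟨isEffCartierIdeal_comap hc, fun _ g hg => existsUnique_lift_hom hc g hg⟩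

end Groth.Agent.Lib.Helper69.FinBirUP
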