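import Groth.Agent.Lib.Helper69.ClosedPtLN
import Groth.Agent.Lib.Helper96.GRingLocalCrit
import Groth.Agent.Lib.Helper69.GRingLocal

/-! # G-schemes can be tested at closed points (helper69) -/

set_option autoImplicit false
set_option linter.style.haveILetI false

universe u

open CategoryTheory AlgebraicGeometry TopologicalSpace IsLocalRing

noncomputable section

namespace Groth.Agent.Lib.Helper69.GSchemeClosed

open Groth.Agent.Lib.Helper96 Groth.Agent.Lib.Helper96.GRingLocalCrit

/-- regularity of the completion map passes to localizations at smaller primes. -/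
theorem regular_of_le (R : Type u) [CommRing R] [IsNoetherianRing R] (p m : Ideal R)
    [hp : p.IsPrime] [hm : m.IsPrime] (hpm : p ≤ m)
    (H : CAlg.IsRegularHom (Localization.AtPrime m)
      (AdicCompletion (maximalIdeal (Localization.AtPrime m)) (Localization.AtPrime m))) :
    CAlg.IsRegularHom (Localization.AtPrime p)
      (AdicCompletion (maximalIdeal (Localization.AtPrime p)) (Localization.AtPrime p)) := by
  classical
  haveI : IsNoetherianRing (Localization.AtPrime m) :=
    IsLocalization.isNoetherianRing m.primeCompl _ inferInstance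
  have hG := isGRing_of_isRegularHom_adicCompletion (Localization.AtPrime m) H
  set 𝔭 : Ideal (Localization.AtPrime m) := p.map (algebraMap R (Localization.AtPrime m)) with h𝔭
  have hdisj : Disjoint (m.primeCompl : Set R) (p : Set R) := by
    rw [Set.disjoint_left]
    intro x hx hxp
    exact hx (hpm hxp)
  haveI h𝔭prime : 𝔭.IsPrime :=
    IsLocalization.isPrime_of_isPrime_disjoint m.primeCompl _ p hp hdisj
  have hcomap : 𝔭.comap (algebraMap R (Localization.AtPrime m)) = p :=
    IsLocalization.under_map_of_isPrime_disjoint m.primeCompl _ hp hdisj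
  have key : ∀ (q : Ideal R) (hq : q.IsPrime), q = p →
      @IsLocalization.AtPrime _ _ (Localization.AtPrime 𝔭) _ _ q hq →
        IsLocalization.AtPrime (Localization.AtPrime 𝔭) p := by
    rintro q hq rfl h
    exact h
  haveI hloc2 : IsLocalization.AtPrime (Localization.AtPrime 𝔭) p :=
    key _ _ hcomap (IsLocalization.isLocalization_isLocalization_atPrime_isLocalization
      m.primeCompl (Localization.AtPrime 𝔭) 𝔭)
  have e : Localization.AtPrime p ≃ₐ[R] Localization.AtPrime 𝔭 :=
    IsLocalization.algEquiv p.primeCompl _ _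
  exact Groth.Agent.Lib.Helper69.GRingLocal.regular_completion_of_ringEquiv e.symm.toRingEquiv
    (hG.2 𝔭)

/-- the stalk at a point of an affine open as a localization. -/
def stalkEquiv {X : Scheme.{u}} {U : X.Opens} (hU : IsAffineOpen U) (x : X) (hx : x ∈ U) :
    Localization.AtPrime (hU.primeIdealOf ⟨x, hx⟩).asIdeal ≃+* X.presheaf.stalk x :=
  letI : Algebra Γ(X, U) (X.presheaf.stalk x) :=
    TopCat.Presheaf.algebra_section_stalk X.presheaf ⟨x, hx⟩
  haveI : IsLocalization.AtPrime (X.presheaf.stalk x) (hU.primeIdealOf ⟨x, hx⟩).asIdeal :=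
    hU.isLocalization_stalk ⟨x, hx⟩
  (IsLocalization.algEquiv (hU.primeIdealOf ⟨x, hx⟩).asIdeal.primeCompl
    (Localization.AtPrime (hU.primeIdealOf ⟨x, hx⟩).asIdeal) (X.presheaf.stalk x)).toRingEquiv

theorem main (X : Scheme.{u}) :
    (∀ x : X, ∃ U : X.Opens, x ∈ U ∧ IsAffineOpen U ∧ CAlg.IsGRing Γ(X, U)) ↔
      IsLocallyNoetherian X ∧ ∀ x : X, IsClosed ({x} : Set X) →
        CAlg.IsRegularHom (X.presheaf.stalk x)
          (AdicCompletion (IsLocalRing.maximalIdeal (X.presheaf.stalk x)) (X.presheaf.stalk x)) := by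
  constructor
  · intro h
    choose V hxV hV hG using h
    have hLN : IsLocallyNoetherian X := by
      refine isLocallyNoetherian_of_affine_cover (S := fun x : X => ⟨V x, hV x⟩) ?_
        (fun x => (hG x).1)
      rw [eq_top_iff]
      intro x _
      exact TopologicalSpace.Opens.mem_iSup.2 ⟨x, hxV x⟩
    refine ⟨hLN, fun x _ => ?_⟩
    exact Groth.Agent.Lib.Helper69.GRingLocal.regular_completion_of_ringEquiv
      (stalkEquiv (hV x) x (hxV x)) ((hG x).2 _)
  · rintro ⟨hLN, hreg⟩ x
    obtain ⟨_, ⟨U, hU, rfl⟩, hxU, -⟩ := X.isBasis_affineOpens.exists_subset_of_mem_open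
      (Set.mem_univ x) isOpen_univ
    have hU' : IsAffineOpen U := hU
    refine ⟨U, hxU, hU', IsLocallyNoetherian.component_noetherian ⟨U, hU⟩, fun 𝔭 h𝔭 => ?_⟩
    let P : PrimeSpectrum Γ(X, U) := ⟨𝔭, h𝔭⟩
    set y : X := hU'.fromSpec P with hy
    have hyU : y ∈ U := by
      have : y ∈ Set.range hU'.fromSpec := ⟨P, rfl⟩
      rw [hU'.range_fromSpec] at this
      exact this
    have hPy : hU'.primeIdealOf ⟨y, hyU⟩ = P :=
      hU'.fromSpec.isOpenEmbedding.injective (hU'.fromSpec_primeIdealOf ⟨y, hyU⟩)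
    obtain ⟨z, hyz, hzcl⟩ := ClosedPtLN.exists_isClosed_specializes y
    obtain ⟨_, ⟨V, hV, rfl⟩, hzV, -⟩ := X.isBasis_affineOpens.exists_subset_of_mem_open
      (Set.mem_univ z) isOpen_univ
    have hV' : IsAffineOpen V := hV
    have hyV : y ∈ V := hyz.mem_open V.2 hzV
    have hN : IsNoetherianRing Γ(X, V) := IsLocallyNoetherian.component_noetherian ⟨V, hV⟩
    have hle : hV'.primeIdealOf ⟨y, hyV⟩ ≤ hV'.primeIdealOf ⟨z, hzV⟩ := by
      rw [PrimeSpectrum.le_iff_specializes]
      refine (hV'.fromSpec.isOpenEmbedding.isInducing.specializes_iff).mp ?_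
      rw [hV'.fromSpec_primeIdealOf ⟨y, hyV⟩, hV'.fromSpec_primeIdealOf ⟨z, hzV⟩]
      exact hyz
    have h1 := Groth.Agent.Lib.Helper69.GRingLocal.regular_completion_of_ringEquiv
      (stalkEquiv hV' z hzV).symm (hreg z hzcl)
    have h2 := regular_of_le Γ(X, V) (hV'.primeIdealOf ⟨y, hyV⟩).asIdeal
      (hV'.primeIdealOf ⟨z, hzV⟩).asIdeal hle h1
    have h3 := Groth.Agent.Lib.Helper69.GRingLocal.regular_completion_of_ringEquiv
      (stalkEquiv hV' y hyV) h2
    have h4 := Groth.Agent.Lib.Helper69.GRingLocal.regular_completion_of_ringEquiv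
      (stalkEquiv hU' y hyU).symm h3
    have key : ∀ (Q : PrimeSpectrum Γ(X, U)), Q = P →
        CAlg.IsRegularHom (Localization.AtPrime Q.asIdeal)
          (AdicCompletion (maximalIdeal (Localization.AtPrime Q.asIdeal))
            (Localization.AtPrime Q.asIdeal)) →
        CAlg.IsRegularHom (Localization.AtPrime 𝔭)
          (AdicCompletion (maximalIdeal (Localization.AtPrime 𝔭)) (Localization.AtPrime 𝔭)) := by
      rintro Q rfl h
      exact h
    exact key _ hPy h4

end Groth.Agent.Lib.Helper69.GSchemeClosed
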