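import Groth.Agent.Lib.Helper69.GURad
import Groth.Agent.Lib.Helper69.RadComp

/-!
# EGA IV 6.15.5 at ring level (helper69)

`R → S` integral and "birational" (`BirR`): `R_p` is geometrically unibranch iff `Spec S → Spec R` is radicial
at `p` and `S_q` is geometrically unibranch for the primes `q` over `p`.
-/

set_option autoImplicit false
set_option linter.style.haveILetI false
set_option linter.unusedSectionVars false
set_option backward.isDefEq.respectTransparency.types false
universe u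

namespace Groth.Agent.Lib.Helper69.GUBirat

open IsLocalRing AlgebraicGeometry CategoryTheory
open Groth.Agent.Lib.Helper69 Groth.Agent.Lib.Helper69.RadComp

/-- ring-level birationality data for `R → S`. -/
structure BirR (R S : Type u) [CommRing R] [CommRing S] [Algebra R S] : Prop where
  comap_mem : ∀ Q ∈ minimalPrimes S, Q.comap (algebraMap R S) ∈ minimalPrimes R
  exists_over : ∀ P ∈ minimalPrimes R, ∃ Q ∈ minimalPrimes S, Q.comap (algebraMap R S) = P ∧
      (∀ Q' : Ideal S, Q'.IsPrime → Q'.comap (algebraMap R S) = P → Q' = Q) ∧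
      ∀ s : S, ∃ a b : R, b ∉ P ∧ algebraMap R S b * s - algebraMap R S a ∈ Q

variable {R S : Type u} [CommRing R] [CommRing S] [Algebra R S] [Algebra.IsIntegral R S]

theorem surjective_specMap_of_injective {E T : Type u} [CommRing E] [CommRing T] [Algebra E T]
    [Algebra.IsIntegral E T] (hinj : Function.Injective (algebraMap E T)) :
    Surjective (Spec.map (CommRingCat.ofHom (algebraMap E T))) := by
  refine ⟨fun z => ?_⟩
  obtain ⟨Q, -, hQprime, hQ⟩ := Ideal.exists_ideal_over_prime_of_isIntegral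
    (z : PrimeSpectrum E).asIdeal (⊥ : Ideal T)
    (by rw [← RingHom.ker_eq_comap_bot, (RingHom.injective_iff_ker_eq_bot _).mp hinj]; exact bot_le)
  exact ⟨(⟨Q, hQprime⟩ : PrimeSpectrum T), PrimeSpectrum.ext hQ⟩

section core

variable (hbir : BirR R S) (p : Ideal R) [p.IsPrime] (P₀ : Ideal R) (hP₀ : P₀ ∈ minimalPrimes R)
  (hP₀p : P₀ ≤ p) (huniq : ∀ P ∈ minimalPrimes R, P ≤ p → P = P₀)

include hbir hP₀ hP₀p huniq in
theorem core :
    CAlg2.IsGeomUnibranch (Localization.AtPrime p) ↔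
      RadR (algebraMap R S) p ∧ ∀ (q : Ideal S) [q.IsPrime], q.comap (algebraMap R S) = p →
        CAlg2.IsGeomUnibranch (Localization.AtPrime q) := by
  obtain ⟨Q₀, hQ₀min, hQ₀P₀, hQ₀uniq, hQ₀frac⟩ := hbir.exists_over P₀ hP₀
  haveI : P₀.IsPrime := hP₀.1.1
  haveI : Q₀.IsPrime := hQ₀min.1.1
  haveI : Q₀.LiesOver P₀ := ⟨hQ₀P₀.symm⟩
  -- primes over `p` contain `Q₀`, which is the unique minimal prime below them
  have hQle : ∀ q : Ideal S, q.IsPrime → q.comap (algebraMap R S) = p →
      ∀ Q ∈ minimalPrimes S, Q ≤ q → Q = Q₀ := by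
    intro q hq hqp Q hQ hQq
    haveI := hQ.1.1
    have h1 := hbir.comap_mem Q hQ
    have h2 : Q.comap (algebraMap R S) ≤ p := hqp ▸ Ideal.comap_mono hQq
    exact hQ₀uniq Q hQ.1.1 (huniq _ h1 h2)
  have hQ₀le : ∀ q : Ideal S, q.IsPrime → q.comap (algebraMap R S) = p → Q₀ ≤ q := by
    intro q hq hqp
    obtain ⟨Q, hQ, hQq⟩ := Ideal.exists_minimalPrimes_le (I := (⊥ : Ideal S)) (J := q) bot_le
    rw [← hQle q hq hqp Q hQ hQq]
    exact hQq
  -- the domains
  let D := R ⧸ P₀
  let E := S ⧸ Q₀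
  let T := integralClosure E (FractionRing E)
  have hinjDE : Function.Injective (algebraMap D E) := FaithfulSMul.algebraMap_injective D E
  letI : Algebra D T := ((algebraMap E T).comp (algebraMap D E)).toAlgebra
  haveI : IsScalarTower D E T := .of_algebraMap_eq (fun _ => rfl)
  haveI : Algebra.IsIntegral D T := Algebra.IsIntegral.trans (R := D) E
  have hinjET : Function.Injective (algebraMap E T) := Groth.Agent.S4567.hinjS
  have hfracET := Groth.Agent.S4567.hfracS (A := E)
  have hinjDT : Function.Injective (algebraMap D T) := hinjET.comp hinjDE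
  have hfracDE : ∀ e : E, ∃ a b : D, b ≠ 0 ∧ algebraMap D E b * e = algebraMap D E a := by
    intro e
    obtain ⟨s, rfl⟩ := Ideal.Quotient.mk_surjective e
    obtain ⟨a, b, hb, hab⟩ := hQ₀frac s
    refine ⟨Ideal.Quotient.mk P₀ a, Ideal.Quotient.mk P₀ b, ?_, ?_⟩
    · rwa [Ne, Ideal.Quotient.eq_zero_iff_mem]
    · rw [Ideal.Quotient.algebraMap_mk_of_liesOver, Ideal.Quotient.algebraMap_mk_of_liesOver,
        ← map_mul, Ideal.Quotient.eq]
      exact hab
  have hfracDT : ∀ t : T, ∃ a b : D, b ≠ 0 ∧ algebraMap D T b * t = algebraMap D T a := by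
    intro t
    obtain ⟨e₁, e₂, he₂, h12⟩ := hfracET t
    obtain ⟨a₁, b₁, hb₁, h1⟩ := hfracDE e₁
    obtain ⟨a₂, b₂, hb₂, h2⟩ := hfracDE e₂
    have ha₂ : a₂ ≠ 0 := by
      rintro rfl
      rw [map_zero] at h2
      rcases mul_eq_zero.mp h2 with h | h
      · exact hb₂ (hinjDE (by rw [h, map_zero]))
      · exact he₂ h
    refine ⟨b₂ * a₁, b₁ * a₂, mul_ne_zero hb₁ ha₂, ?_⟩
    have e1 : algebraMap D T b₁ * algebraMap E T e₁ = algebraMap D T a₁ := by
      rw [IsScalarTower.algebraMap_apply D E T, IsScalarTower.algebraMap_apply D E T, ← map_mul, h1]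
    have e2 : algebraMap D T b₂ * algebraMap E T e₂ = algebraMap D T a₂ := by
      rw [IsScalarTower.algebraMap_apply D E T, IsScalarTower.algebraMap_apply D E T, ← map_mul, h2]
    rw [map_mul, map_mul, ← e1, ← e2, ← h12]
    ring
  -- the prime `p̄`
  let p' : Ideal D := p.map (Ideal.Quotient.mk P₀)
  haveI hp'prime : p'.IsPrime := Ideal.map_isPrime_of_surjective Ideal.Quotient.mk_surjective
    (by rw [Ideal.mk_ker]; exact hP₀p)
  have hp' : p'.comap (Ideal.Quotient.mk P₀) = p := by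
    rw [Ideal.comap_map_of_surjective _ Ideal.Quotient.mk_surjective, ← RingHom.ker_eq_comap_bot,
      Ideal.mk_ker]
    exact sup_eq_left.mpr hP₀p
  -- Step 1, 2
  rw [GULoc.isGeomUnibranch_iff_quotient p (Localization.AtPrime p) P₀ p' hp' huniq,
    GURad.isGeomUnibranch_iff_isRadicialAt hinjDT hfracDT p']
  -- Step 3
  have hcomp : Spec.map (CommRingCat.ofHom (algebraMap D T)) =
      Spec.map (CommRingCat.ofHom (algebraMap E T)) ≫ Spec.map (CommRingCat.ofHom (algebraMap D E)) := by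
    rw [← Spec.map_comp, ← CommRingCat.ofHom_comp]
  haveI := surjective_specMap_of_injective hinjET
  rw [hcomp, isRadicialAt_comp_iff, isRadicialAt_specMap_iff,
    ← radR_quotient_iff P₀ Q₀ p p' hp' hQ₀le]
  refine and_congr_right fun _ => ?_
  -- compatibility of contractions
  have hcontr : ∀ q' : Ideal E, (q'.comap (algebraMap D E)).comap (Ideal.Quotient.mk P₀) =
      (q'.comap (Ideal.Quotient.mk Q₀)).comap (algebraMap R S) := by
    intro q'
    rw [Ideal.comap_comap, Ideal.comap_comap]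
    rfl
  constructor
  · intro H q hq hqp
    have hQq : Q₀ ≤ q := hQ₀le q hq hqp
    let q' : Ideal E := q.map (Ideal.Quotient.mk Q₀)
    haveI hq'prime : q'.IsPrime := Ideal.map_isPrime_of_surjective Ideal.Quotient.mk_surjective
      (by rw [Ideal.mk_ker]; exact hQq)
    have hq' : q'.comap (Ideal.Quotient.mk Q₀) = q := by
      rw [Ideal.comap_map_of_surjective _ Ideal.Quotient.mk_surjective, ← RingHom.ker_eq_comap_bot,
        Ideal.mk_ker]
      exact sup_eq_left.mpr hQq
    have hover : q'.comap (algebraMap D E) = p' := by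
      apply Ideal.comap_injective_of_surjective _ Ideal.Quotient.mk_surjective
      rw [hcontr, hq', hqp, hp']
    have h1 := H (⟨q', hq'prime⟩ : PrimeSpectrum E) (PrimeSpectrum.ext hover)
    rw [← GURad.isGeomUnibranch_iff_isRadicialAt hinjET hfracET q'] at h1
    exact (GULoc.isGeomUnibranch_iff_quotient q (Localization.AtPrime q) Q₀ q' hq'
      (hQle q hq hqp)).mpr h1
  · intro H z hz
    have hz' : (z : PrimeSpectrum E).asIdeal.comap (algebraMap D E) = p' :=
      congrArg PrimeSpectrum.asIdeal hz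
    haveI hzprime : (z : PrimeSpectrum E).asIdeal.IsPrime := (z : PrimeSpectrum E).isPrime
    let q : Ideal S := (z : PrimeSpectrum E).asIdeal.comap (Ideal.Quotient.mk Q₀)
    haveI hqprime : q.IsPrime := Ideal.comap_isPrime _ _
    have hqp : q.comap (algebraMap R S) = p := by
      rw [← hcontr, hz', hp']
    have h1 := H q hqp
    rw [GULoc.isGeomUnibranch_iff_quotient q (Localization.AtPrime q) Q₀
      (z : PrimeSpectrum E).asIdeal rfl (hQle q hqprime hqp)] at h1
    exact (GURad.isGeomUnibranch_iff_isRadicialAt hinjET hfracET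
      (z : PrimeSpectrum E).asIdeal).mp h1

end core

theorem ker_le_of_birR (hbir : BirR R S) (p : Ideal R) [p.IsPrime] :
    RingHom.ker (algebraMap R S) ≤ p := by
  intro x hx
  obtain ⟨P, hP, hPp⟩ := Ideal.exists_minimalPrimes_le (I := (⊥ : Ideal R)) (J := p) bot_le
  obtain ⟨Q, -, hQP, -, -⟩ := hbir.exists_over P hP
  apply hPp
  rw [← hQP, Ideal.mem_comap, RingHom.mem_ker.mp hx]
  exact Q.zero_mem

/-- EGA IV 6.15.5 at ring level. -/
theorem main (hbir : BirR R S) (p : PrimeSpectrum R) :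
    CAlg2.IsGeomUnibranch (Localization.AtPrime p.asIdeal) ↔
      RadPt.IsRadicialAt (Spec.map (CommRingCat.ofHom (algebraMap R S))) p ∧
        ∀ (q : Ideal S) [q.IsPrime], q.comap (algebraMap R S) = p.asIdeal →
          CAlg2.IsGeomUnibranch (Localization.AtPrime q) := by
  constructor
  · intro hGU
    obtain ⟨P₀, hP₀, hP₀p, huniq⟩ := GULoc.exists_minimalPrimes_of_isDomain_red p.asIdeal
      (Localization.AtPrime p.asIdeal) hGU.1.1
    rw [isRadicialAt_specMap_iff]
    exact (core hbir p.asIdeal P₀ hP₀ hP₀p huniq).mp hGU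
  · rintro ⟨hrad, hq⟩
    obtain ⟨q, -, hqprime, hqp⟩ := Ideal.exists_ideal_over_prime_of_isIntegral p.asIdeal
      (⊥ : Ideal S) (by rw [← RingHom.ker_eq_comap_bot]; exact ker_le_of_birR hbir p.asIdeal)
    haveI := hqprime
    obtain ⟨Q₀', hQ₀', hQ₀'q, hQuniq⟩ := GULoc.exists_minimalPrimes_of_isDomain_red q
      (Localization.AtPrime q) (hq q hqp).1.1
    have hP₀ := hbir.comap_mem _ hQ₀'
    have hP₀p : Q₀'.comap (algebraMap R S) ≤ p.asIdeal := hqp ▸ Ideal.comap_mono hQ₀'q
    have huniq : ∀ P ∈ minimalPrimes R, P ≤ p.asIdeal → P = Q₀'.comap (algebraMap R S) := by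
      intro P₁ hP₁ hP₁p
      obtain ⟨Q₁, hQ₁, hQ₁P₁, -, -⟩ := hbir.exists_over P₁ hP₁
      haveI := hQ₁.1.1
      obtain ⟨q₁, hq₁ge, hq₁prime, hq₁p⟩ := Ideal.exists_ideal_over_prime_of_isIntegral_of_isPrime
        p.asIdeal Q₁ (by rw [hQ₁P₁]; exact hP₁p)
      have h1 : (⟨q₁, hq₁prime⟩ : PrimeSpectrum S) = ⟨q, hqprime⟩ :=
        hrad.1 _ _ (PrimeSpectrum.ext hq₁p) (PrimeSpectrum.ext hqp)
      have h2 : q₁ = q := congrArg PrimeSpectrum.asIdeal h1
      have h3 : Q₁ = Q₀' := hQuniq Q₁ hQ₁ (h2 ▸ hq₁ge)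
      rw [← hQ₁P₁, h3]
    exact (core hbir p.asIdeal _ hP₀ hP₀p huniq).mpr ⟨(isRadicialAt_specMap_iff _ _).mp hrad, hq⟩

end Groth.Agent.Lib.Helper69.GUBirat
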