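import Groth.Agent.Lib.Helper69.GULoc

/-!
# Geometric unibranchness of a localization: comparison along a surjection onto a domain (helper69)

Generalisation of `GULoc.isGeomUnibranch_iff_quotient` from `R → R/P₀` to any surjection `ρ : R → D₁` onto a
domain whose kernel is the unique minimal prime below `p`.
-/

set_option autoImplicit false
set_option linter.style.haveILetI false
set_option linter.unusedSectionVars false
universe u

namespace Groth.Agent.Lib.Helper69.GULoc2

open IsLocalRing Groth.Agent.Lib.Helper69.GUTransport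

variable {R : Type u} [CommRing R] (p : Ideal R) [p.IsPrime] (A : Type u) [CommRing A] [Algebra R A]
  [IsLocalization.AtPrime A p] [IsLocalRing A]
  {D₁ : Type u} [CommRing D₁] [IsDomain D₁] (ρ : R →+* D₁) (hρ : Function.Surjective ρ)
  (p' : Ideal D₁) [p'.IsPrime] (hp' : p'.comap ρ = p)

include hp' in
theorem primeCompl_le : p.primeCompl ≤ p'.primeCompl.comap ρ := by
  intro r hr
  rw [Submonoid.mem_comap]
  intro h
  apply hr
  rw [← hp']
  exact h

/-- the comparison map `R_p → (D₁)_{p'}`. -/
noncomputable def toQuot : A →+* Localization.AtPrime p' :=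
  IsLocalization.map (M := p.primeCompl) (Localization.AtPrime p') ρ (primeCompl_le p ρ p' hp')

include hρ in
theorem toQuot_surjective : Function.Surjective (toQuot p A ρ p' hp') := by
  intro z
  obtain ⟨d, s, rfl⟩ := IsLocalization.exists_mk'_eq p'.primeCompl z
  obtain ⟨r, rfl⟩ := hρ d
  obtain ⟨s', hs'⟩ := hρ (s : D₁)
  have hs'p : s' ∈ p.primeCompl := by
    intro h
    apply s.2
    rw [← hs']
    rw [← hp'] at h
    exact h
  refine ⟨IsLocalization.mk' A r (⟨s', hs'p⟩ : p.primeCompl), ?_⟩
  unfold toQuot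
  rw [IsLocalization.map_mk']
  congr 1
  exact Subtype.ext hs'

include hp' in
theorem ker_toQuot_le (huniq : ∀ P ∈ minimalPrimes R, P ≤ p → P = RingHom.ker ρ) :
    RingHom.ker (toQuot p A ρ p' hp') ≤ nilradical A := by
  intro x hx
  rw [RingHom.mem_ker] at hx
  obtain ⟨r, s, rfl⟩ := IsLocalization.exists_mk'_eq p.primeCompl x
  unfold toQuot at hx
  rw [IsLocalization.map_mk', IsLocalization.mk'_eq_zero_iff] at hx
  obtain ⟨t, ht⟩ := hx
  have ht0 : (t : D₁) ≠ 0 := by
    intro h
    exact t.2 (h ▸ p'.zero_mem)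
  have hr : r ∈ RingHom.ker ρ := by
    rcases mul_eq_zero.mp ht with h | h
    · exact absurd h ht0
    · exact h
  rw [nilradical_eq_sInf, Ideal.mem_sInf]
  intro Q hQ
  haveI : Q.IsPrime := hQ
  have hQd : Disjoint (p.primeCompl : Set R) ((Q.comap (algebraMap R A) : Ideal R) : Set R) := by
    have := (IsLocalization.isPrime_iff_isPrime_disjoint p.primeCompl A Q).mp hQ
    exact this.2
  have hQp : Q.comap (algebraMap R A) ≤ p := by
    intro y hy
    by_contra hyp
    exact Set.disjoint_left.mp hQd hyp hy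
  obtain ⟨P, hP, hPle⟩ := Ideal.exists_minimalPrimes_le (I := (⊥ : Ideal R))
    (J := Q.comap (algebraMap R A)) bot_le
  have hPP₀ : P = RingHom.ker ρ := huniq P hP (hPle.trans hQp)
  have hrQ : algebraMap R A r ∈ Q := hPle (hPP₀ ▸ hr)
  have hspec : IsLocalization.mk' A r s * algebraMap R A s = algebraMap R A r :=
    IsLocalization.mk'_spec A r s
  rw [← hspec] at hrQ
  rcases hQ.mem_or_mem hrQ with h | h
  · exact h
  · exfalso
    exact hQ.ne_top (Ideal.eq_top_of_isUnit_mem _ h (IsLocalization.map_units A s))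

include hρ hp' in
/-- `R_p` is geometrically unibranch iff `(D₁)_{p'}` is, when `ker ρ` is the unique minimal prime
below `p`. -/
theorem isGeomUnibranch_iff_of_surjective_loc
    (huniq : ∀ P ∈ minimalPrimes R, P ≤ p → P = RingHom.ker ρ) :
    CAlg2.IsGeomUnibranch A ↔ CAlg2.IsGeomUnibranch (Localization.AtPrime p') :=
  isGeomUnibranch_iff_of_surjective (toQuot p A ρ p' hp') (toQuot_surjective p A ρ hρ p' hp')
    (ker_toQuot_le p A ρ p' hp' huniq)

end Groth.Agent.Lib.Helper69.GULoc2
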