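import Mathlib

/-! # Local factors of `K ⊗[k] κ` have length `[κ : k]_i` (helper69)

`k` a field, `κ/k` a finite extension, `K/k` an algebraically closed algebraic extension. Every
localization of `K ⊗[k] κ` at a prime has length `Field.finInsepDegree k κ` over itself. -/

set_option autoImplicit false
set_option linter.style.haveILetI false

open TensorProduct

noncomputable section

namespace Groth.Agent.Lib.Helper69.InsepLength

/-- Length of a ring over itself is invariant under ring isomorphisms. -/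
theorem length_self_eq_of_ringEquiv {R₁ R₂ : Type*} [CommRing R₁] [CommRing R₂] (e : R₁ ≃+* R₂) :
    Module.length R₁ R₁ = Module.length R₂ R₂ := by
  letI : Algebra R₁ R₂ := e.toRingHom.toAlgebra
  let e' : R₁ ≃ₗ[R₁] R₂ :=
    { e with
      map_smul' := fun r x => by
        change e (r * x) = e r * e x
        exact map_mul e r x }
  rw [e'.length_eq]
  exact Module.length_eq_of_surjective (S := R₁) (R := R₂) (M := R₂) e.surjective

section FT

variable (k κ K : Type*) [Field k] [Field κ] [Field K] [Algebra k κ] [Algebra k K]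
  [FiniteDimensional k κ] [IsAlgClosed K] [Algebra.IsAlgebraic k K]

instance : IsArtinianRing (K ⊗[k] κ) := IsArtinianRing.of_finite K _

variable {k κ K}

/-- `K → L/q` is bijective. -/
theorem bijective_algebraMap_quot (q : Ideal (K ⊗[k] κ)) [q.IsPrime] :
    Function.Bijective (algebraMap K ((K ⊗[k] κ) ⧸ q)) :=
  IsAlgClosed.algebraMap_bijective_of_isIntegral

/-- the point `L → K` of a prime. -/
def toK (q : Ideal (K ⊗[k] κ)) [q.IsPrime] : (K ⊗[k] κ) →ₐ[K] K :=
  ((AlgEquiv.ofBijective (Algebra.ofId K ((K ⊗[k] κ) ⧸ q))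
    (bijective_algebraMap_quot q)).symm : ((K ⊗[k] κ) ⧸ q) →ₐ[K] K).comp (Ideal.Quotient.mkₐ K q)

theorem toK_eq_zero_iff (q : Ideal (K ⊗[k] κ)) [q.IsPrime] (x : K ⊗[k] κ) :
    toK q x = 0 ↔ x ∈ q := by
  simp only [toK, AlgHom.comp_apply]
  change (AlgEquiv.ofBijective (Algebra.ofId K ((K ⊗[k] κ) ⧸ q))
    (bijective_algebraMap_quot q)).symm _ = 0 ↔ _
  rw [EmbeddingLike.map_eq_zero_iff]
  exact Ideal.Quotient.eq_zero_iff_mem

/-- a `K`-point of `L` is determined by its kernel. -/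
theorem eq_toK (ψ : (K ⊗[k] κ) →ₐ[K] K) (q : Ideal (K ⊗[k] κ)) [q.IsPrime]
    (h : ∀ x, ψ x = 0 → x ∈ q) : ψ = toK q := by
  apply Algebra.TensorProduct.ext'
  intro c x
  have hc : (c ⊗ₜ[k] x : K ⊗[k] κ) = c • (1 ⊗ₜ[k] x) := by
    rw [TensorProduct.smul_tmul', smul_eq_mul, mul_one]
  rw [hc, map_smul, map_smul]
  congr 1
  · have h1 : (1 ⊗ₜ[k] x : K ⊗[k] κ) - algebraMap K _ (ψ (1 ⊗ₜ x)) ∈ q := by
      apply h
      rw [map_sub, AlgHom.commutes]
      simp
    rw [← toK_eq_zero_iff, map_sub, AlgHom.commutes, sub_eq_zero] at h1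
    simpa using h1.symm

/-- the embedding of a prime -/
def emb (q : Ideal (K ⊗[k] κ)) [q.IsPrime] : κ →ₐ[k] K :=
  ((toK q).restrictScalars k).comp Algebra.TensorProduct.includeRight

theorem emb_apply (q : Ideal (K ⊗[k] κ)) [q.IsPrime] (a : κ) : emb q a = toK q (1 ⊗ₜ a) := rfl

theorem toK_tmul (q : Ideal (K ⊗[k] κ)) [q.IsPrime] (c : K) (a : κ) :
    toK q (c ⊗ₜ a) = c * emb q a := by
  have hc : (c ⊗ₜ[k] a : K ⊗[k] κ) = c • (1 ⊗ₜ[k] a) := by
    rw [TensorProduct.smul_tmul', smul_eq_mul, mul_one]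
  rw [hc, map_smul, smul_eq_mul, emb_apply]

/-- `Aut(K/k)` acts transitively on the embeddings. -/
theorem exists_algEquiv (φ φ' : κ →ₐ[k] K) : ∃ σ : K ≃ₐ[k] K, ∀ a, σ (φ a) = φ' a := by
  letI : Algebra κ K := φ.toRingHom.toAlgebra
  haveI : IsScalarTower k κ K := IsScalarTower.of_algebraMap_eq fun c => (φ.commutes c).symm
  haveI : IsAlgClosure k K := ⟨inferInstance, inferInstance⟩
  haveI : Normal k K := IsAlgClosure.normal k K
  let ϕ : κ →ₐ[k] φ'.fieldRange := φ'.rangeRestrict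
  let σ₀ : K →ₐ[k] K := ϕ.liftNormal K
  have hbij : Function.Bijective σ₀ := Algebra.IsAlgebraic.algHom_bijective σ₀
  refine ⟨AlgEquiv.ofBijective σ₀ hbij, fun a => ?_⟩
  exact ϕ.liftNormal_commutes K a

theorem exists_algEquiv_comap (q q' : Ideal (K ⊗[k] κ)) [q.IsPrime] [q'.IsPrime] :
    ∃ g : (K ⊗[k] κ) ≃ₐ[k] (K ⊗[k] κ), q'.comap g = q := by
  obtain ⟨σ, hσ⟩ := exists_algEquiv (emb q) (emb q')
  let g : (K ⊗[k] κ) ≃ₐ[k] (K ⊗[k] κ) := Algebra.TensorProduct.congr σ AlgEquiv.refl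
  have key : ∀ x, σ (toK q x) = toK q' (g x) := by
    intro x
    have : (σ : K →ₐ[k] K).comp ((toK q).restrictScalars k) =
        ((toK q').restrictScalars k).comp (g : (K ⊗[k] κ) →ₐ[k] (K ⊗[k] κ)) := by
      apply Algebra.TensorProduct.ext'
      intro c a
      change σ (toK q (c ⊗ₜ a)) = toK q' (g (c ⊗ₜ a))
      have hg : g (c ⊗ₜ a) = σ c ⊗ₜ a := by simp [g]
      rw [hg, toK_tmul, toK_tmul, map_mul, hσ]
    exact congr($this x)
  refine ⟨g, ?_⟩
  ext x
  rw [Ideal.mem_comap, ← toK_eq_zero_iff q', ← toK_eq_zero_iff q]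
  change toK q' (g x) = 0 ↔ _
  rw [← key, EmbeddingLike.map_eq_zero_iff]

open Pointwise in
theorem ramificationIdx_eq_of_primes (q q' : Ideal (K ⊗[k] κ)) [q.IsPrime] [q'.IsPrime] :
    q.ramificationIdx k = q'.ramificationIdx k := by
  obtain ⟨g, hg⟩ := exists_algEquiv_comap q q'
  have h1 := Ideal.ramificationIdx_smul (R := k) (q := q) g
  have h2 : g • q = q' := by
    rw [Ideal.pointwise_smul_def]
    change q.map (g : (K ⊗[k] κ) →+* (K ⊗[k] κ)) = q'
    rw [← hg]
    exact Ideal.map_comap_of_surjective _ g.surjective _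
  rw [← h1, h2]

theorem liesOver_bot {F A : Type*} [Field F] [CommRing A] [Algebra F A] (q : Ideal A)
    [q.IsPrime] : q.LiesOver (⊥ : Ideal F) :=
  ⟨(Ideal.eq_bot_of_prime (q.under F)).symm⟩

theorem ramificationIdx_eq_length {F A : Type*} [Field F] [CommRing A] [Algebra F A]
    (q : Ideal A) [q.IsPrime] :
    q.ramificationIdx F =
      (Module.length (Localization.AtPrime q) (Localization.AtPrime q)).toNat := by
  haveI := liesOver_bot (F := F) q
  rw [Ideal.ramificationIdx_eq (⊥ : Ideal F) q, Ideal.map_bot]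
  congr 1
  exact (Submodule.quotEquivOfEqBot _ rfl).length_eq

/-- the `K`-point attached to an embedding -/
def ofEmb (φ : κ →ₐ[k] K) : (K ⊗[k] κ) →ₐ[K] K :=
  Algebra.TensorProduct.lift (AlgHom.id K K) φ (fun _ _ => Commute.all _ _)

theorem ofEmb_tmul (φ : κ →ₐ[k] K) (c : K) (a : κ) : ofEmb φ (c ⊗ₜ a) = c * φ a := by
  simp [ofEmb]

instance (φ : κ →ₐ[k] K) : (RingHom.ker (ofEmb φ)).IsPrime := RingHom.ker_isPrime _

theorem emb_ker_ofEmb (φ : κ →ₐ[k] K) : emb (RingHom.ker (ofEmb φ)) = φ := by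
  have h := eq_toK (ofEmb φ) (RingHom.ker (ofEmb φ)) (fun x hx => hx)
  ext a
  rw [emb_apply, ← h, ofEmb_tmul, one_mul]

theorem eq_of_emb_eq (q q' : Ideal (K ⊗[k] κ)) [q.IsPrime] [q'.IsPrime] (h : emb q = emb q') :
    q = q' := by
  have h1 : toK q = toK q' := by
    apply Algebra.TensorProduct.ext'
    intro c a
    rw [toK_tmul, toK_tmul, h]
  ext x
  rw [← toK_eq_zero_iff q, ← toK_eq_zero_iff q', h1]

variable (k κ K) in
theorem card_primesOver :
    Nat.card ((⊥ : Ideal K).primesOver (K ⊗[k] κ)) = Field.finSepDegree k κ := by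
  rw [Field.finSepDegree_eq_of_isAlgClosed k κ K]
  let F : (⊥ : Ideal K).primesOver (K ⊗[k] κ) → (κ →ₐ[k] K) := fun q =>
    haveI : q.1.IsPrime := q.2.1
    emb q.1
  apply Nat.card_eq_of_bijective F
  constructor
  · intro q q' h
    haveI : q.1.IsPrime := q.2.1
    haveI : q'.1.IsPrime := q'.2.1
    exact Subtype.ext (eq_of_emb_eq q.1 q'.1 h)
  · intro φ
    exact ⟨⟨RingHom.ker (ofEmb φ), inferInstance, liesOver_bot _⟩, emb_ker_ofEmb φ⟩

theorem inertiaDeg_eq_one (q : Ideal (K ⊗[k] κ)) [q.IsPrime] : q.inertiaDeg K = 1 := by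
  haveI := liesOver_bot (F := K) q
  haveI : q.IsMaximal := IsArtinianRing.isMaximal_of_isPrime q
  haveI : (⊥ : Ideal K).IsMaximal := Ideal.bot_isMaximal
  rw [Ideal.inertiaDeg_eq_of_isMaximal (⊥ : Ideal K) q]
  have hb : Function.Bijective (algebraMap K ((K ⊗[k] κ) ⧸ q)) := bijective_algebraMap_quot q
  letI : Field (K ⧸ (⊥ : Ideal K)) := Ideal.Quotient.field _
  letI : Field ((K ⊗[k] κ) ⧸ q) := Ideal.Quotient.field _
  refine _root_.finrank_eq_one (1 : (K ⊗[k] κ) ⧸ q) one_ne_zero ?_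
  intro y
  obtain ⟨c, rfl⟩ := hb.2 y
  refine ⟨Ideal.Quotient.mk _ c, ?_⟩
  rw [Algebra.smul_def, mul_one]
  rfl

variable (k κ K) in
/-- **Every local factor of `K ⊗[k] κ` has length `[κ : k]_i`.** -/
theorem length_localization (q : Ideal (K ⊗[k] κ)) [q.IsPrime] :
    (Module.length (Localization.AtPrime q) (Localization.AtPrime q)).toNat =
      Field.finInsepDegree k κ := by
  rw [← ramificationIdx_eq_length (F := k) q]
  have hfin : ((⊥ : Ideal K).primesOver (K ⊗[k] κ)).Finite :=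
    Algebra.QuasiFinite.finite_primesOver _
  letI : Fintype ((⊥ : Ideal K).primesOver (K ⊗[k] κ)) := hfin.fintype
  have hsum := Ideal.sum_ramification_inertia_eq_finrank (⊥ : Ideal K) (K ⊗[k] κ)
  have hterm : ∀ q' : (⊥ : Ideal K).primesOver (K ⊗[k] κ),
      q'.1.ramificationIdx K * q'.1.inertiaDeg K = q.ramificationIdx k := by
    intro q'
    haveI : q'.1.IsPrime := q'.2.1
    rw [inertiaDeg_eq_one, mul_one, ramificationIdx_eq_length (F := K),
      ← ramificationIdx_eq_length (F := k), ramificationIdx_eq_of_primes q'.1 q]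
  rw [Finset.sum_congr rfl (fun q' _ => hterm q'), Finset.sum_const, Finset.card_univ,
    ← Nat.card_eq_fintype_card, card_primesOver, smul_eq_mul,
    Module.finrank_baseChange] at hsum
  have h2 := Field.finSepDegree_mul_finInsepDegree k κ
  have h3 : Field.finSepDegree k κ ≠ 0 := NeZero.ne _
  exact Nat.eq_of_mul_eq_mul_left (Nat.pos_of_ne_zero h3) (hsum.trans h2.symm)

end FT

end Groth.Agent.Lib.Helper69.InsepLength
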