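import Mathlib
import Groth.Agent.Lib.Helper69.InsepLength

/-! # Counting points of a base-change fibre (helper69)

For `sX : X ⟶ Spec k`, a point `x : X` and a field extension `K/k`, the fibre of
`X ×_k Spec K ⟶ X` over `x` is `Spec (κ(x) ⊗[k] K)`.  If `K` is algebraically closed and algebraic
over `k` and `κ(x)/k` is finite, the fibre has `[κ(x) : k]_s` points. -/

set_option autoImplicit false
set_option linter.style.haveILetI false

open AlgebraicGeometry CategoryTheory Limits TensorProduct

noncomputable section

namespace Groth.Agent.Lib.Helper69.GeomPts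

universe u

variable (k : Type u) [Field k] (K : Type u) [Field K] [Algebra k K]

/-- The fibre of the base change projection over `x` is `Spec (κ(x) ⊗[k] K)`. -/
def fiberIso {X : Scheme.{u}} (sX : X ⟶ Spec (CommRingCat.of k)) (x : X)
    [Algebra k (X.residueField x)]
    (h : X.fromSpecResidueField x ≫ sX =
      Spec.map (CommRingCat.ofHom (algebraMap k (X.residueField x)))) :
    (pullback.fst sX (Spec.map (CommRingCat.ofHom (algebraMap k K)))).fiber x ≅
      Spec (CommRingCat.of (X.residueField x ⊗[k] K)) :=
  pullbackSymmetry _ _ ≪≫ pullbackRightPullbackFstIso sX _ (X.fromSpecResidueField x) ≪≫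
    pullback.congrHom h rfl ≪≫ pullbackSpecIso k (X.residueField x) K

theorem encard_preimage {X : Scheme.{u}} (sX : X ⟶ Spec (CommRingCat.of k)) (x : X)
    [Algebra k (X.residueField x)]
    (h : X.fromSpecResidueField x ≫ sX =
      Spec.map (CommRingCat.ofHom (algebraMap k (X.residueField x)))) :
    ((pullback.fst sX (Spec.map (CommRingCat.ofHom (algebraMap k K)))).base ⁻¹' {x}).encard =
      ENat.card (PrimeSpectrum (X.residueField x ⊗[k] K)) := by
  have e1 := (pullback.fst sX (Spec.map (CommRingCat.ofHom (algebraMap k K)))).fiberHomeo x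
  have e2 := Scheme.homeoOfIso (fiberIso k K sX x h)
  rw [Set.encard]
  exact ENat.card_congr (e1.symm.toEquiv.trans e2.toEquiv)

open Groth.Agent.Lib.Helper69.InsepLength in
theorem card_primeSpectrum (κ : Type u) [Field κ] [Algebra k κ] [FiniteDimensional k κ]
    [IsAlgClosed K] [Algebra.IsAlgebraic k K] :
    ENat.card (PrimeSpectrum (κ ⊗[k] K)) = (Field.finSepDegree k κ : ℕ∞) := by
  rw [← card_primesOver k κ K]
  have e1 : PrimeSpectrum (κ ⊗[k] K) ≃ PrimeSpectrum (K ⊗[k] κ) :=
    (PrimeSpectrum.comapEquiv (Algebra.TensorProduct.comm k κ K).toRingEquiv).toEquiv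
  have e2 : PrimeSpectrum (K ⊗[k] κ) ≃ (⊥ : Ideal K).primesOver (K ⊗[k] κ) :=
    { toFun := fun P => ⟨P.asIdeal, P.isPrime, haveI := P.isPrime; liesOver_bot _⟩
      invFun := fun P => ⟨P.1, P.2.1⟩
      left_inv := fun P => rfl
      right_inv := fun P => rfl }
  rw [ENat.card_congr (e1.trans e2)]
  haveI : Finite ((⊥ : Ideal K).primesOver (K ⊗[k] κ)) := Finite.of_equiv _ e2
  exact ENat.card_eq_coe_natCard _

/-- The number of points of the base-change fibre over a point with finite residue field. -/
theorem encard_preimage_eq_finSepDegree [IsAlgClosed K] [Algebra.IsAlgebraic k K]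
    {X : Scheme.{u}} (sX : X ⟶ Spec (CommRingCat.of k)) (x : X)
    [Algebra k (X.residueField x)] [FiniteDimensional k (X.residueField x)]
    (h : X.fromSpecResidueField x ≫ sX =
      Spec.map (CommRingCat.ofHom (algebraMap k (X.residueField x)))) :
    ((pullback.fst sX (Spec.map (CommRingCat.ofHom (algebraMap k K)))).base ⁻¹' {x}).encard =
      (Field.finSepDegree k (X.residueField x) : ℕ∞) := by
  rw [encard_preimage k K sX x h, card_primeSpectrum]

end Groth.Agent.Lib.Helper69.GeomPts
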