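import Mathlib
import Groth.Agent.Lib.Helper69.GeomPts

/-! # Counting points of a base-change fibre, separably closed case (helper69) -/

set_option autoImplicit false
set_option linter.style.haveILetI false

open AlgebraicGeometry CategoryTheory Limits TensorProduct

noncomputable section

namespace Groth.Agent.Lib.Helper69.GeomPts

universe u

variable (k : Type u) [Field k] (K : Type u) [Field K] [Algebra k K]

/-- `#Spec (κ ⊗[k] K) = [κ : k]_s` for `K` separably closed and algebraic over `k`. -/
theorem card_primeSpectrum_sepClosed (κ : Type u) [Field κ] [Algebra k κ] [FiniteDimensional k κ]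
    [IsSepClosed K] [Algebra.IsAlgebraic k K] :
    ENat.card (PrimeSpectrum (κ ⊗[k] K)) = (Field.finSepDegree k κ : ℕ∞) := by
  let L := AlgebraicClosure K
  haveI : Algebra.IsAlgebraic k L := Algebra.IsAlgebraic.trans k K L
  rw [← card_primeSpectrum k L κ]
  have h := PrimeSpectrum.isHomeomorph_comap_tensorProductMap_of_isPurelyInseparable
    (R := k) (K := K) (S := κ) L
  have e0 : PrimeSpectrum (L ⊗[k] κ) ≃ PrimeSpectrum (K ⊗[k] κ) := h.homeomorph.toEquiv
  have e1 : PrimeSpectrum (κ ⊗[k] K) ≃ PrimeSpectrum (K ⊗[k] κ) :=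
    (PrimeSpectrum.comapEquiv (Algebra.TensorProduct.comm k κ K).toRingEquiv).toEquiv
  have e2 : PrimeSpectrum (κ ⊗[k] L) ≃ PrimeSpectrum (L ⊗[k] κ) :=
    (PrimeSpectrum.comapEquiv (Algebra.TensorProduct.comm k κ L).toRingEquiv).toEquiv
  exact ENat.card_congr (e1.trans (e0.symm.trans e2.symm))

/-- number of points of the base change fibre, separably closed case. -/
theorem encard_preimage_eq_finSepDegree_sepClosed [IsSepClosed K] [Algebra.IsAlgebraic k K]
    {X : Scheme.{u}} (sX : X ⟶ Spec (CommRingCat.of k)) (x : X)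
    [Algebra k (X.residueField x)] [FiniteDimensional k (X.residueField x)]
    (h : X.fromSpecResidueField x ≫ sX =
      Spec.map (CommRingCat.ofHom (algebraMap k (X.residueField x)))) :
    ((pullback.fst sX (Spec.map (CommRingCat.ofHom (algebraMap k K)))).base ⁻¹' {x}).encard =
      (Field.finSepDegree k (X.residueField x) : ℕ∞) := by
  rw [encard_preimage k K sX x h, card_primeSpectrum_sepClosed]

/-- A scheme finite over a field is a finite discrete space. -/
theorem finite_discrete_of_isFinite {X : Scheme.{u}} (g : X ⟶ Spec (CommRingCat.of k))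
    [IsFinite g] : Finite X ∧ DiscreteTopology X := by
  haveI : IsAffine X := isAffine_of_isAffineHom g
  have hfin : (g.appTop).hom.Finite := IsFinite.finite_app g ⊤ (isAffineOpen_top _)
  letI : Algebra Γ(Spec (CommRingCat.of k), ⊤) Γ(X, ⊤) := (g.appTop).hom.toAlgebra
  haveI : Module.Finite Γ(Spec (CommRingCat.of k), ⊤) Γ(X, ⊤) := hfin
  haveI : IsArtinianRing Γ(Spec (CommRingCat.of k), ⊤) :=
    (Scheme.ΓSpecIso (CommRingCat.of k)).commRingCatIsoToRingEquiv.symm.surjective.isArtinianRing
  haveI : IsArtinianRing Γ(X, ⊤) := IsArtinianRing.of_finite Γ(Spec (CommRingCat.of k), ⊤) _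
  have e : X ≃ₜ PrimeSpectrum Γ(X, ⊤) := Scheme.homeoOfIso X.isoSpec
  exact ⟨Finite.of_equiv _ e.symm.toEquiv, e.symm.discreteTopology⟩

/-- In a discrete space connected components are points. -/
theorem enatCard_connectedComponents (T : Type*) [TopologicalSpace T] [DiscreteTopology T] :
    ENat.card (ConnectedComponents T) = ENat.card T := by
  refine (ENat.card_congr (Equiv.ofBijective (ConnectedComponents.mk : T → _) ⟨?_, ?_⟩)).symm
  · intro a b hab
    have := ConnectedComponents.coe_eq_coe'.mp hab
    rwa [connectedComponent_eq_singleton, Set.mem_singleton_iff] at this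
  · exact ConnectedComponents.surjective_coe

/-- counting a finite type fibrewise. -/
theorem enatCard_eq_sum_fibers {α β : Type*} [Finite α] [Fintype β] (p : α → β) (n : β → ℕ)
    (h : ∀ b, (p ⁻¹' {b}).encard = (n b : ℕ∞)) :
    ENat.card α = ((∑ b, n b : ℕ) : ℕ∞) := by
  classical
  haveI : Fintype α := Fintype.ofFinite α
  rw [ENat.card_eq_coe_natCard, Nat.card_eq_fintype_card]
  congr 1
  rw [← Fintype.card_congr (Equiv.sigmaFiberEquiv p), Fintype.card_sigma]
  refine Finset.sum_congr rfl fun b _ => ?_
  have hb := h b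
  rw [Set.encard, ENat.card_eq_coe_natCard, Nat.card_eq_fintype_card] at hb
  have hb' : Fintype.card ↥(p ⁻¹' {b}) = n b := by exact_mod_cast hb
  rw [← hb']
  exact Fintype.card_congr (Equiv.refl _)

end Groth.Agent.Lib.Helper69.GeomPts
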