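import Groth.Agent.Lib.Helper69.NormalSections
import Groth.Prelude.Def_W4bk4git07Quot
import Groth.Prelude.Def_Pi1

/-! # A geometric quotient of a normal integral scheme over a field is normal (helper69) -/

set_option autoImplicit false

universe u

open AlgebraicGeometry CategoryTheory TopologicalSpace Opposite Limits MonoidalCategory
  CartesianMonoidalCategory

noncomputable section

namespace Groth.Agent.Lib.Helper69.GeomQuotNormal

open Groth.Agent.Lib.Helper69.NormalSections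

/-- flat ring homs preserve nonzerodivisors. -/
theorem map_mem_nonZeroDivisors_of_flat {R S : Type*} [CommRing R] [CommRing S] (f : R →+* S)
    (hf : f.Flat) {r : R} (hr : r ∈ nonZeroDivisors R) : f r ∈ nonZeroDivisors S := by
  algebraize [f]
  have h := Module.Flat.isSMulRegular_of_nonZeroDivisors (M := S) hr
  rw [mem_nonZeroDivisors_iff_left]
  intro x hx
  apply h
  change r • x = r • 0
  rw [smul_zero, Algebra.smul_def]
  exact hx

/-- pulling back a nonzero function along a flat morphism to an integral scheme gives a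
nonzerodivisor. -/
theorem appLE_mem_nonZeroDivisors {Z X : Scheme.{u}} [IsIntegral X] (p : Z ⟶ X) [Flat p]
    (V : X.Opens) (W : Z.Opens) (e : W ≤ p ⁻¹ᵁ V) {b : Γ(X, V)} (hb : b ≠ 0) :
    (p.appLE V W e).hom b ∈ nonZeroDivisors Γ(Z, W) := by
  rw [mem_nonZeroDivisors_iff_right]
  intro s hs
  apply section_ext'
  intro z hz
  rw [map_zero]
  have hzV : p z ∈ V := e hz
  have hgerm : Z.presheaf.germ W z hz ((p.appLE V W e).hom b) =
      (p.stalkMap z).hom (X.presheaf.germ V (p z) hzV b) := by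
    have h1 := Scheme.Hom.germ_stalkMap_apply p V z hzV b
    have h2 := germ_res_apply' e z hz ((p.app V).hom b)
    exact h2.trans h1.symm
  have hnz : X.presheaf.germ V (p z) hzV b ∈ nonZeroDivisors (X.presheaf.stalk (p z)) :=
    mem_nonZeroDivisors_of_ne_zero
      (fun h0 => hb (germ_injective_of_isIntegral X _ hzV (by rw [h0, map_zero])))
  have hflat := Flat.stalkMap p z
  have h1 := map_mem_nonZeroDivisors_of_flat _ hflat hnz
  have h2 := congrArg (Z.presheaf.germ W z hz) hs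
  rw [map_mul, map_zero, hgerm] at h2
  exact (mem_nonZeroDivisors_iff_right.mp h1) _ h2

variable {k : Type u} [Field k] {G X Y : Over (Spec (CommRingCat.of k))} [GrpObj G]

/-- sections of a geometric quotient of a normal integral scheme over any nonempty open form an
integrally closed domain. -/
theorem sections_of_isGeomQuot [IsIntegral X.left] (hX : Pi1.IsNormalScheme X.left)
    (a : AlgGrp.Action G X) (φ : X ⟶ Y) (h : GIT.IsGeomQuot a φ) (U : Y.left.Opens)
    (hU : Nonempty U) :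
    IsDomain Γ(Y.left, U) ∧ IsIntegrallyClosed Γ(Y.left, U) := by
  have hV : Nonempty (φ.left ⁻¹ᵁ U) := by
    obtain ⟨⟨y, hy⟩⟩ := hU
    obtain ⟨x, rfl⟩ := h.surj y
    exact ⟨⟨x, hy⟩⟩
  have hA : IsIntegrallyClosed Γ(X.left, φ.left ⁻¹ᵁ U) :=
    isIntegrallyClosed_sections (fun x => (hX x).2) _
  obtain ⟨hinj, hrange⟩ := h.sections U
  have hinj' : Function.Injective (φ.left.app U).hom := hinj
  have hD : IsDomain Γ(Y.left, U) := Function.Injective.isDomain (φ.left.app U).hom hinj'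
  refine ⟨hD, ?_⟩
  rw [isIntegrallyClosed_iff (FractionRing Γ(Y.left, U))]
  intro f hf
  obtain ⟨a₀, b₀, hb₀, rfl⟩ := IsFractionRing.div_surjective (A := Γ(Y.left, U)) f
  have hb0 : b₀ ≠ 0 := nonZeroDivisors.ne_zero hb₀
  have hbK : algebraMap Γ(Y.left, U) (FractionRing Γ(Y.left, U)) b₀ ≠ 0 := by
    intro h0
    exact hb0 (IsFractionRing.injective Γ(Y.left, U) (FractionRing Γ(Y.left, U))
      (by rw [h0, map_zero]))
  have hab : (algebraMap Γ(Y.left, U) (FractionRing Γ(Y.left, U)) a₀ /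
      algebraMap Γ(Y.left, U) (FractionRing Γ(Y.left, U)) b₀) *
      algebraMap Γ(Y.left, U) (FractionRing Γ(Y.left, U)) b₀ =
      algebraMap Γ(Y.left, U) (FractionRing Γ(Y.left, U)) a₀ := div_mul_cancel₀ _ hbK
  obtain ⟨c', hc'⟩ := exists_mul_eq_of_isIntegral (φ.left.app U).hom hinj' hf hab
  -- invariance of a, b
  have hinvA : GIT.IsInvSection a φ U ((φ.left.app U).hom a₀) := by
    have : (φ.left.app U).hom a₀ ∈ Set.range (φ.left.app U) := ⟨a₀, rfl⟩
    rw [hrange] at this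
    exact this
  have hinvB : GIT.IsInvSection a φ U ((φ.left.app U).hom b₀) := by
    have : (φ.left.app U).hom b₀ ∈ Set.range (φ.left.app U) := ⟨b₀, rfl⟩
    rw [hrange] at this
    exact this
  have hψb : (φ.left.app U).hom b₀ ≠ 0 := by
    intro h0
    exact hb0 (hinj' (by rw [h0, map_zero]))
  have hflat : Flat (snd G X).left := by
    rw [Over.snd_left]
    infer_instance
  have hnzd := appLE_mem_nonZeroDivisors (snd G X).left (φ.left ⁻¹ᵁ U)
    (a.act.left ⁻¹ᵁ (φ.left ⁻¹ᵁ U) ⊓ (snd G X).left ⁻¹ᵁ (φ.left ⁻¹ᵁ U)) inf_le_right hψb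
  have hinvC : GIT.IsInvSection a φ U c' := by
    unfold GIT.IsInvSection at hinvA hinvB ⊢
    have e1 := congrArg (a.act.left.appLE (φ.left ⁻¹ᵁ U)
      (a.act.left ⁻¹ᵁ (φ.left ⁻¹ᵁ U) ⊓ (snd G X).left ⁻¹ᵁ (φ.left ⁻¹ᵁ U)) inf_le_left).hom hc'
    have e2 := congrArg ((snd G X).left.appLE (φ.left ⁻¹ᵁ U)
      (a.act.left ⁻¹ᵁ (φ.left ⁻¹ᵁ U) ⊓ (snd G X).left ⁻¹ᵁ (φ.left ⁻¹ᵁ U)) inf_le_right).hom hc'
    rw [map_mul] at e1 e2
    have hA' : (a.act.left.appLE (φ.left ⁻¹ᵁ U)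
      (a.act.left ⁻¹ᵁ (φ.left ⁻¹ᵁ U) ⊓ (snd G X).left ⁻¹ᵁ (φ.left ⁻¹ᵁ U)) inf_le_left).hom
        ((φ.left.app U).hom a₀) = ((snd G X).left.appLE (φ.left ⁻¹ᵁ U)
      (a.act.left ⁻¹ᵁ (φ.left ⁻¹ᵁ U) ⊓ (snd G X).left ⁻¹ᵁ (φ.left ⁻¹ᵁ U)) inf_le_right).hom
        ((φ.left.app U).hom a₀) := hinvA
    have hB' : (a.act.left.appLE (φ.left ⁻¹ᵁ U)
      (a.act.left ⁻¹ᵁ (φ.left ⁻¹ᵁ U) ⊓ (snd G X).left ⁻¹ᵁ (φ.left ⁻¹ᵁ U)) inf_le_left).hom
        ((φ.left.app U).hom b₀) = ((snd G X).left.appLE (φ.left ⁻¹ᵁ U)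
      (a.act.left ⁻¹ᵁ (φ.left ⁻¹ᵁ U) ⊓ (snd G X).left ⁻¹ᵁ (φ.left ⁻¹ᵁ U)) inf_le_right).hom
        ((φ.left.app U).hom b₀) := hinvB
    rw [hA', hB', ← e2] at e1
    exact (mul_cancel_right_mem_nonZeroDivisors hnzd).mp e1
  have hcr : c' ∈ Set.range (φ.left.app U) := by
    rw [hrange]
    exact hinvC
  obtain ⟨c, rfl⟩ := hcr
  refine ⟨c, ?_⟩
  rw [eq_div_iff hbK, ← map_mul]
  congr 1
  apply hinj'
  rw [map_mul]
  exact hc'

/-- **A geometric quotient of a normal integral scheme over a field is normal.** -/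
theorem isNormalScheme_of_isGeomQuot [IsIntegral X.left] (hX : Pi1.IsNormalScheme X.left)
    (a : AlgGrp.Action G X) (φ : X ⟶ Y) (h : GIT.IsGeomQuot a φ) :
    Pi1.IsNormalScheme Y.left := by
  intro y
  obtain ⟨U, hU0, hyU, -⟩ := Opens.isBasis_iff_nbhd.1 (Y.left.isBasis_affineOpens)
    (show y ∈ (⊤ : Y.left.Opens) from trivial)
  have hU : IsAffineOpen U := hU0
  obtain ⟨hD, hIC⟩ := sections_of_isGeomQuot hX a φ h U ⟨⟨y, hyU⟩⟩
  let _ : Algebra Γ(Y.left, U) (Y.left.presheaf.stalk y) :=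
    TopCat.Presheaf.algebra_section_stalk Y.left.presheaf ⟨y, hyU⟩
  have hloc : IsLocalization.AtPrime (Y.left.presheaf.stalk y)
      (hU.primeIdealOf ⟨y, hyU⟩).asIdeal := hU.isLocalization_stalk ⟨y, hyU⟩
  constructor
  · exact IsLocalization.isDomain_of_le_nonZeroDivisors (R := Γ(Y.left, U))
      (Y.left.presheaf.stalk y) (M := (hU.primeIdealOf ⟨y, hyU⟩).asIdeal.primeCompl)
      (Ideal.primeCompl_le_nonZeroDivisors _)
  · exact isIntegrallyClosed_of_isLocalization (R := Γ(Y.left, U))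
      (S := Y.left.presheaf.stalk y) (hU.primeIdealOf ⟨y, hyU⟩).asIdeal.primeCompl
      (Ideal.primeCompl_le_nonZeroDivisors _)

end Groth.Agent.Lib.Helper69.GeomQuotNormal
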