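import Groth.Agent.S2671
import Groth.Agent.S4749

/-!
# Integral closure and normal base change, relative version over a finite type algebra (helper69)

`mem_range_of_isIntegralElem`: `A → A'` normal, `B₀` an `A`-algebra of finite type, `C` a
`B₀`-algebra. An element of `A' ⊗[A] C` integral over (the image of) `A' ⊗[A] B₀` lies in the image
of `A' ⊗[A] D₀`, `D₀` the integral closure of `B₀` in `C`.
-/

set_option linter.style.haveILetI false
set_option linter.unusedSectionVars false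

namespace Groth.Agent.Lib.Helper69.ICBase

open TensorProduct Polynomial

universe u

/-- comparison of images of `A' ⊗ -` -/
theorem range_T_subset_of_range_subset {A : Type u} (A' : Type u) [CommRing A] [CommRing A']
    [Algebra A A'] {X₁ X₂ C : Type u} [CommRing X₁] [CommRing X₂] [CommRing C] [Algebra A X₁]
    [Algebra A X₂] [Algebra A C] (f₁ : X₁ →ₐ[A] C) (f₂ : X₂ →ₐ[A] C)
    (hle : Set.range f₁ ⊆ Set.range f₂) : Set.range (T A' f₁) ⊆ Set.range (T A' f₂) := by
  rintro _ ⟨w, rfl⟩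
  show T A' f₁ w ∈ (T A' f₂).range
  induction w using TensorProduct.induction_on with
  | zero =>
    rw [map_zero]
    exact Subalgebra.zero_mem _
  | tmul a x =>
    obtain ⟨y, hy⟩ := hle ⟨x, rfl⟩
    refine ⟨a ⊗ₜ[A] y, ?_⟩
    show T A' f₂ (a ⊗ₜ[A] y) = T A' f₁ (a ⊗ₜ[A] x)
    simp [hy]
  | add x y hx hy =>
    rw [map_add]
    exact add_mem hx hy

section Rel

variable (A A' : Type u) [CommRing A] [CommRing A'] [IsNoetherianRing A] [IsNoetherianRing A']
  [Algebra A A'] (h : EGA4.IsNormalHom A A')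
  (B₀ C : Type u) [CommRing B₀] [CommRing C] [Algebra A B₀] [Algebra A C] [Algebra B₀ C]
  [IsScalarTower A B₀ C]

/-- the canonical isomorphism `(B₀ ⊗[A] A') ⊗[B₀] C ≃ A' ⊗[A] C` -/
noncomputable def relEquiv : (B₀ ⊗[A] A') ⊗[B₀] C ≃+* A' ⊗[A] C :=
  ((Algebra.TensorProduct.comm B₀ (B₀ ⊗[A] A') C).toRingEquiv.trans
    (Algebra.TensorProduct.cancelBaseChange A B₀ B₀ C A').toRingEquiv).trans
    (Algebra.TensorProduct.comm A C A').toRingEquiv

theorem relEquiv_tmul (b : B₀) (a : A') (c : C) :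
    relEquiv A A' B₀ C ((b ⊗ₜ[A] a) ⊗ₜ[B₀] c) = a ⊗ₜ[A] (b • c) := by
  simp [relEquiv]

include h in
theorem mem_range_of_isIntegralElem [Algebra.FiniteType A B₀] (z : A' ⊗[A] C)
    (hz : (T A' (IsScalarTower.toAlgHom A B₀ C)).toRingHom.IsIntegralElem z) :
    z ∈ Set.range (T A' ((integralClosure B₀ C).restrictScalars A).val) := by
  haveI : IsNoetherianRing B₀ := Algebra.FiniteType.isNoetherianRing A B₀
  let c₀ : A' ⊗[A] B₀ ≃+* B₀ ⊗[A] A' := (Algebra.TensorProduct.comm A A' B₀).toRingEquiv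
  haveI : IsNoetherianRing (A' ⊗[A] B₀) := Algebra.FiniteType.isNoetherianRing A' _
  haveI : IsNoetherianRing (B₀ ⊗[A] A') := isNoetherianRing_of_ringEquiv (A' ⊗[A] B₀) c₀
  have hN : EGA4.IsNormalHom B₀ (B₀ ⊗[A] A') :=
    Groth.Agent.S4749.fwd A A' B₀ (Or.inr inferInstance) h
  set e := relEquiv A A' B₀ C with he
  set γ : A' ⊗[A] B₀ →+* A' ⊗[A] C := (T A' (IsScalarTower.toAlgHom A B₀ C)).toRingHom with hγ
  have hi : ∀ x : A' ⊗[A] B₀, e (algebraMap (B₀ ⊗[A] A') ((B₀ ⊗[A] A') ⊗[B₀] C) (c₀ x)) = γ x := by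
    intro x
    induction x using TensorProduct.induction_on with
    | zero => simp
    | tmul a b =>
      rw [Algebra.TensorProduct.algebraMap_apply]
      have : c₀ (a ⊗ₜ[A] b) = b ⊗ₜ[A] a := by simp [c₀]
      rw [this]
      show e ((b ⊗ₜ[A] a) ⊗ₜ[B₀] (1 : C)) = _
      rw [he, relEquiv_tmul]
      simp [hγ, Algebra.smul_def]
    | add x y hx hy => rw [map_add, map_add, map_add, map_add, hx, hy]
  have hcomp : (algebraMap (B₀ ⊗[A] A') ((B₀ ⊗[A] A') ⊗[B₀] C)).comp c₀.toRingHom =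
      e.symm.toRingHom.comp γ := by
    refine RingHom.ext fun x => ?_
    show algebraMap (B₀ ⊗[A] A') ((B₀ ⊗[A] A') ⊗[B₀] C) (c₀ x) = e.symm (γ x)
    rw [← hi x, RingEquiv.symm_apply_apply]
  obtain ⟨Q₀, hQm, hQz⟩ := hz
  have hz' : IsIntegral (B₀ ⊗[A] A') (e.symm z) := by
    refine ⟨Q₀.map c₀.toRingHom, hQm.map _, ?_⟩
    rw [eval₂_map, hcomp]
    have := Polynomial.hom_eval₂ Q₀ γ e.symm.toRingHom z
    exact this.symm.trans (by rw [hQz, map_zero])
  obtain ⟨w, hw⟩ := Groth.Agent.S2671.good B₀ (B₀ ⊗[A] A') hN C (e.symm z) hz'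
  have hzw : z = e (T (B₀ ⊗[A] A') (integralClosure B₀ C).val w) := by
    rw [hw, RingEquiv.apply_symm_apply]
  rw [hzw]
  clear hzw hw hz' hQz
  show e (T (B₀ ⊗[A] A') (integralClosure B₀ C).val w) ∈
    (T A' ((integralClosure B₀ C).restrictScalars A).val).range
  induction w using TensorProduct.induction_on with
  | zero =>
    rw [map_zero, map_zero]
    exact Subalgebra.zero_mem _
  | tmul r d =>
    induction r using TensorProduct.induction_on with
    | zero =>
      rw [TensorProduct.zero_tmul, map_zero, map_zero]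
      exact Subalgebra.zero_mem _
    | tmul b a =>
      have h1 : T (B₀ ⊗[A] A') (integralClosure B₀ C).val ((b ⊗ₜ[A] a) ⊗ₜ[B₀] d) =
          (b ⊗ₜ[A] a) ⊗ₜ[B₀] (d : C) := by simp
      rw [h1, he, relEquiv_tmul]
      have hmem : b • (d : C) ∈ (integralClosure B₀ C).restrictScalars A :=
        (integralClosure B₀ C).smul_mem d.2 b
      refine ⟨a ⊗ₜ[A] ⟨b • (d : C), hmem⟩, ?_⟩
      simp
    | add x y hx hy =>
      rw [TensorProduct.add_tmul, map_add, map_add]
      exact add_mem hx hy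
  | add x y hx hy =>
    rw [map_add, map_add]
    exact add_mem hx hy

end Rel

end Groth.Agent.Lib.Helper69.ICBase
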