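import Mathlib

/-! # Seidenberg's lemma and the derivation bound on the dimension (copied from helper39's S7767)

This is a verbatim copy of the `Seidenberg` section of `Groth/Agent/S7767.lean` (helper39), placed in a
library file so that it can be imported without depending on an S-file.

* `D_mem_of_mem_minimalPrimes`: in characteristic zero, minimal primes over a `D`-stable ideal are
  `D`-stable.
* `le_ringKrullDim_of_derivations`: `D i (x j) = δ_ij` with `x j ∈ m` gives `n ≤ dim R`. -/

set_option autoImplicit false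
universe u

namespace Groth.Agent.Lib.Helper69.Seidenberg

open IsLocalRing Matrix

variable {k R : Type u} [Field k] [CommRing R] [Algebra k R]

theorem D_pow_mul (D : Derivation k R R) (y : R) (n : ℕ) :
    D (y ^ n) * y = (n : R) * y ^ n * D y := by
  rw [Derivation.leibniz_pow]
  rcases n with _ | n
  · simp
  · simp only [Nat.add_sub_cancel, smul_eq_mul, nsmul_eq_mul]
    rw [pow_succ]
    ring

theorem D_pow_succ (D : Derivation k R R) (y : R) (n : ℕ) :
    D (y ^ (n + 1)) = ((n + 1 : ℕ) : R) * y ^ n * D y := by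
  rw [Derivation.leibniz_pow]
  simp only [Nat.add_sub_cancel, smul_eq_mul, nsmul_eq_mul]
  ring

variable [CharZero k]

/-- If `I` is `D`-stable and `b ^ m ∈ I` then `(D b) ^ (2 m) ∈ I` (characteristic zero). -/
theorem pow_D_mem (D : Derivation k R R) (I : Ideal R) (hI : ∀ r ∈ I, D r ∈ I)
    (b : R) (m : ℕ) (hb : b ^ m ∈ I) : (D b) ^ (2 * m) ∈ I := by
  have key : ∀ j : ℕ, j ≤ m → b ^ (m - j) * (D b) ^ (2 * j) ∈ I := by
    intro j
    induction j with
    | zero => intro _; simpa using hb
    | succ j ih =>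
      intro hj
      have h1 := ih (by omega)
      obtain ⟨t, ht⟩ : ∃ t, m - j = t + 1 := ⟨m - j - 1, by omega⟩
      have ht' : m - (j + 1) = t := by omega
      rw [ht] at h1
      rw [ht']
      have h2 := hI _ h1
      rw [Derivation.leibniz, smul_eq_mul, smul_eq_mul] at h2
      have h3 : (b ^ (t + 1) * D ((D b) ^ (2 * j)) + (D b) ^ (2 * j) * D (b ^ (t + 1))) * D b
          ∈ I := I.mul_mem_right _ h2
      have h4 : (b ^ (t + 1) * D ((D b) ^ (2 * j)) + (D b) ^ (2 * j) * D (b ^ (t + 1))) * D b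
          = ((2 * j : ℕ) : R) * D (D b) * (b ^ (t + 1) * (D b) ^ (2 * j)) +
            ((t + 1 : ℕ) : R) * (b ^ t * (D b) ^ (2 * (j + 1))) := by
        have e1 := D_pow_mul D (D b) (2 * j)
        have e2 := D_pow_succ D b t
        calc (b ^ (t + 1) * D ((D b) ^ (2 * j)) + (D b) ^ (2 * j) * D (b ^ (t + 1))) * D b
            = b ^ (t + 1) * (D ((D b) ^ (2 * j)) * D b)
              + (D b) ^ (2 * j) * D b * D (b ^ (t + 1)) := by ring
          _ = b ^ (t + 1) * (((2 * j : ℕ) : R) * (D b) ^ (2 * j) * D (D b))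
              + (D b) ^ (2 * j) * D b * (((t + 1 : ℕ) : R) * b ^ t * D b) := by rw [e1, e2]
          _ = _ := by ring
      rw [h4] at h3
      have h5 : ((t + 1 : ℕ) : R) * (b ^ t * (D b) ^ (2 * (j + 1))) ∈ I := by
        have := I.sub_mem h3 (I.mul_mem_left (((2 * j : ℕ) : R) * D (D b)) h1)
        simpa using this
      have h6 : algebraMap k R (((t + 1 : ℕ) : k)⁻¹) *
          (((t + 1 : ℕ) : R) * (b ^ t * (D b) ^ (2 * (j + 1)))) ∈ I := I.mul_mem_left _ h5
      have h7 : algebraMap k R (((t + 1 : ℕ) : k)⁻¹) * ((t + 1 : ℕ) : R) = 1 := by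
        rw [← map_natCast (algebraMap k R), ← map_mul, inv_mul_cancel₀, map_one]
        exact Nat.cast_ne_zero.mpr (Nat.succ_ne_zero t)
      rwa [← mul_assoc, h7, one_mul] at h6
  have := key m le_rfl
  simpa using this

/-- For a minimal prime `p` over `I` and `a ∈ p`, some `s ∉ p` and `m` have `s * a ^ m ∈ I`. -/
theorem exists_mul_pow_mem {I p : Ideal R} (hp : p ∈ I.minimalPrimes) {a : R} (ha : a ∈ p) :
    ∃ s ∉ p, ∃ m : ℕ, s * a ^ m ∈ I := by
  have hpp : p.IsPrime := hp.1.1
  by_contra hcon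
  have hdisj : Disjoint (I : Set R) ((p.primeCompl ⊔ Submonoid.powers a : Submonoid R) : Set R) := by
    rw [Set.disjoint_left]
    intro r hrI hrS
    obtain ⟨s, hs, z, ⟨m, rfl⟩, rfl⟩ := Submonoid.mem_sup.mp hrS
    exact hcon ⟨s, hs, m, hrI⟩
  obtain ⟨q, hq, hIq, hqS⟩ := Ideal.exists_le_prime_disjoint I _ hdisj
  have hqp : q ≤ p := by
    intro r hr
    by_contra hrp
    exact Set.disjoint_left.mp hqS hr (Submonoid.mem_sup_left hrp)
  have hpq : p ≤ q := hp.2 ⟨hq, hIq⟩ hqp
  exact Set.disjoint_left.mp hqS (hpq ha) (Submonoid.mem_sup_right (Submonoid.mem_powers a))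

/-- Seidenberg: in characteristic zero, minimal primes over a `D`-stable ideal are `D`-stable. -/
theorem D_mem_of_mem_minimalPrimes (D : Derivation k R R) (I : Ideal R) (hI : ∀ r ∈ I, D r ∈ I)
    {p : Ideal R} (hp : p ∈ I.minimalPrimes) {a : R} (ha : a ∈ p) : D a ∈ p := by
  have hpp : p.IsPrime := hp.1.1
  obtain ⟨s, hs, m, hsm⟩ := exists_mul_pow_mem hp ha
  have h1 : (s * a) ^ (m + 1) ∈ I := by
    have : (s * a) ^ (m + 1) = s ^ m * a * (s * a ^ m) := by ring
    rw [this]
    exact I.mul_mem_left _ hsm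
  have h2 := pow_D_mem D I hI (s * a) (m + 1) h1
  have h3 : D (s * a) ∈ p := hpp.mem_of_pow_mem _ (hp.1.2 h2)
  rw [Derivation.leibniz, smul_eq_mul, smul_eq_mul] at h3
  have h4 : s * D a ∈ p := by
    have := p.sub_mem h3 (p.mul_mem_right (D s) ha)
    simpa using this
  exact (hpp.mem_or_mem h4).resolve_left hs

theorem le_ringKrullDim_of_derivations [IsLocalRing R] (n : ℕ) (D : Fin n → Derivation k R R)
    (x : Fin n → R) (hx : ∀ i, x i ∈ IsLocalRing.maximalIdeal R)
    (hD : ∀ i j, D i (x j) = if i = j then 1 else 0) : (n : WithBot ℕ∞) ≤ ringKrullDim R := by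
  have key : ∀ j : ℕ, j ≤ n → ∃ q : Ideal R, q.IsPrime ∧ (j : ℕ∞) ≤ q.height ∧
      ∀ i : Fin n, j ≤ i.val → ∀ r ∈ q, D i r ∈ q := by
    intro j
    induction j with
    | zero =>
      intro _
      obtain ⟨p, hp, -⟩ := Ideal.exists_minimalPrimes_le
        (bot_le : (⊥ : Ideal R) ≤ IsLocalRing.maximalIdeal R)
      refine ⟨p, hp.1.1, by simp, fun i _ r hr => ?_⟩
      exact D_mem_of_mem_minimalPrimes (D i) ⊥ (by simp) hp hr
    | succ j ih =>
      intro hj
      obtain ⟨q, hq, hqh, hqD⟩ := ih (by omega)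
      let i₀ : Fin n := ⟨j, by omega⟩
      have hxq : x i₀ ∉ q := by
        intro h
        have := hqD i₀ le_rfl _ h
        rw [hD, if_pos rfl] at this
        exact hq.ne_top ((Ideal.eq_top_iff_one _).mpr this)
      set I : Ideal R := q ⊔ Ideal.span {x i₀} with hI
      have hIm : I ≤ IsLocalRing.maximalIdeal R := by
        rw [hI, sup_le_iff, Ideal.span_le, Set.singleton_subset_iff]
        exact ⟨IsLocalRing.le_maximalIdeal hq.ne_top, hx i₀⟩
      have hIstab : ∀ i : Fin n, j + 1 ≤ i.val → ∀ r ∈ I, D i r ∈ I := by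
        intro i hi r hr
        obtain ⟨a, ha, b, hb, rfl⟩ := Submodule.mem_sup.mp hr
        obtain ⟨c, rfl⟩ := Ideal.mem_span_singleton'.mp hb
        have hne : i ≠ i₀ := by
          intro h
          rw [h] at hi
          simp [i₀] at hi
        rw [map_add, Derivation.leibniz, hD, if_neg hne, smul_zero, zero_add, smul_eq_mul]
        refine I.add_mem (le_sup_left (a := q) (hqD i (by omega) a ha)) ?_
        exact I.mul_mem_right _ (le_sup_right (a := q) (Ideal.subset_span (Set.mem_singleton _)))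
      obtain ⟨q', hq', -⟩ := Ideal.exists_minimalPrimes_le hIm
      have hq'p : q'.IsPrime := hq'.1.1
      have hlt : q < q' := by
        refine lt_of_le_of_ne (le_sup_left.trans hq'.1.2) ?_
        rintro rfl
        exact hxq (hq'.1.2 (le_sup_right (a := q) (Ideal.subset_span (Set.mem_singleton _))))
      refine ⟨q', hq'p, ?_, fun i hi r hr => ?_⟩
      · have := Ideal.height_add_one_le_of_lt_of_isPrime hlt
        push_cast
        exact (add_le_add_left hqh 1).trans this
      · exact D_mem_of_mem_minimalPrimes (D i) I (hIstab i hi) hq' hr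
  obtain ⟨q, hq, hqh, -⟩ := key n le_rfl
  have h1 := Ideal.height_le_ringKrullDim_of_ne_top hq.ne_top
  refine le_trans ?_ h1
  exact_mod_cast hqh


end Groth.Agent.Lib.Helper69.Seidenberg
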