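import Mathlib
import Groth.Agent.Lib.Helper69.Seidenberg

/-! # Free differentials in characteristic zero imply regularity (helper69)

`k` a field of characteristic zero, `B` a local `k`-algebra essentially of finite type with
`Ω[B⁄k]` projective. Then `B` is a regular local ring.  (No assumption on the residue field.) -/

set_option autoImplicit false
set_option linter.style.haveILetI false

universe u

open IsLocalRing KaehlerDifferential TensorProduct

noncomputable section

namespace Groth.Agent.Lib.Helper69.KaehlerReg

/-- transport of cotangent spaces along an equality of ideals. -/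
def cotEquiv {R : Type*} [CommRing R] {I J : Ideal R} (h : I = J) : I.Cotangent ≃ₗ[R] J.Cotangent := by
  subst h
  exact LinearEquiv.refl _ _

theorem cotEquiv_toCotangent {R : Type*} [CommRing R] {I J : Ideal R} (h : I = J) (x : R)
    (hx : x ∈ I) : cotEquiv h (I.toCotangent ⟨x, hx⟩) = J.toCotangent ⟨x, h ▸ hx⟩ := by
  subst h
  rfl

/-- Making an approximately dual system exactly dual over a local ring. -/
theorem exists_dual_of_residue {B Ω : Type*} [CommRing B] [IsLocalRing B] [AddCommGroup Ω]
    [Module B Ω] {e : ℕ} (v : Fin e → Ω) (φ : Fin e → (Ω →ₗ[B] B))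
    (h : ∀ i j, residue B (φ i (v j)) = if i = j then 1 else 0) :
    ∃ φ' : Fin e → (Ω →ₗ[B] B), ∀ i j, φ' i (v j) = if i = j then 1 else 0 := by
  classical
  let M : Matrix (Fin e) (Fin e) B := Matrix.of fun l j => φ l (v j)
  have hdet : IsUnit M.det := by
    rw [← IsLocalRing.notMem_maximalIdeal, ← residue_eq_zero_iff, RingHom.map_det]
    have : (residue B).mapMatrix M = 1 := by
      ext l j
      rw [RingHom.mapMatrix_apply, Matrix.map_apply, Matrix.one_apply]
      exact h l j
    rw [this, Matrix.det_one]
    exact one_ne_zero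
  refine ⟨fun i => ∑ l, (M⁻¹ i l) • φ l, fun i j => ?_⟩
  rw [LinearMap.sum_apply]
  simp only [LinearMap.smul_apply, smul_eq_mul]
  have : ∑ l, M⁻¹ i l * φ l (v j) = (M⁻¹ * M) i j := by
    rw [Matrix.mul_apply]
    rfl
  rw [this, Matrix.nonsing_inv_mul _ hdet, Matrix.one_apply]

variable (k B : Type u) [Field k] [CharZero k] [CommRing B] [Algebra k B] [IsLocalRing B]
  [Algebra.EssFiniteType k B]

/-- the residue field of `B` is formally smooth over `k`. -/
theorem formallySmooth_residueField : Algebra.FormallySmooth k (ResidueField B) := by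
  haveI : Algebra.EssFiniteType k (ResidueField B) :=
    Algebra.EssFiniteType.comp k B (ResidueField B)
  infer_instance

/-- a retraction of `m/m² → κ ⊗ Ω`. -/
theorem exists_retraction :
    ∃ l : ResidueField B ⊗[B] Ω[B⁄k] →ₗ[B] (RingHom.ker (algebraMap B (ResidueField B))).Cotangent,
      l ∘ₗ (kerCotangentToTensor k B (ResidueField B)) = LinearMap.id := by
  haveI := formallySmooth_residueField k B
  have hf : Function.Surjective (algebraMap B (ResidueField B)) := residue_surjective
  let f := (IsScalarTower.toAlgHom k B (ResidueField B)).kerSquareLift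
  have hfs : Function.Surjective f := by
    intro c
    obtain ⟨b, rfl⟩ := hf c
    exact ⟨Ideal.Quotient.mk _ b, rfl⟩
  have hnil : IsNilpotent (RingHom.ker f.toRingHom) := by
    refine ⟨2, ?_⟩
    rw [(IsScalarTower.toAlgHom k B (ResidueField B)).ker_kerSquareLift,
      Ideal.cotangentIdeal_square]
    rfl
  let g := Algebra.FormallySmooth.liftOfSurjective (AlgHom.id k (ResidueField B)) f hfs hnil
  have hg : f.comp g = AlgHom.id k (ResidueField B) :=
    Algebra.FormallySmooth.comp_liftOfSurjective _ _ hfs hnil
  obtain ⟨l, hl⟩ := (retractionKerCotangentToTensorEquivSection (R := k) hf).symm ⟨g, hg⟩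
  exact ⟨l, hl⟩

/-- **Main lemma**: in characteristic zero, a local ring essentially of finite type over a field
whose module of differentials is projective is regular. -/
theorem isRegularLocalRing_of_projective [Module.Projective B Ω[B⁄k]] :
    IsRegularLocalRing B := by
  classical
  haveI : IsNoetherianRing B := Algebra.EssFiniteType.isNoetherianRing k B
  obtain ⟨l, hl⟩ := exists_retraction k B
  let e := Module.finrank (ResidueField B) (CotangentSpace B)
  let b : Module.Basis (Fin e) (ResidueField B) (CotangentSpace B) :=
    Module.finBasis (ResidueField B) (CotangentSpace B)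
  have hx : ∀ i, ∃ x : maximalIdeal B, (maximalIdeal B).toCotangent x = b i :=
    fun i => Ideal.toCotangent_surjective _ (b i)
  choose x hx using hx
  have hker : RingHom.ker (algebraMap B (ResidueField B)) = maximalIdeal B :=
    IsLocalRing.ker_residue
  let ψ : Fin e → (Ω[B⁄k] →ₗ[B] ResidueField B) := fun i =>
    ((b.coord i).restrictScalars B) ∘ₗ (cotEquiv hker).toLinearMap ∘ₗ l ∘ₗ
      (TensorProduct.mk B (ResidueField B) Ω[B⁄k] 1)
  have hψ : ∀ i j, ψ i (D k B (x j : B)) = if i = j then 1 else 0 := by
    intro i j
    have hxj : (x j : B) ∈ RingHom.ker (algebraMap B (ResidueField B)) := by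
      rw [hker]; exact (x j).2
    have h1 : l ((1 : ResidueField B) ⊗ₜ[B] D k B (x j : B)) =
        (RingHom.ker (algebraMap B (ResidueField B))).toCotangent ⟨x j, hxj⟩ := by
      have := LinearMap.congr_fun hl
        ((RingHom.ker (algebraMap B (ResidueField B))).toCotangent ⟨x j, hxj⟩)
      rw [LinearMap.comp_apply, kerCotangentToTensor_toCotangent] at this
      exact this
    change b.coord i (cotEquiv hker (l ((1 : ResidueField B) ⊗ₜ[B] D k B (x j : B)))) = _
    rw [h1, cotEquiv_toCotangent hker _ hxj]
    have h2 : ∀ h', (maximalIdeal B).toCotangent ⟨(x j : B), h'⟩ = b j := by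
      intro h'
      rw [← hx j]
    rw [h2 _, Module.Basis.coord_apply, Module.Basis.repr_self, Finsupp.single_apply]
    simp only [eq_comm]
  have hφ : ∀ i, ∃ φ : Ω[B⁄k] →ₗ[B] B, (Algebra.linearMap B (ResidueField B)) ∘ₗ φ = ψ i :=
    fun i => Module.projective_lifting_property _ _ residue_surjective
  choose φ hφ using hφ
  obtain ⟨φ', hφ'⟩ := exists_dual_of_residue (fun j => D k B (x j : B)) φ (by
    intro i j
    have := LinearMap.congr_fun (hφ i) (D k B (x j : B))
    rw [LinearMap.comp_apply] at this
    change algebraMap B (ResidueField B) _ = _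
    rw [← hψ i j, ← this]
    rfl)
  have hdim := Groth.Agent.Lib.Helper69.Seidenberg.le_ringKrullDim_of_derivations (k := k) e
    (fun i => (φ' i).compDer (D k B)) (fun j => (x j : B)) (fun j => (x j).2) (by
      intro i j
      exact hφ' i j)
  apply IsRegularLocalRing.of_spanFinrank_maximalIdeal_le
  rw [IsLocalRing.spanFinrank_maximalIdeal_eq_finrank_cotangentSpace]
  exact hdim

end Groth.Agent.Lib.Helper69.KaehlerReg
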