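import Mathlib
import Groth.Agent.S9833
import Groth.Agent.S0566

/-!
# Schemes locally of finite type over Nagata schemes are Nagata (helper69)
-/

set_option autoImplicit false
set_option linter.style.haveILetI false
universe u

open CategoryTheory CategoryTheory.Limits AlgebraicGeometry

namespace Groth.Agent.Lib.Helper69.NagataSch

/-- If every affine open of `Z` has a Nagata coordinate ring and `f : Y ⟶ Z` is locally of finite
type, then every affine open of `Y` has a Nagata coordinate ring. -/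
theorem isNagata_of_locallyOfFiniteType {Y Z : Scheme.{u}} (f : Y ⟶ Z) [LocallyOfFiniteType f]
    (hZ : ∀ U : Z.affineOpens, CAlg.IsNagata Γ(Z, U.1)) (V : Y.Opens) (hV : IsAffineOpen V) :
    CAlg.IsNagata Γ(Y, V) := by
  let ι := {V' : Y.affineOpens // ∃ W : Z.affineOpens, V'.1 ≤ f ⁻¹ᵁ W.1}
  refine Groth.Agent.S9833.result Y (ι := ι) (fun i => i.1.1) ?_ (fun i => i.1.2) ?_ V hV
  · rw [eq_top_iff]
    intro y _
    obtain ⟨W, hW, hyW, -⟩ := exists_isAffineOpen_mem_and_subset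
      (TopologicalSpace.Opens.mem_top (f y))
    have hy' : y ∈ f ⁻¹ᵁ W := hyW
    obtain ⟨V', hV', hyV', hV'W⟩ := exists_isAffineOpen_mem_and_subset hy'
    exact TopologicalSpace.Opens.mem_iSup.mpr ⟨⟨⟨V', hV'⟩, ⟨W, hW⟩, hV'W⟩, hyV'⟩
  · rintro ⟨V', W, hle⟩
    have hft : (f.appLE W.1 V'.1 hle).hom.FiniteType :=
      LocallyOfFiniteType.finiteType_appLE (f := f) W.2 V'.2 hle
    letI : Algebra Γ(Z, W.1) Γ(Y, V'.1) := (f.appLE W.1 V'.1 hle).hom.toAlgebra
    haveI : Algebra.FiniteType Γ(Z, W.1) Γ(Y, V'.1) := hft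
    exact Groth.Agent.S0566.result Γ(Z, W.1) (hZ W) Γ(Y, V'.1)

end Groth.Agent.Lib.Helper69.NagataSch
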