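import Mathlib
import Groth.Agent.Lib.Helper14.NorLocus

/-!
# A DVR criterion

A Noetherian reduced local ring `O` of dimension one which is integrally closed in an overring `T`
in which all nonzerodivisors of `O` become units is a discrete valuation ring.
-/

set_option autoImplicit false
set_option linter.style.haveILetI false

open scoped nonZeroDivisors

namespace Groth.Agent.Lib.Helper69.NormDVR1

open Groth.Agent.Lib.Helper14.NorLocus

variable {O T : Type*} [CommRing O] [CommRing T] [Algebra O T]

theorem isIntegral_of_idempotent {e : T} (he : e * e = e) : IsIntegral O e := by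
  refine ⟨Polynomial.X ^ 2 - Polynomial.X, ?_, ?_⟩
  · exact Polynomial.monic_X_pow_sub (lt_of_le_of_lt Polynomial.degree_X_le
      (by exact_mod_cast (by norm_num : (1 : ℕ) < 2)))
  · simp [pow_two, he]

theorem idempotent_local [IsLocalRing O] {o : O} (ho : o * o = o) : o = 0 ∨ o = 1 := by
  rcases IsLocalRing.isUnit_or_isUnit_one_sub_self o with h | h
  · right
    have h1 : o * o = o * 1 := by rw [ho, mul_one]
    exact h.mul_left_cancel h1
  · left
    have h1 : (1 - o) * o = (1 - o) * 0 := by rw [mul_zero, sub_mul, one_mul, ho, sub_self]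
    exact h.mul_left_cancel h1

variable [IsNoetherianRing O] [IsReduced O] [IsLocalRing O]

theorem isDomain_of_integrallyClosedIn
    (hinj : Function.Injective (algebraMap O T))
    (hcl : ∀ t : T, IsIntegral O t → t ∈ (algebraMap O T).range)
    (hunit : ∀ d ∈ O⁰, IsUnit (algebraMap O T d)) : IsDomain O := by
  obtain ⟨p₁, hp₁, -⟩ := Ideal.exists_minimalPrimes_le
    (I := (⊥ : Ideal O)) (J := IsLocalRing.maximalIdeal O) bot_le
  have hp₁' : p₁ ∈ minimalPrimes O := hp₁
  haveI : p₁.IsPrime := hp₁.1.1
  obtain ⟨y, hy1, hy2⟩ := exists_y p₁ hp₁'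
  obtain ⟨x, hx1, hx2⟩ := exists_x p₁ p₁ (fun q hq hqp =>
    le_antisymm hqp (hp₁.2 ⟨hq.1.1, bot_le⟩ hqp))
  have hyx : y * x = 0 := by
    apply eq_zero_of_forall_mem_minimalPrimes
    intro q hq
    by_cases h : q = p₁
    · subst h; exact Ideal.mul_mem_right _ _ hy1
    · exact Ideal.mul_mem_left _ _ (hx2 q hq h)
  have hd : y + x ∈ O⁰ := by
    apply mem_nonZeroDivisors_of_forall_notMem
    intro q hq hmem
    by_cases h : q = p₁
    · subst h
      apply hx1
      have : y + x - y ∈ q := Ideal.sub_mem _ hmem hy1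
      simpa using this
    · apply hy2 q hq h
      have : y + x - x ∈ q := Ideal.sub_mem _ hmem (hx2 q hq h)
      simpa using this
  obtain ⟨w, hw⟩ := (hunit _ hd).exists_right_inv
  let φ := algebraMap O T
  have hφyx : φ y * φ x = 0 := by rw [← map_mul, hyx, map_zero]
  have hw' : (φ y + φ x) * w = 1 := by rw [← map_add]; exact hw
  let e : T := φ y * w
  have hey : e * (φ y + φ x) = φ y := by
    calc e * (φ y + φ x) = φ y * ((φ y + φ x) * w) := by ring
      _ = φ y := by rw [hw', mul_one]
  have he : e * e = e := by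
    have h1 : φ y * φ y = φ y * (φ y + φ x) := by rw [mul_add, hφyx, add_zero]
    calc e * e = (φ y * φ y) * w * w := by ring
      _ = φ y * (φ y + φ x) * w * w := by rw [h1]
      _ = φ y * ((φ y + φ x) * w) * w := by ring
      _ = e := by rw [hw', mul_one]
  obtain ⟨o, ho⟩ := hcl e (isIntegral_of_idempotent he)
  have ho2 : o * o = o := hinj (by rw [map_mul, ho, he])
  rcases idempotent_local ho2 with rfl | rfl
  · -- e = 0, so y = 0
    have he0 : e = 0 := by rw [← ho, map_zero]
    have hy0 : y = 0 := by
      apply hinj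
      rw [map_zero]
      change φ y = 0
      rw [← hey, he0, zero_mul]
    have honly : ∀ q ∈ minimalPrimes O, q = p₁ := by
      intro q hq
      by_contra h
      exact hy2 q hq h (hy0 ▸ q.zero_mem)
    have hbot : p₁ = ⊥ := by
      rw [eq_bot_iff]
      intro z hz
      rw [Ideal.mem_bot]
      apply eq_zero_of_forall_mem_minimalPrimes
      intro q hq
      rw [honly q hq]; exact hz
    haveI : (⊥ : Ideal O).IsPrime := hbot ▸ ‹p₁.IsPrime›
    exact IsDomain.of_bot_isPrime O
  · -- e = 1, so x = 0
    exfalso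
    have he1 : e = 1 := by rw [← ho, map_one]
    have hx0 : x = 0 := by
      apply hinj
      rw [map_zero]
      change φ x = 0
      have h9 : φ y + φ x = φ y := by
        have := hey
        rw [he1, one_mul] at this
        exact this
      exact add_eq_left.mp h9
    exact hx1 (hx0 ▸ p₁.zero_mem)

theorem isDVR_of_integrallyClosedIn (hdim : ringKrullDim O = 1)
    (hinj : Function.Injective (algebraMap O T))
    (hcl : ∀ t : T, IsIntegral O t → t ∈ (algebraMap O T).range)
    (hunit : ∀ d ∈ O⁰, IsUnit (algebraMap O T d)) :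
    ∃ _ : IsDomain O, IsDiscreteValuationRing O := by
  haveI hdom : IsDomain O := isDomain_of_integrallyClosedIn hinj hcl hunit
  refine ⟨hdom, ?_⟩
  -- integrally closed
  let F := FractionRing O
  have hu : ∀ s : O⁰, IsUnit (algebraMap O T s) := fun s => hunit s s.2
  let τ : F →ₐ[O] T := IsLocalization.liftAlgHom (M := O⁰) (f := Algebra.ofId O T) hu
  have hτ : Function.Injective τ := by
    haveI : Nontrivial T := hinj.nontrivial
    exact τ.toRingHom.injective
  have h1 : IsIntegrallyClosedIn O T := by
    rw [isIntegrallyClosedIn_iff]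
    exact ⟨hinj, fun {t} ht => hcl t ht⟩
  have h2 : IsIntegrallyClosedIn O F := AlgHom.isIntegrallyClosedIn τ hτ h1
  haveI hic : IsIntegrallyClosed O := (isIntegrallyClosed_iff_isIntegrallyClosedIn F).mpr h2
  -- primes
  have hprime : ∀ P : Ideal O, P ≠ ⊥ → P.IsPrime → P = IsLocalRing.maximalIdeal O := by
    intro P hP hPp
    by_contra hne
    have hlt : P < IsLocalRing.maximalIdeal O :=
      lt_of_le_of_ne (IsLocalRing.le_maximalIdeal hPp.ne_top) hne
    have hbot : (⊥ : Ideal O) < P := bot_lt_iff_ne_bot.mpr hP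
    haveI : (⊥ : Ideal O).IsPrime := Ideal.isPrime_bot
    have h3 : (⊥ : Ideal O).height < P.height := Ideal.height_strict_mono_of_isPrime hbot
    have h4 : P.height < (IsLocalRing.maximalIdeal O).height :=
      Ideal.height_strict_mono_of_isPrime hlt
    have h5 : ((IsLocalRing.maximalIdeal O).height : WithBot ℕ∞) ≤ ringKrullDim O :=
      Ideal.height_le_ringKrullDim_of_isPrime
    rw [hdim] at h5
    have h6 : (IsLocalRing.maximalIdeal O).height ≤ 1 := by exact_mod_cast h5
    have h7 : (1 : ℕ∞) ≤ P.height := Order.one_le_iff_pos.mpr (lt_of_le_of_lt bot_le h3)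
    have h8 : (1 : ℕ∞) < (IsLocalRing.maximalIdeal O).height := lt_of_le_of_lt h7 h4
    exact absurd h6 (not_le.mpr h8)
  have hiff : (IsIntegrallyClosed O ∧
      ∀ P : Ideal O, P ≠ ⊥ → P.IsPrime → P = IsLocalRing.maximalIdeal O) ↔
      IsPrincipalIdealRing O :=
    (tfae_of_isNoetherianRing_of_isLocalRing_of_isDomain O).out 3 0
  have hPIR : IsPrincipalIdealRing O := hiff.mp ⟨hic, hprime⟩
  have hnf : IsLocalRing.maximalIdeal O ≠ ⊥ := by
    intro h
    have hf : IsField O := IsLocalRing.isField_iff_maximalIdeal_eq.mpr h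
    have := ringKrullDim_eq_zero_of_isField hf
    rw [hdim] at this
    exact one_ne_zero this
  exact { toIsPrincipalIdealRing := hPIR, toIsLocalRing := inferInstance, not_a_field' := hnf }

end Groth.Agent.Lib.Helper69.NormDVR1
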