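import Mathlib
import Groth.Agent.Lib.Helper69.NormDVR1

/-!
# Ring-level core for: the relative normalization is a DVR at one-dimensional points outside the
image.
-/

set_option autoImplicit false
set_option linter.style.haveILetI false

open scoped nonZeroDivisors

namespace Groth.Agent.Lib.Helper69.NormDVR2

open Groth.Agent.Lib.Helper69.NormDVR1

variable {C B R : Type*} [CommRing C] [CommRing B] [CommRing R] [Algebra C B]
  (P : Ideal C) [P.IsPrime]

local notation "OO" => Localization.AtPrime P
local notation "TT" => Localization (Algebra.algebraMapSubmonoid B P.primeCompl)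

theorem injective_OT (hinj : Function.Injective (algebraMap C B)) :
    Function.Injective (algebraMap OO TT) :=
  localizationAlgebra_injective OO TT hinj

theorem isUnit_algebraMap_CT (s : P.primeCompl) : IsUnit (algebraMap C TT s) :=
  IsLocalization.map_units_map_submonoid B TT s

theorem closed_OT
    (hcl : ∀ b : B, IsIntegral C b → b ∈ (algebraMap C B).range) :
    ∀ t : TT, IsIntegral OO t → t ∈ (algebraMap OO TT).range := by
  intro t ht
  obtain ⟨m, hm⟩ := IsIntegral.exists_multiple_integral_of_isLocalization P.primeCompl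
    (Rₘ := OO) t ht
  obtain ⟨⟨b, ⟨_, s₁, hs₁, rfl⟩⟩, hb⟩ :=
    IsLocalization.surj (Algebra.algebraMapSubmonoid B P.primeCompl) (m • t)
  simp only at hb
  -- β = algebraMap B TT b is integral over C
  have hβ : IsIntegral C (algebraMap B TT b) := by
    rw [← hb, ← IsScalarTower.algebraMap_apply, mul_comm, ← Algebra.smul_def]
    exact hm.smul s₁
  obtain ⟨g, hg, hg0⟩ := hβ
  have h1 : algebraMap B TT (Polynomial.eval₂ (algebraMap C B) b g) = 0 := by
    rw [Polynomial.hom_eval₂, ← IsScalarTower.algebraMap_eq]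
    exact hg0
  obtain ⟨⟨_, s₂, hs₂, rfl⟩, h2⟩ :=
    (IsLocalization.map_eq_zero_iff (Algebra.algebraMapSubmonoid B P.primeCompl) TT _).mp h1
  simp only at h2
  -- b₂ = ι s₂ * b is integral over C
  have hb₂ : IsIntegral C (algebraMap C B s₂ * b) := by
    let g' := Polynomial.X * g
    have hg' : g'.Monic := Polynomial.monic_X.mul hg
    refine ⟨Polynomial.scaleRoots g' s₂, (Polynomial.monic_scaleRoots_iff s₂).mpr hg', ?_⟩
    rw [Polynomial.scaleRoots_eval₂_mul]
    have hdeg : g'.natDegree = g.natDegree + 1 := by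
      rcases subsingleton_or_nontrivial C with hC | hC
      · exact absurd (Subsingleton.elim (1 : C) 0) (by
          intro h
          have : (1 : C) ∈ P := h ▸ P.zero_mem
          exact ‹P.IsPrime›.ne_top ((Ideal.eq_top_iff_one P).mpr this))
      · rw [Polynomial.natDegree_X_mul hg.ne_zero]
    rw [hdeg, pow_succ, Polynomial.eval₂_mul, Polynomial.eval₂_X]
    calc algebraMap C B s₂ ^ g.natDegree * algebraMap C B s₂ *
          (b * Polynomial.eval₂ (algebraMap C B) b g)
        = algebraMap C B s₂ ^ g.natDegree * b *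
          (algebraMap C B s₂ * Polynomial.eval₂ (algebraMap C B) b g) := by ring
      _ = 0 := by rw [h2, mul_zero]
  obtain ⟨c, hc⟩ := hcl _ hb₂
  -- t = c / (s₂ s₁ m)
  let s : P.primeCompl := ⟨s₂, hs₂⟩ * ⟨s₁, hs₁⟩ * m
  refine ⟨IsLocalization.mk' OO c s, ?_⟩
  have hu : IsUnit (algebraMap C TT (s : C)) := isUnit_algebraMap_CT P s
  apply hu.mul_left_cancel
  have h3 : algebraMap C TT (s : C) * algebraMap OO TT (IsLocalization.mk' OO c s) =
      algebraMap C TT c := by
    rw [IsScalarTower.algebraMap_apply C OO TT, ← map_mul, mul_comm, IsLocalization.mk'_spec,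
      ← IsScalarTower.algebraMap_apply]
  rw [h3]
  -- algebraMap C TT c = algebraMap B TT (ι s₂ * b) = s₂ * (s₁ * (m • t))
  rw [IsScalarTower.algebraMap_apply C B TT c, hc, map_mul, ← hb,
    ← IsScalarTower.algebraMap_apply, Submonoid.smul_def, Algebra.smul_def]
  simp only [s, Submonoid.coe_mul, map_mul]
  rw [← IsScalarTower.algebraMap_apply C B TT s₁]
  ring

variable [IsNoetherianRing C] [IsReduced C]

theorem main_ring (φ : C →+* R)
    (hdim : ringKrullDim (Localization.AtPrime P) = 1)
    (hinj : Function.Injective (algebraMap C B))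
    (hcl : ∀ b : B, IsIntegral C b → b ∈ (algebraMap C B).range)
    (hPR : ∀ r : Ideal R, r.IsPrime → r.comap φ ≠ P)
    (hdiv : ∀ d s : C, φ s ∈ Ideal.span {φ d} → s ∉ P →
      ∃ s' : C, s' ∉ P ∧ ∃ b : B, algebraMap C B d * b = algebraMap C B s') :
    ∃ _ : IsDomain (Localization.AtPrime P),
      IsDiscreteValuationRing (Localization.AtPrime P) := by
  apply isDVR_of_integrallyClosedIn (T := TT) hdim (injective_OT P hinj) (closed_OT P hcl)
  intro o ho
  obtain ⟨d, s₀, rfl⟩ := IsLocalization.exists_mk'_eq P.primeCompl o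
  -- d/1 is a nonzerodivisor
  have hd1 : algebraMap C OO d ∈ OO⁰ := by
    have h1 : algebraMap C OO d = IsLocalization.mk' OO d s₀ * algebraMap C OO s₀ :=
      (IsLocalization.mk'_spec OO d s₀).symm
    rw [h1]
    exact mul_mem ho (IsLocalization.map_units OO s₀).mem_nonZeroDivisors
  -- height one
  have hht : P.height = 1 := by
    have := IsLocalization.AtPrime.ringKrullDim_eq_height P OO
    rw [hdim] at this
    exact_mod_cast this.symm
  -- d is in no minimal prime below P
  have hdq : ∀ q ∈ minimalPrimes C, q ≤ P → d ∉ q := by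
    intro q hq hqP hdq
    haveI : q.IsPrime := hq.1.1
    have hdisj : Disjoint (P.primeCompl : Set C) (q : Set C) := by
      rw [Set.disjoint_left]
      intro x hx hxq
      exact hx (hqP hxq)
    have hQ : q.map (algebraMap C OO) ∈ minimalPrimes OO := by
      have h1 := IsLocalization.minimalPrimes_map P.primeCompl OO (⊥ : Ideal C)
      rw [Ideal.map_bot] at h1
      change q.map (algebraMap C OO) ∈ (⊥ : Ideal OO).minimalPrimes
      rw [h1]
      change (q.map (algebraMap C OO)).under C ∈ (⊥ : Ideal C).minimalPrimes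
      rw [IsLocalization.under_map_of_isPrime_disjoint P.primeCompl OO ‹q.IsPrime› hdisj]
      exact hq
    have hmem : algebraMap C OO d ∈ q.map (algebraMap C OO) := Ideal.mem_map_of_mem _ hdq
    exact notMem_nonZeroDivisors_of_mem_mem_minimalPrimes hmem hQ hd1
  -- find s
  obtain ⟨s, hsP, hs⟩ : ∃ s : C, s ∉ P ∧ φ s ∈ Ideal.span {φ d} := by
    let φ' : C →+* R ⧸ Ideal.span {φ d} := (Ideal.Quotient.mk _).comp φ
    by_contra hcon
    push Not at hcon
    have hker : RingHom.ker φ' ≤ P := by
      intro s hs
      by_contra hsP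
      apply hcon s hsP
      rw [RingHom.mem_ker] at hs
      exact Ideal.Quotient.eq_zero_iff_mem.mp hs
    obtain ⟨p', hp', hp'P⟩ := Ideal.exists_minimalPrimes_le hker
    have hp'2 : p' ∈ ((⊥ : Ideal (R ⧸ Ideal.span {φ d})).comap φ').minimalPrimes := by
      rw [← RingHom.ker_eq_comap_bot]; exact hp'
    obtain ⟨q', hq'prime, -, hq'⟩ := Ideal.exists_comap_eq_of_mem_minimalPrimes φ' p' hp'2
    let r : Ideal R := q'.comap (Ideal.Quotient.mk _)
    have hr : r.IsPrime := Ideal.comap_isPrime _ _
    have hrc : r.comap φ = p' := by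
      rw [← hq']; rfl
    have hne : p' ≠ P := hrc ▸ hPR r hr
    have hlt : p' < P := lt_of_le_of_ne hp'P hne
    haveI : p'.IsPrime := hp'.1.1
    have hh : p'.height < P.height := Ideal.height_strict_mono_of_isPrime_of_isPrime hlt
    rw [hht] at hh
    have hh0 : p'.height = 0 := by
      have : p'.height < 1 := hh
      exact Order.lt_one_iff.mp this
    have hmin : p' ∈ minimalPrimes C := Ideal.height_eq_zero_iff.mp hh0
    apply hdq p' hmin hp'P
    -- d ∈ p'
    rw [← hrc]
    change φ d ∈ r
    change (Ideal.Quotient.mk _) (φ d) ∈ q'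
    have : (Ideal.Quotient.mk (Ideal.span {φ d})) (φ d) = 0 :=
      Ideal.Quotient.eq_zero_iff_mem.mpr (Ideal.subset_span rfl)
    rw [this]; exact q'.zero_mem
  obtain ⟨s', hs'P, b, hb⟩ := hdiv d s hs hsP
  -- conclude unit
  have hu : IsUnit (algebraMap C TT s') := isUnit_algebraMap_CT P ⟨s', hs'P⟩
  have h4 : algebraMap C TT d * algebraMap B TT b = algebraMap C TT s' := by
    rw [IsScalarTower.algebraMap_apply C B TT d, ← map_mul, hb, ← IsScalarTower.algebraMap_apply]
  have hud : IsUnit (algebraMap C TT d) := by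
    rw [← h4] at hu
    exact isUnit_of_mul_isUnit_left hu
  have h5 : algebraMap OO TT (IsLocalization.mk' OO d s₀) * algebraMap C TT s₀ =
      algebraMap C TT d := by
    rw [IsScalarTower.algebraMap_apply C OO TT, ← map_mul, IsLocalization.mk'_spec,
      ← IsScalarTower.algebraMap_apply]
  rw [← h5] at hud
  exact isUnit_of_mul_isUnit_left hud

end Groth.Agent.Lib.Helper69.NormDVR2
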