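import Mathlib

/-!
# Idempotents attached to a finite disjoint open cover of an open of a scheme
-/

set_option autoImplicit false
set_option linter.style.haveILetI false
universe u
open CategoryTheory CategoryTheory.Limits AlgebraicGeometry TopologicalSpace Opposite

namespace Groth.Agent.Lib.Helper69.NormRel2

variable {Y : Scheme.{u}} {ι : Type u} (U : ι → Y.Opens) (W : Y.Opens)
  (hUW : ∀ i, U i ≤ W) (hcover : W ≤ iSup U) (hdisj : ∀ i j, i ≠ j → U i ⊓ U j = ⊥)

include hcover hdisj in
theorem exists_idempotents [Fintype ι] [DecidableEq ι] :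
    ∃ e : ι → Γ(Y, W), (∀ i, e i * e i = e i) ∧ (∑ i, e i = 1) ∧
      (∀ i j, (Y.presheaf.map (homOfLE (hUW j)).op).hom (e i) = if j = i then 1 else 0) ∧
      (∀ i, Y.basicOpen (e i) = U i) := by
  have key : ∀ i : ι, ∃ s : Γ(Y, W), ∀ j,
      (Y.presheaf.map (homOfLE (hUW j)).op).hom s = if j = i then 1 else 0 := by
    intro i
    let sf : ∀ j : ι, Γ(Y, U j) := fun j => if j = i then 1 else 0
    have hcompat : TopCat.Presheaf.IsCompatible Y.sheaf.1 U sf := by
      intro j k
      by_cases hjk : j = k
      · subst hjk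
        have : Opens.infLELeft (U j) (U j) = Opens.infLERight (U j) (U j) := Subsingleton.elim _ _
        rw [this]
      · have hbot : U j ⊓ U k = ⊥ := hdisj j k hjk
        have hsub : Subsingleton Γ(Y, U j ⊓ U k) := by
          rw [hbot]; infer_instance
        exact @Subsingleton.elim _ hsub _ _
    obtain ⟨s, hs, -⟩ : ∃! s : Γ(Y, W), ∀ j,
        (Y.presheaf.map (homOfLE (hUW j)).op).hom s = sf j :=
      Y.sheaf.existsUnique_gluing' U W (fun j => homOfLE (hUW j)) hcover sf hcompat
    exact ⟨s, hs⟩
  choose e he using key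
  have hloc : ∀ s t : Γ(Y, W), (∀ j, (Y.presheaf.map (homOfLE (hUW j)).op).hom s =
      (Y.presheaf.map (homOfLE (hUW j)).op).hom t) → s = t := fun s t h =>
    Y.sheaf.eq_of_locally_eq' U W (fun j => homOfLE (hUW j)) hcover s t h
  refine ⟨e, ?_, ?_, he, ?_⟩
  · intro i
    apply hloc
    intro j
    rw [map_mul, he]
    split_ifs <;> simp
  · apply hloc
    intro j
    rw [map_sum, map_one]
    simp only [he]
    rw [Finset.sum_ite_eq]
    simp
  · intro i
    ext y
    constructor
    · intro hy
      have hyW : y ∈ W := Y.basicOpen_le (e i) hy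
      have hyU : y ∈ iSup U := hcover hyW
      obtain ⟨j, hj⟩ := Opens.mem_iSup.mp hyU
      by_cases hji : j = i
      · subst hji; exact hj
      · exfalso
        replace hy := (Scheme.mem_basicOpen Y (e i) y hyW).mp hy
        have h1 : Y.presheaf.germ W y hyW (e i) =
            Y.presheaf.germ (U j) y hj ((Y.presheaf.map (homOfLE (hUW j)).op).hom (e i)) :=
          (TopCat.Presheaf.germ_res_apply Y.presheaf (homOfLE (hUW j)) y hj (e i)).symm
        rw [h1, he, if_neg hji, map_zero] at hy
        exact not_isUnit_zero hy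
    · intro hy
      have hyW : y ∈ W := hUW i hy
      apply (Scheme.mem_basicOpen Y (e i) y hyW).mpr
      have h1 : Y.presheaf.germ W y hyW (e i) =
          Y.presheaf.germ (U i) y hy ((Y.presheaf.map (homOfLE (hUW i)).op).hom (e i)) :=
        (TopCat.Presheaf.germ_res_apply Y.presheaf (homOfLE (hUW i)) y hy (e i)).symm
      rw [h1, he, if_pos rfl, map_one]
      exact isUnit_one

end Groth.Agent.Lib.Helper69.NormRel2
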