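import Mathlib

/-!
# Ring-level input for normality of relative normalizations

`C → B` injective and integrally closed, `e ∈ B` an idempotent in the image of `C` such that the
localization `B_e` is an integrally closed domain.  Then for every prime `P` of `C` not containing
(the preimage of) `e`, the local ring `C_P` is an integrally closed domain.
-/

set_option autoImplicit false
set_option linter.style.haveILetI false

namespace Groth.Agent.Lib.Helper69.NormRel1

/-- two minimal primes below a prime `q` with `R_q` a domain coincide. -/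
theorem minimalPrimes_eq_of_isDomain_localization {R : Type*} [CommRing R] (q : Ideal R)
    [q.IsPrime] (A : Type*) [CommRing A] [Algebra R A] [IsLocalization.AtPrime A q] [IsDomain A]
    {p₁ p₂ : Ideal R} (h₁ : p₁ ∈ minimalPrimes R) (h₂ : p₂ ∈ minimalPrimes R)
    (h₁q : p₁ ≤ q) (h₂q : p₂ ≤ q) : p₁ = p₂ := by
  have key : ∀ p : Ideal R, p ∈ minimalPrimes R → p ≤ q →
      p = (⊥ : Ideal A).comap (algebraMap R A) := by
    intro p hp hpq
    haveI : p.IsPrime := hp.1.1
    have hdisj : Disjoint (q.primeCompl : Set R) (p : Set R) := by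
      rw [Set.disjoint_left]
      intro x hx hxp
      exact hx (hpq hxp)
    have h2 := IsLocalization.under_map_of_isPrime_disjoint q.primeCompl A ‹p.IsPrime› hdisj
    have hle : (⊥ : Ideal A).comap (algebraMap R A) ≤ p := by
      calc (⊥ : Ideal A).comap (algebraMap R A)
          ≤ (p.map (algebraMap R A)).comap (algebraMap R A) := Ideal.comap_mono bot_le
        _ = p := h2
    have hprime : ((⊥ : Ideal A).comap (algebraMap R A)).IsPrime :=
      Ideal.comap_isPrime _ _
    exact le_antisymm (hp.2 ⟨hprime, bot_le⟩ hle) hle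
  rw [key p₁ h₁ h₁q, key p₂ h₂ h₂q]

variable {C B B' : Type*} [CommRing C] [CommRing B] [CommRing B'] [Algebra C B] [Algebra B B']

theorem normal_localization_of_idempotent [IsDomain B'] [IsIntegrallyClosed B']
    (hinj : Function.Injective (algebraMap C B))
    (hcl : ∀ b : B, IsIntegral C b → b ∈ (algebraMap C B).range)
    (e : B) (he : e * e = e) [IsLocalization.Away e B']
    (P : Ideal C) [P.IsPrime] (a : C) (ha : algebraMap C B a = e) (haP : a ∉ P) :
    IsDomain (Localization.AtPrime P) ∧ IsIntegrallyClosed (Localization.AtPrime P) := by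
  classical
  let ρ : B →+* B' := algebraMap B B'
  let ψ : C →+* B' := ρ.comp (algebraMap C B)
  have hρe : ρ e = 1 := by
    have hu : IsUnit (ρ e) := IsLocalization.Away.algebraMap_isUnit e
    have h1 : ρ e * ρ e = ρ e * 1 := by rw [← map_mul, he, mul_one]
    exact hu.mul_left_cancel h1
  have hpow : ∀ n : ℕ, e ^ (n + 1) = e := by
    intro n
    induction n with
    | zero => simp
    | succ n ih => rw [pow_succ, ih, he]
  have hker : ∀ b : B, ρ b = 0 → e * b = 0 := by
    intro b hb
    obtain ⟨⟨_, n, rfl⟩, hc⟩ := (IsLocalization.eq_iff_exists (Submonoid.powers e) B').mp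
      (show ρ b = ρ 0 by rw [hb, map_zero])
    simp only [mul_zero] at hc
    calc e * b = e ^ (n + 1) * b := by rw [hpow]
      _ = e * (e ^ n * b) := by rw [pow_succ]; ring
      _ = 0 := by rw [hc, mul_zero]
  have hsurj : ∀ β : B', ∃ b : B, ρ b = β ∧ e * b = b := by
    intro β
    obtain ⟨⟨b, ⟨_, n, rfl⟩⟩, hb⟩ := IsLocalization.surj (Submonoid.powers e) β
    simp only at hb
    refine ⟨e * b, ?_, by rw [← mul_assoc, he]⟩
    rw [map_mul, hρe, one_mul]
    have : ρ (e ^ n) = 1 := by rw [map_pow, hρe, one_pow]
    change β * ρ (e ^ n) = ρ b at hb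
    rw [this, mul_one] at hb
    exact hb.symm
  have hψ0 : ∀ c : C, ψ c = 0 → a * c = 0 := by
    intro c hc
    apply hinj
    rw [map_mul, ha, map_zero]
    exact hker _ hc
  have hψs : ∀ s : C, s ∉ P → ψ s ≠ 0 := by
    intro s hs h0
    have h1 : a * s = 0 := hψ0 s h0
    have h2 : a * s ∈ P := by rw [h1]; exact P.zero_mem
    rcases Ideal.IsPrime.mem_or_mem ‹_› h2 with h | h
    · exact haP h
    · exact hs h
  let K := FractionRing B'
  let ψK : C →+* K := (algebraMap B' K).comp ψ
  have hψK0 : ∀ c : C, ψK c = 0 → ψ c = 0 := by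
    intro c hc
    apply IsFractionRing.injective B' K
    rw [map_zero]; exact hc
  have hunit : ∀ s : P.primeCompl, IsUnit (ψK s) := by
    intro s
    apply IsUnit.mk0
    intro h
    exact hψs s s.2 (hψK0 _ h)
  let ψP : Localization.AtPrime P →+* K := IsLocalization.lift hunit
  have hψP_comp : ∀ c : C, ψP (algebraMap C (Localization.AtPrime P) c) = ψK c :=
    fun c => IsLocalization.lift_eq hunit c
  have hψP_inj : Function.Injective ψP := by
    rw [injective_iff_map_eq_zero]
    intro x hx
    obtain ⟨c, s, rfl⟩ := IsLocalization.exists_mk'_eq P.primeCompl x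
    have h1 : ψP (IsLocalization.mk' (Localization.AtPrime P) c s) * ψK s = ψK c := by
      rw [← hψP_comp, ← hψP_comp, ← map_mul, IsLocalization.mk'_spec]
    rw [hx, zero_mul] at h1
    have h2 : a * c = 0 := hψ0 c (hψK0 c h1.symm)
    rw [IsLocalization.mk'_eq_zero_iff]
    exact ⟨⟨a, haP⟩, h2⟩
  have hdom : IsDomain (Localization.AtPrime P) := hψP_inj.isDomain ψP
  refine ⟨hdom, ?_⟩
  -- algebra structures
  letI algCB' : Algebra C B' := ψ.toAlgebra
  haveI tow4 : IsScalarTower C B B' := IsScalarTower.of_algebraMap_eq' rfl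
  letI algP : Algebra (Localization.AtPrime P) K := ψP.toAlgebra
  have hCK : ∀ c : C, algebraMap C K c = ψK c := fun c => IsScalarTower.algebraMap_apply C B' K c
  haveI tow1 : IsScalarTower C (Localization.AtPrime P) K :=
    IsScalarTower.of_algebraMap_eq' (by
      ext c
      rw [hCK]
      exact (hψP_comp c).symm)
  -- integrally closed in K
  have hclK : IsIntegrallyClosedIn (Localization.AtPrime P) K := by
    rw [isIntegrallyClosedIn_iff]
    refine ⟨hψP_inj, ?_⟩
    intro k hk
    obtain ⟨s, hs⟩ := IsIntegral.exists_multiple_integral_of_isLocalization P.primeCompl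
      (Rₘ := Localization.AtPrime P) k hk
    -- s • k is integral over C, hence over B', so lies in B'
    have hsB' : IsIntegral B' (s • k) := hs.tower_top
    obtain ⟨β, hβ⟩ := IsIntegrallyClosed.isIntegral_iff.mp hsB'
    obtain ⟨b, hb, hbe⟩ := hsurj β
    -- β is integral over C
    have hβint : IsIntegral C β := by
      have : IsIntegral C (algebraMap B' K β) := by rw [hβ]; exact hs
      exact (isIntegral_algebraMap_iff (IsFractionRing.injective B' K)).mp this
    -- b is integral over C
    have hbint : IsIntegral C b := by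
      obtain ⟨g, hg, hg0⟩ := hβint
      refine ⟨Polynomial.X * g, Polynomial.monic_X.mul hg, ?_⟩
      rw [Polynomial.eval₂_mul, Polynomial.eval₂_X]
      have h1 : ρ (Polynomial.eval₂ (algebraMap C B) b g) = 0 := by
        rw [Polynomial.hom_eval₂, hb]
        exact hg0
      have h2 := hker _ h1
      calc b * Polynomial.eval₂ (algebraMap C B) b g
          = (e * b) * Polynomial.eval₂ (algebraMap C B) b g := by rw [hbe]
        _ = b * (e * Polynomial.eval₂ (algebraMap C B) b g) := by ring
        _ = 0 := by rw [h2, mul_zero]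
    obtain ⟨c, hc⟩ := hcl b hbint
    refine ⟨IsLocalization.mk' (Localization.AtPrime P) c s, ?_⟩
    have h3 : ψK c = (s : C) • k := by
      change algebraMap B' K (ρ (algebraMap C B c)) = _
      rw [hc, hb, hβ]
      rfl
    have h4 : (s : C) • k = ψK s * k := by
      rw [Algebra.smul_def]; rfl
    have h5 : ψP (IsLocalization.mk' (Localization.AtPrime P) c s) * ψK s = ψK c := by
      rw [← hψP_comp, ← hψP_comp, ← map_mul, IsLocalization.mk'_spec]
    change ψP (IsLocalization.mk' (Localization.AtPrime P) c s) = k
    have h6 : ψK s ≠ 0 := (hunit s).ne_zero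
    apply mul_right_cancel₀ h6
    rw [h5, h3, h4, mul_comm]
  -- transfer to the fraction field
  let F := FractionRing (Localization.AtPrime P)
  let φ : F →ₐ[Localization.AtPrime P] K := IsFractionRing.liftAlgHom (K := F)
    (g := Algebra.ofId (Localization.AtPrime P) K) hψP_inj
  have hφ : Function.Injective φ := φ.toRingHom.injective
  have h2 : IsIntegrallyClosedIn (Localization.AtPrime P) F :=
    AlgHom.isIntegrallyClosedIn φ hφ hclK
  exact (isIntegrallyClosed_iff_isIntegrallyClosedIn F).mpr h2

end Groth.Agent.Lib.Helper69.NormRel1
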