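import Mathlib
import Groth.Agent.Lib.Helper69.NormRel1
import Groth.Agent.Lib.Helper69.DomGeneric

/-!
# Topology of schemes with domain stalks and locally finitely many irreducible components
-/

set_option autoImplicit false
set_option linter.style.haveILetI false
set_option backward.isDefEq.respectTransparency.types false
universe u
open CategoryTheory CategoryTheory.Limits AlgebraicGeometry TopologicalSpace Opposite

namespace Groth.Agent.Lib.Helper69.NormRel3

open Groth.Agent.Lib.Helper69.BiratBC Groth.Agent.Lib.Helper69.GUBiratSch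
  Groth.Agent.Lib.Helper69.DomGeneric Groth.Agent.Lib.Helper69.NormRel1

variable {Y : Scheme.{u}}

/-- In a scheme whose local rings are domains, a point has at most one generic generization. -/
theorem eq_of_specializes (hY : ∀ y : Y, IsDomain (Y.presheaf.stalk y)) {η₁ η₂ y : Y}
    (h₁ : η₁ ∈ genericPoints Y) (h₂ : η₂ ∈ genericPoints Y) (hs₁ : η₁ ⤳ y) (hs₂ : η₂ ⤳ y) :
    η₁ = η₂ := by
  obtain ⟨V, hV, hyV⟩ : ∃ V : Y.Opens, IsAffineOpen V ∧ y ∈ V :=
    ⟨(Y.affineCover.f (Y.affineCover.idx y)).opensRange, isAffineOpen_opensRange _,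
      Y.affineCover.covers y⟩
  have h1V : η₁ ∈ V := hs₁.mem_open V.isOpen hyV
  have h2V : η₂ ∈ V := hs₂.mem_open V.isOpen hyV
  have hr : ∀ z : Y, z ∈ V → ∃ q : Spec Γ(Y, V), hV.fromSpec q = z := by
    intro z hz
    have : z ∈ Set.range hV.fromSpec := by rw [hV.range_fromSpec]; exact hz
    exact this
  obtain ⟨q, rfl⟩ := hr y hyV
  obtain ⟨p₁, rfl⟩ := hr η₁ h1V
  obtain ⟨p₂, rfl⟩ := hr η₂ h2V
  have hp1 := (mem_genericPoints_iff_of_isOpenImmersion hV.fromSpec p₁).mp h₁
  have hp2 := (mem_genericPoints_iff_of_isOpenImmersion hV.fromSpec p₂).mp h₂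
  have hle1 : (p₁ : PrimeSpectrum Γ(Y, V)).asIdeal ≤ (q : PrimeSpectrum Γ(Y, V)).asIdeal :=
    (PrimeSpectrum.le_iff_specializes (p₁ : PrimeSpectrum Γ(Y, V)) q).mpr
      (hV.fromSpec.isOpenEmbedding.isInducing.specializes_iff.mp hs₁)
  have hle2 : (p₂ : PrimeSpectrum Γ(Y, V)).asIdeal ≤ (q : PrimeSpectrum Γ(Y, V)).asIdeal :=
    (PrimeSpectrum.le_iff_specializes (p₂ : PrimeSpectrum Γ(Y, V)) q).mpr
      (hV.fromSpec.isOpenEmbedding.isInducing.specializes_iff.mp hs₂)
  -- the stalk at q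
  let e : Y.presheaf.stalk (hV.fromSpec q) ≃+* (Spec Γ(Y, V)).presheaf.stalk q :=
    (asIso (hV.fromSpec.stalkMap q)).commRingCatIsoToRingEquiv
  haveI := hY (hV.fromSpec q)
  haveI hdom : IsDomain ((Spec Γ(Y, V)).presheaf.stalk q) := e.symm.toMulEquiv.isDomain
  letI : Algebra Γ(Y, V) ((Spec Γ(Y, V)).presheaf.stalk q) :=
    StructureSheaf.stalkAlgebra Γ(Y, V) q
  haveI hq : (q : PrimeSpectrum Γ(Y, V)).asIdeal.IsPrime := (q : PrimeSpectrum Γ(Y, V)).isPrime
  haveI hloc : IsLocalization.AtPrime ((Spec Γ(Y, V)).presheaf.stalk q)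
      (q : PrimeSpectrum Γ(Y, V)).asIdeal :=
    StructureSheaf.IsLocalization.to_stalk Γ(Y, V) q
  have := minimalPrimes_eq_of_isDomain_localization (q : PrimeSpectrum Γ(Y, V)).asIdeal
    ((Spec Γ(Y, V)).presheaf.stalk q) hp1 hp2 hle1 hle2
  have h3 : p₁ = p₂ := PrimeSpectrum.ext this
  rw [h3]

/-- finitely many generic points in a compact subset. -/
theorem finite_genericPoints_inter
    (hfin : LocallyFinite (fun Z : ↥(irreducibleComponents ↥Y) => (Z : Set ↥Y)))
    (W : Set Y) (hW : IsCompact W) : (genericPoints Y ∩ W).Finite := by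
  have h1 := hfin.finite_nonempty_inter_compact hW
  let g : Y → Set Y := fun η => closure {η}
  have hg : Set.InjOn g (genericPoints Y ∩ W) := by
    intro a _ b _ hab
    exact (inseparable_iff_closure_eq.mpr hab).eq
  have h2 : (g '' (genericPoints Y ∩ W)) ⊆
      Subtype.val '' {Z : ↥(irreducibleComponents ↥Y) | ((Z : Set Y) ∩ W).Nonempty} := by
    rintro _ ⟨η, ⟨hη, hηW⟩, rfl⟩
    exact ⟨⟨closure {η}, hη⟩, ⟨η, subset_closure rfl, hηW⟩, rfl⟩
  exact Set.Finite.of_finite_image ((h1.image _).subset h2) hg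

/-- the piece of `W` belonging to the generic point `η`. -/
def piece (W : Set Y) (η : Y) : Set Y :=
  W \ ⋃ η' ∈ {η' | η' ∈ genericPoints Y ∩ W ∧ η' ≠ η}, closure {η'}

theorem isOpen_piece {W : Set Y} (hWo : IsOpen W) (hF : (genericPoints Y ∩ W).Finite) (η : Y) :
    IsOpen (piece W η) := by
  unfold piece
  rw [Set.sdiff_eq]
  apply hWo.inter
  rw [isOpen_compl_iff]
  apply Set.Finite.isClosed_biUnion
  · exact hF.subset (fun x hx => hx.1)
  · intro i _
    exact isClosed_closure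

theorem piece_subset (W : Set Y) (η : Y) : piece W η ⊆ W := Set.sdiff_subset

theorem exists_generic {W : Set Y} (hWo : IsOpen W) {y : Y} (hy : y ∈ W) :
    ∃ η, η ∈ genericPoints Y ∩ W ∧ η ⤳ y := by
  obtain ⟨η, hη, hηy⟩ := exists_genericPoints_specializes y
  exact ⟨η, ⟨hη, hηy.mem_open hWo hy⟩, hηy⟩

theorem mem_piece_of_specializes (hY : ∀ y : Y, IsDomain (Y.presheaf.stalk y)) {W : Set Y}
    {η y : Y} (hη : η ∈ genericPoints Y) (hy : y ∈ W) (hηy : η ⤳ y) : y ∈ piece W η := by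
  refine ⟨hy, ?_⟩
  simp only [Set.mem_iUnion, not_exists]
  rintro η' ⟨⟨hη', _⟩, hne⟩ hy'
  exact hne (eq_of_specializes hY hη' hη (specializes_iff_mem_closure.mpr hy') hηy)

theorem specializes_of_mem_piece {W : Set Y} (hWo : IsOpen W) {η y : Y} (hy : y ∈ piece W η) :
    η ∈ genericPoints Y ∩ W ∧ η ⤳ y := by
  obtain ⟨η', hη', hη'y⟩ := exists_generic hWo hy.1
  by_cases h : η' = η
  · subst h; exact ⟨hη', hη'y⟩
  · exfalso
    apply hy.2
    simp only [Set.mem_iUnion]
    exact ⟨η', ⟨hη', h⟩, specializes_iff_mem_closure.mp hη'y⟩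

theorem piece_disjoint {W : Set Y} (hWo : IsOpen W) {η η' : Y} (hne : η ≠ η') :
    piece W η ∩ piece W η' = ∅ := by
  rw [Set.eq_empty_iff_forall_notMem]
  rintro y ⟨h1, h2⟩
  obtain ⟨hη, hηy⟩ := specializes_of_mem_piece hWo h1
  apply h2.2
  simp only [Set.mem_iUnion]
  exact ⟨η, ⟨hη, hne⟩, specializes_iff_mem_closure.mp hηy⟩

theorem mem_piece_self (hY : ∀ y : Y, IsDomain (Y.presheaf.stalk y)) {W : Set Y} {η : Y}
    (hη : η ∈ genericPoints Y ∩ W) : η ∈ piece W η :=
  mem_piece_of_specializes hY hη.1 hη.2 specializes_rfl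

theorem isIrreducible_piece (hY : ∀ y : Y, IsDomain (Y.presheaf.stalk y)) {W : Set Y}
    (hWo : IsOpen W) (hF : (genericPoints Y ∩ W).Finite) {η : Y}
    (hη : η ∈ genericPoints Y ∩ W) : IsIrreducible (piece W η) := by
  refine ⟨⟨η, mem_piece_self hY hη⟩, ?_⟩
  apply (isIrreducible_singleton (x := η)).closure.isPreirreducible.open_subset
    (isOpen_piece hWo hF η)
  intro y hy
  exact specializes_iff_mem_closure.mp (specializes_of_mem_piece hWo hy).2

end Groth.Agent.Lib.Helper69.NormRel3
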