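import Mathlib
import Groth.Prelude.Def_Pi1
import Groth.Agent.S2102
import Groth.Agent.Lib.Helper7.NormField
import Groth.Agent.Lib.Helper69.NormRel2
import Groth.Agent.Lib.Helper69.NormRel3

/-!
# Relative normalization in a normal scheme with locally finitely many components: charts
-/

set_option autoImplicit false
set_option linter.style.haveILetI false
set_option backward.isDefEq.respectTransparency.types false
universe u
open CategoryTheory CategoryTheory.Limits AlgebraicGeometry TopologicalSpace Opposite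

namespace Groth.Agent.Lib.Helper69.NormRel4

open Groth.Agent.Lib.Helper69.NormRel1 Groth.Agent.Lib.Helper69.NormRel2
  Groth.Agent.Lib.Helper69.NormRel3 Groth.Agent.Lib.Helper7.NormField

variable {Y : Scheme.{u}}

/-- sections of a normal scheme over an irreducible open form an integrally closed domain. -/
theorem normal_sections (hY : Pi1.IsNormalScheme Y) (O : Y.Opens)
    (hO : IsIrreducible (O : Set Y)) : IsDomain Γ(Y, O) ∧ IsIntegrallyClosed Γ(Y, O) := by
  haveI : IrreducibleSpace ↥(O : Scheme) := Subtype.irreducibleSpace hO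
  haveI : ∀ x : Y, _root_.IsReduced (Y.presheaf.stalk x) := fun x => by
    haveI := (hY x).1
    infer_instance
  haveI : IsReduced Y := isReduced_of_isReduced_stalk Y
  haveI : IsReduced (O : Scheme) := inferInstance
  haveI : IsIntegral (O : Scheme) := isIntegral_of_irreducibleSpace_of_isReduced _
  have hn : Pi1.IsNormalScheme (O : Scheme) := isNormalScheme_of_isOpenImmersion O.ι hY
  haveI h1 : IsIntegrallyClosed Γ((O : Scheme), ⊤) := Groth.Agent.S2102.result (O : Scheme) hn
  haveI h2 : IsDomain Γ((O : Scheme), ⊤) := inferInstance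
  let e : Γ((O : Scheme), ⊤) ≃+* Γ(Y, O) := O.topIso.commRingCatIsoToRingEquiv
  exact ⟨e.symm.toMulEquiv.isDomain, IsIntegrallyClosed.of_equiv e⟩

/-- generic points inside an open. -/
abbrev GenIn (W : Y.Opens) := {η : Y // η ∈ genericPoints Y ∩ (W : Set Y)}

/-- the open piece. -/
def pieceOpen (W : Y.Opens) (hF : (genericPoints Y ∩ (W : Set Y)).Finite) (η : Y) : Y.Opens :=
  ⟨piece (W : Set Y) η, isOpen_piece W.isOpen hF η⟩

theorem exists_idem (hY : ∀ y : Y, IsDomain (Y.presheaf.stalk y)) (W : Y.Opens)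
    (hF : (genericPoints Y ∩ (W : Set Y)).Finite) :
    ∃ (_ : Fintype (GenIn W)) (e : GenIn W → Γ(Y, W)),
      (∀ i, e i * e i = e i) ∧ (∑ i, e i = 1) ∧
      (∀ i, Y.basicOpen (e i) = pieceOpen W hF i.1) := by
  classical
  letI : Fintype (GenIn W) := hF.fintype
  have hUW : ∀ i : GenIn W, pieceOpen W hF i.1 ≤ W := fun i => piece_subset _ _
  have hcover : W ≤ iSup (fun i : GenIn W => pieceOpen W hF i.1) := by
    intro y hy
    obtain ⟨η, hη, hηy⟩ := exists_generic W.isOpen hy
    exact Opens.mem_iSup.mpr ⟨⟨η, hη⟩, mem_piece_of_specializes hY hη.1 hy hηy⟩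
  have hdisj : ∀ i j : GenIn W, i ≠ j → pieceOpen W hF i.1 ⊓ pieceOpen W hF j.1 = ⊥ := by
    intro i j hij
    ext y
    have := piece_disjoint (Y := Y) W.isOpen (η := i.1) (η' := j.1)
      (fun h => hij (Subtype.ext h))
    simp only [Opens.coe_inf, Opens.coe_bot, Set.mem_empty_iff_false, iff_false]
    intro hy
    have h2 : y ∈ piece (W : Set Y) i.1 ∩ piece (W : Set Y) j.1 := hy
    rw [this] at h2
    exact h2
  obtain ⟨e, he1, he2, -, he4⟩ := exists_idempotents (fun i : GenIn W => pieceOpen W hF i.1) W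
    hUW hcover hdisj
  exact ⟨inferInstance, e, he1, he2, he4⟩

/-- `Spec C` is normal if all localizations at primes are normal domains. -/
theorem isNormalScheme_Spec_of_localization (C : CommRingCat.{u})
    (h : ∀ (P : Ideal C) [P.IsPrime],
      IsDomain (Localization.AtPrime P) ∧ IsIntegrallyClosed (Localization.AtPrime P)) :
    Pi1.IsNormalScheme (Spec C) := by
  intro y
  letI : Algebra C ((Spec C).presheaf.stalk y) := StructureSheaf.stalkAlgebra C y
  haveI hy : (y : PrimeSpectrum C).asIdeal.IsPrime := (y : PrimeSpectrum C).isPrime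
  haveI hloc : IsLocalization.AtPrime ((Spec C).presheaf.stalk y)
      (y : PrimeSpectrum C).asIdeal :=
    StructureSheaf.IsLocalization.to_stalk C y
  obtain ⟨h1, h2⟩ := h (y : PrimeSpectrum C).asIdeal
  let e : Localization.AtPrime (y : PrimeSpectrum C).asIdeal ≃+* (Spec C).presheaf.stalk y :=
    (IsLocalization.algEquiv (y : PrimeSpectrum C).asIdeal.primeCompl
      (Localization.AtPrime (y : PrimeSpectrum C).asIdeal)
      ((Spec C).presheaf.stalk y)).toRingEquiv
  exact ⟨e.symm.toMulEquiv.isDomain, IsIntegrallyClosed.of_equiv e⟩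

variable {X : Scheme.{u}} (f : Y ⟶ X) [QuasiCompact f] [QuasiSeparated f]

theorem isNormalScheme_chart (hY : Pi1.IsNormalScheme Y)
    (hfin : LocallyFinite (fun Z : ↥(irreducibleComponents ↥Y) => (Z : Set ↥Y)))
    (U : X.affineOpens) :
    letI := (f.app U.1).hom.toAlgebra
    Pi1.IsNormalScheme
      (Spec (CommRingCat.of (integralClosure Γ(X, U.1) Γ(Y, f ⁻¹ᵁ U.1)))) := by
  letI := (f.app U.1).hom.toAlgebra
  have hYd : ∀ y : Y, IsDomain (Y.presheaf.stalk y) := fun y => (hY y).1
  have hWc : IsCompact ((f ⁻¹ᵁ U.1 : Y.Opens) : Set Y) := f.isCompact_preimage U.2.isCompact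
  have hWqs : IsQuasiSeparated ((f ⁻¹ᵁ U.1 : Y.Opens) : Set Y) :=
    f.isQuasiSeparated_preimage U.2.isQuasiSeparated
  have hF : (genericPoints Y ∩ ((f ⁻¹ᵁ U.1 : Y.Opens) : Set Y)).Finite :=
    finite_genericPoints_inter hfin _ hWc
  obtain ⟨_, e, he1, he2, he4⟩ := exists_idem hYd (f ⁻¹ᵁ U.1) hF
  apply isNormalScheme_Spec_of_localization
  intro P hP
  change Ideal (integralClosure Γ(X, U.1) Γ(Y, f ⁻¹ᵁ U.1)) at P
  have hint : ∀ i, IsIntegral Γ(X, U.1) (e i) := by
    intro i
    refine ⟨Polynomial.X ^ 2 - Polynomial.X, ?_, ?_⟩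
    · exact Polynomial.monic_X_pow_sub (lt_of_le_of_lt Polynomial.degree_X_le
        (by exact_mod_cast (by norm_num : (1 : ℕ) < 2)))
    · simp [pow_two, he1 i]
  let a : GenIn (f ⁻¹ᵁ U.1) → integralClosure Γ(X, U.1) Γ(Y, f ⁻¹ᵁ U.1) :=
    fun i => ⟨e i, hint i⟩
  have hsum : ∑ i, a i = 1 := by
    apply Subtype.ext
    rw [AddSubmonoidClass.coe_finsetSum]
    exact he2
  obtain ⟨i, hi⟩ : ∃ i, a i ∉ P := by
    by_contra hcon
    push Not at hcon
    have : (1 : integralClosure Γ(X, U.1) Γ(Y, f ⁻¹ᵁ U.1)) ∈ P := by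
      rw [← hsum]
      exact Ideal.sum_mem _ (fun i _ => hcon i)
    exact hP.ne_top ((Ideal.eq_top_iff_one P).mpr this)
  have hirr : IsIrreducible ((Y.basicOpen (e i) : Y.Opens) : Set Y) := by
    rw [he4 i]
    exact isIrreducible_piece hYd (f ⁻¹ᵁ U.1).isOpen hF i.2
  obtain ⟨hd, hic⟩ := normal_sections hY (Y.basicOpen (e i)) hirr
  haveI hloc : IsLocalization.Away (e i) Γ(Y, Y.basicOpen (e i)) :=
    isLocalization_basicOpen_of_qcqs hWc hWqs (e i)
  refine normal_localization_of_idempotent (C := integralClosure Γ(X, U.1) Γ(Y, f ⁻¹ᵁ U.1))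
    (B := Γ(Y, f ⁻¹ᵁ U.1)) (B' := Γ(Y, Y.basicOpen (e i))) Subtype.val_injective ?_ (e i)
    (he1 i) P (a i) rfl hi
  intro b hb
  have hb' : IsIntegral Γ(X, U.1) b := isIntegral_trans b hb
  exact ⟨⟨b, hb'⟩, rfl⟩

theorem isNormalScheme_normalization (hY : Pi1.IsNormalScheme Y)
    (hfin : LocallyFinite (fun Z : ↥(irreducibleComponents ↥Y) => (Z : Set ↥Y))) :
    Pi1.IsNormalScheme f.normalization := by
  apply isNormalScheme_of_openCover f.normalizationOpenCover
  intro U
  have := isNormalScheme_chart f hY hfin U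
  dsimp [Scheme.Hom.normalizationOpenCover, Scheme.Hom.normalizationGlueData,
    Scheme.Cover.RelativeGluingData.cover, Scheme.AffineZariskiSite.relativeGluingData]
  exact this

end Groth.Agent.Lib.Helper69.NormRel4
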