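import Mathlib
import Groth.Prelude.Def_Found
import Groth.Agent.S9675
import Groth.Agent.Lib.Helper69.NormDVR2
import Groth.Agent.Lib.Helper69.NormRel5

/-!
# The relative normalization is a DVR at one-dimensional points outside the image
-/

set_option autoImplicit false
set_option linter.style.haveILetI false
set_option backward.isDefEq.respectTransparency.types false
universe u
open CategoryTheory CategoryTheory.Limits AlgebraicGeometry TopologicalSpace Opposite

namespace Groth.Agent.Lib.Helper69.NormDVR3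

open Groth.Agent.Lib.Helper69.NormDVR2 Groth.Agent.Lib.Helper69.NormRel5

theorem main {X Y : Scheme.{u}} (f : Y ⟶ X)
    [LocallyOfFiniteType f] [QuasiCompact f] [QuasiSeparated f] [IsReduced Y]
    (hX : ∀ U : X.affineOpens, CAlg.IsNagata Γ(X, U))
    (x' : ↥f.normalization) (hdim : ringKrullDim (f.normalization.presheaf.stalk x') = 1)
    (hx' : x' ∉ Set.range f.toNormalization.base) :
    ∃ _ : IsDomain (f.normalization.presheaf.stalk x'),
      IsDiscreteValuationRing (f.normalization.presheaf.stalk x') := by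
  obtain ⟨U, hU, hxU⟩ := exists_affine_nhd (f.fromNormalization x')
  -- noetherianity
  haveI : IsLocallyNoetherian X := ⟨fun U => (hX U).1⟩
  haveI : IsFinite f.fromNormalization := Groth.Agent.S9675.result f hX
  haveI : IsLocallyNoetherian f.normalization :=
    LocallyOfFiniteType.isLocallyNoetherian f.fromNormalization
  have hV' : IsAffineOpen (f.fromNormalization ⁻¹ᵁ U) := hU.preimage f.fromNormalization
  have hle : f ⁻¹ᵁ U ≤ f.toNormalization ⁻¹ᵁ f.fromNormalization ⁻¹ᵁ U := by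
    simp [← Scheme.Hom.comp_preimage]
  haveI : IsNoetherianRing Γ(f.normalization, f.fromNormalization ⁻¹ᵁ U) :=
    IsLocallyNoetherian.component_noetherian ⟨_, hV'⟩
  haveI : _root_.IsReduced Γ(f.normalization, f.fromNormalization ⁻¹ᵁ U) := inferInstance
  letI algCB : Algebra Γ(f.normalization, f.fromNormalization ⁻¹ᵁ U) Γ(Y, f ⁻¹ᵁ U) :=
    (f.toNormalization.appLE (f.fromNormalization ⁻¹ᵁ U) (f ⁻¹ᵁ U) hle).hom.toAlgebra
  letI algAB : Algebra Γ(X, U) Γ(Y, f ⁻¹ᵁ U) := (f.app U).hom.toAlgebra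
  have hval := f.normalizationObjIso_hom_val hU
  have hval' : ∀ c : Γ(f.normalization, f.fromNormalization ⁻¹ᵁ U),
      ((f.normalizationObjIso hU).hom.hom c : Γ(Y, f ⁻¹ᵁ U)) =
        algebraMap Γ(f.normalization, f.fromNormalization ⁻¹ᵁ U) Γ(Y, f ⁻¹ᵁ U) c := by
    intro c
    have := congrArg (fun ψ => ψ.hom c) hval
    exact this
  -- injectivity
  have hinj : Function.Injective
      (algebraMap Γ(f.normalization, f.fromNormalization ⁻¹ᵁ U) Γ(Y, f ⁻¹ᵁ U)) := by
    intro c₁ c₂ h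
    rw [← hval', ← hval'] at h
    have h2 := Subtype.ext h
    exact (f.normalizationObjIso hU).commRingCatIsoToRingEquiv.injective h2
  -- integrally closed
  have hcl : ∀ b : Γ(Y, f ⁻¹ᵁ U),
      IsIntegral Γ(f.normalization, f.fromNormalization ⁻¹ᵁ U) b →
      b ∈ (algebraMap Γ(f.normalization, f.fromNormalization ⁻¹ᵁ U) Γ(Y, f ⁻¹ᵁ U)).range := by
    intro b hb
    obtain ⟨p, hp, hp0⟩ := hb
    have hb0 : IsIntegral (integralClosure Γ(X, U) Γ(Y, f ⁻¹ᵁ U)) b := by
      refine ⟨p.map (f.normalizationObjIso hU).hom.hom, hp.map _, ?_⟩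
      rw [Polynomial.eval₂_map]
      have : (algebraMap (integralClosure Γ(X, U) Γ(Y, f ⁻¹ᵁ U)) Γ(Y, f ⁻¹ᵁ U)).comp
          (f.normalizationObjIso hU).hom.hom =
          algebraMap Γ(f.normalization, f.fromNormalization ⁻¹ᵁ U) Γ(Y, f ⁻¹ᵁ U) := by
        ext c
        exact hval' c
      rw [this]
      exact hp0
    have hbA : IsIntegral Γ(X, U) b := isIntegral_trans b hb0
    obtain ⟨a, ha⟩ := exists_appLE_eq f hU b hbA
    exact ⟨a, ha⟩
  -- the prime
  let Pt : PrimeSpectrum Γ(f.normalization, f.fromNormalization ⁻¹ᵁ U) :=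
    hV'.primeIdealOf ⟨x', hxU⟩
  have hPt : hV'.fromSpec Pt = x' := hV'.fromSpec_primeIdealOf ⟨x', hxU⟩
  haveI hPprime : Pt.asIdeal.IsPrime := Pt.isPrime
  letI algStalk : Algebra Γ(f.normalization, f.fromNormalization ⁻¹ᵁ U)
      (f.normalization.presheaf.stalk x') :=
    TopCat.Presheaf.algebra_section_stalk f.normalization.presheaf ⟨x', hxU⟩
  haveI hloc : IsLocalization.AtPrime (f.normalization.presheaf.stalk x') Pt.asIdeal :=
    hV'.isLocalization_stalk ⟨x', hxU⟩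
  let e : Localization.AtPrime Pt.asIdeal ≃+* f.normalization.presheaf.stalk x' :=
    (IsLocalization.algEquiv Pt.asIdeal.primeCompl (Localization.AtPrime Pt.asIdeal)
      (f.normalization.presheaf.stalk x')).toRingEquiv
  have hdim' : ringKrullDim (Localization.AtPrime Pt.asIdeal) = 1 := by
    rw [ringKrullDim_eq_of_ringEquiv e]; exact hdim
  -- affine scheme surjecting onto W
  have hWc : IsCompact ((f ⁻¹ᵁ U : Y.Opens) : Set Y) := f.isCompact_preimage hU.isCompact
  obtain ⟨R, k, hk⟩ := isCompact_iff_exists.mp hWc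
  have hkW : ∀ r : Spec R, k r ∈ f ⁻¹ᵁ U := by
    intro r
    have : k r ∈ ((f ⁻¹ᵁ U : Y.Opens) : Set Y) := hk ▸ Set.mem_range_self r
    exact this
  have hrange : Set.range (k ≫ f.toNormalization) ⊆ Set.range hV'.fromSpec := by
    rw [hV'.range_fromSpec]
    rintro _ ⟨t, rfl⟩
    exact hle (hkW t)
  let k' : Spec R ⟶ Spec Γ(f.normalization, f.fromNormalization ⁻¹ᵁ U) :=
    IsOpenImmersion.lift hV'.fromSpec (k ≫ f.toNormalization) hrange
  have hk' : k' ≫ hV'.fromSpec = k ≫ f.toNormalization := IsOpenImmersion.lift_fac _ _ _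
  have hk'pt : ∀ r : Spec R, hV'.fromSpec (k' r) = f.toNormalization (k r) := by
    intro r
    have := congrArg (fun h : Spec R ⟶ f.normalization => h r) hk'
    simpa using this
  obtain ⟨φ, hφ⟩ : ∃ φ : Γ(f.normalization, f.fromNormalization ⁻¹ᵁ U) ⟶ R, Spec.map φ = k' :=
    ⟨Spec.preimage k', Spec.map_preimage k'⟩
  have hφpt : ∀ r : Spec R, (k' r : PrimeSpectrum _).asIdeal =
      (r : PrimeSpectrum R).asIdeal.comap φ.hom := by
    intro r
    rw [← hφ]; rfl
  -- key equivalence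
  have hE : ∀ (c : Γ(f.normalization, f.fromNormalization ⁻¹ᵁ U)) (r : Spec R),
      k r ∈ Y.basicOpen (algebraMap Γ(f.normalization, f.fromNormalization ⁻¹ᵁ U)
        Γ(Y, f ⁻¹ᵁ U) c) ↔ φ.hom c ∉ (r : PrimeSpectrum R).asIdeal := by
    intro c r
    have h1 := mem_basicOpen_appLE_iff f.toNormalization (f.fromNormalization ⁻¹ᵁ U) (f ⁻¹ᵁ U)
      hle c (k r) (hkW r)
    rw [← hk'pt r] at h1
    have h2 : hV'.fromSpec (k' r) ∈ f.normalization.basicOpen c ↔
        k' r ∈ (PrimeSpectrum.basicOpen c : Opens (PrimeSpectrum _)) := by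
      rw [← hV'.fromSpec_preimage_basicOpen]; rfl
    have h3 : k' r ∈ (PrimeSpectrum.basicOpen c : Opens (PrimeSpectrum _)) ↔
        c ∉ (k' r : PrimeSpectrum _).asIdeal := Iff.rfl
    have h4 : c ∉ (k' r : PrimeSpectrum _).asIdeal ↔
        φ.hom c ∉ (r : PrimeSpectrum R).asIdeal := by
      rw [hφpt r]; rfl
    exact h1.symm.trans (h2.trans (h3.trans h4))
  have hPR : ∀ r : Ideal R, r.IsPrime → r.comap φ.hom ≠ Pt.asIdeal := by
    intro r hr hrP
    apply hx'
    let rr : Spec R := (⟨r, hr⟩ : PrimeSpectrum R)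
    have h1 : k' rr = Pt := by
      apply PrimeSpectrum.ext
      rw [hφpt rr]
      exact hrP
    refine ⟨k rr, ?_⟩
    show f.toNormalization (k rr) = x'
    rw [← hk'pt rr, h1, hPt]
  have hdiv : ∀ d s : Γ(f.normalization, f.fromNormalization ⁻¹ᵁ U),
      φ.hom s ∈ Ideal.span {φ.hom d} → s ∉ Pt.asIdeal →
      ∃ s' : Γ(f.normalization, f.fromNormalization ⁻¹ᵁ U), s' ∉ Pt.asIdeal ∧ ∃ b : Γ(Y, f ⁻¹ᵁ U),
        algebraMap Γ(f.normalization, f.fromNormalization ⁻¹ᵁ U) Γ(Y, f ⁻¹ᵁ U) d * b =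
        algebraMap Γ(f.normalization, f.fromNormalization ⁻¹ᵁ U) Γ(Y, f ⁻¹ᵁ U) s' := by
    intro d s hs hsP
    obtain ⟨ρ, hρ⟩ := Ideal.mem_span_singleton.mp hs
    set ιs := algebraMap Γ(f.normalization, f.fromNormalization ⁻¹ᵁ U) Γ(Y, f ⁻¹ᵁ U) s with hιs
    set ιd := algebraMap Γ(f.normalization, f.fromNormalization ⁻¹ᵁ U) Γ(Y, f ⁻¹ᵁ U) d with hιd
    have hDle : Y.basicOpen ιs ≤ Y.basicOpen ιd := by
      intro y hy
      have hyW : y ∈ f ⁻¹ᵁ U := Y.basicOpen_le ιs hy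
      have hyk : y ∈ Set.range k := by rw [hk]; exact hyW
      obtain ⟨r, rfl⟩ := hyk
      apply (hE d r).mpr
      have h1 := (hE s r).mp hy
      intro hcon
      apply h1
      rw [hρ]
      exact Ideal.mul_mem_right _ _ hcon
    -- ιd is a unit on D = basicOpen ιs
    have hunit : IsUnit (algebraMap Γ(Y, f ⁻¹ᵁ U) Γ(Y, Y.basicOpen ιs) ιd) := by
      apply Y.toRingedSpace.isUnit_of_isUnit_germ
      intro y hy
      have hyW : y ∈ f ⁻¹ᵁ U := Y.basicOpen_le ιs hy
      have h1 : y ∈ Y.basicOpen ιd := hDle hy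
      have h2 := (Scheme.mem_basicOpen Y ιd y hyW).mp h1
      have h3 : Y.presheaf.germ (Y.basicOpen ιs) y hy
          (algebraMap Γ(Y, f ⁻¹ᵁ U) Γ(Y, Y.basicOpen ιs) ιd) =
          Y.presheaf.germ (f ⁻¹ᵁ U) y hyW ιd :=
        TopCat.Presheaf.germ_res_apply Y.presheaf (homOfLE (Y.basicOpen_le ιs)) y hy ιd
      exact h3 ▸ h2
    haveI hloc2 : IsLocalization.Away ιs Γ(Y, Y.basicOpen ιs) :=
      isLocalization_basicOpen_of_qcqs hWc
        (f.isQuasiSeparated_preimage hU.isQuasiSeparated) ιs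
    obtain ⟨v, hv⟩ := hunit.exists_right_inv
    obtain ⟨⟨b, ⟨_, n, rfl⟩⟩, hb⟩ := IsLocalization.surj (Submonoid.powers ιs) v
    simp only at hb
    have h5 : algebraMap Γ(Y, f ⁻¹ᵁ U) Γ(Y, Y.basicOpen ιs) (ιd * b) =
        algebraMap Γ(Y, f ⁻¹ᵁ U) Γ(Y, Y.basicOpen ιs) (ιs ^ n) := by
      rw [map_mul, ← hb, ← mul_assoc, hv, one_mul]
    obtain ⟨⟨_, m, rfl⟩, hm⟩ := (IsLocalization.eq_iff_exists (Submonoid.powers ιs) _).mp h5
    simp only at hm
    refine ⟨s ^ (m + n), ?_, ιs ^ m * b, ?_⟩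
    · intro h
      exact hsP (hPprime.mem_of_pow_mem _ h)
    · rw [map_pow, ← hιs, pow_add, ← hm]
      ring

  -- apply the ring-level theorem
  obtain ⟨hd, hdvr⟩ := main_ring (C := Γ(f.normalization, f.fromNormalization ⁻¹ᵁ U))
    (B := Γ(Y, f ⁻¹ᵁ U)) (R := R) Pt.asIdeal φ.hom hdim' hinj hcl hPR hdiv
  haveI := hd
  haveI : IsDomain (f.normalization.presheaf.stalk x') := e.symm.toMulEquiv.isDomain
  exact ⟨inferInstance, IsDiscreteValuationRing.RingEquivClass.isDiscreteValuationRing e⟩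

end Groth.Agent.Lib.Helper69.NormDVR3
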