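import Mathlib

/-! # Sections of a normal integral scheme over any nonempty open are integrally closed (helper69) -/

set_option autoImplicit false

universe u

open AlgebraicGeometry CategoryTheory TopologicalSpace Opposite

noncomputable section

namespace Groth.Agent.Lib.Helper69.NormalSections

/-- ring-level transfer: `f ∈ Frac S` integral over `S`, `θ : S → R` injective into an integrally
closed domain, `f * b = a` ⇒ `θ b ∣ θ a`. -/
theorem exists_mul_eq_of_isIntegral {S R : Type*} [CommRing S] [IsDomain S] [CommRing R]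
    [IsDomain R] [IsIntegrallyClosed R] (θ : S →+* R) (hθ : Function.Injective θ)
    {f : FractionRing S} (hf : IsIntegral S f) {a b : S}
    (hab : f * algebraMap S (FractionRing S) b = algebraMap S (FractionRing S) a) :
    ∃ c : R, c * θ b = θ a := by
  have hinj : Function.Injective ((algebraMap R (FractionRing R)).comp θ) :=
    (IsFractionRing.injective R (FractionRing R)).comp hθ
  let ψ : FractionRing S →+* FractionRing R := IsFractionRing.lift hinj
  have hψ : ∀ s : S, ψ (algebraMap S (FractionRing S) s) = algebraMap R (FractionRing R) (θ s) :=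
    fun s => IsFractionRing.lift_algebraMap hinj s
  have hint : IsIntegral R (ψ f) :=
    hf.map_of_comp_eq θ ψ (by ext s; exact (hψ s).symm)
  obtain ⟨c, hc⟩ := (isIntegrallyClosed_iff (FractionRing R)).mp inferInstance hint
  refine ⟨c, ?_⟩
  apply IsFractionRing.injective R (FractionRing R)
  rw [map_mul, hc, ← hψ, ← hψ, ← map_mul, hab]

theorem section_ext' {X : Scheme.{u}} {V : X.Opens} (s t : Γ(X, V))
    (h : ∀ (z : X) (hz : z ∈ V), X.presheaf.germ V z hz s = X.presheaf.germ V z hz t) : s = t :=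
  TopCat.Presheaf.section_ext X.sheaf V s t h

theorem germ_res_apply' {X : Scheme.{u}} {U V : X.Opens} (h : U ≤ V) (z : X) (hz : z ∈ U)
    (s : Γ(X, V)) :
    X.presheaf.germ U z hz ((X.presheaf.map (homOfLE h).op).hom s) =
      X.presheaf.germ V z (h hz) s :=
  X.presheaf.germ_res_apply (homOfLE h) z hz s

variable {X : Scheme.{u}} [IsIntegral X]

/-- **Sections of a normal integral scheme over a nonempty open are integrally closed.** -/
theorem isIntegrallyClosed_sections
    (hX : ∀ x : X, IsIntegrallyClosed (X.presheaf.stalk x)) (V : X.Opens) [Nonempty V] :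
    IsIntegrallyClosed Γ(X, V) := by
  rw [isIntegrallyClosed_iff (FractionRing Γ(X, V))]
  intro f hf
  obtain ⟨a, b, hb, rfl⟩ := IsFractionRing.div_surjective (A := Γ(X, V)) f
  have hb0 : b ≠ 0 := nonZeroDivisors.ne_zero hb
  have hbK : algebraMap Γ(X, V) (FractionRing Γ(X, V)) b ≠ 0 := by
    intro h
    exact hb0 (IsFractionRing.injective Γ(X, V) (FractionRing Γ(X, V)) (by rw [h, map_zero]))
  have hab : (algebraMap Γ(X, V) (FractionRing Γ(X, V)) a /
      algebraMap Γ(X, V) (FractionRing Γ(X, V)) b) *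
      algebraMap Γ(X, V) (FractionRing Γ(X, V)) b =
      algebraMap Γ(X, V) (FractionRing Γ(X, V)) a := div_mul_cancel₀ _ hbK
  -- pointwise quotients
  have hpt : ∀ x : V, ∃ c : X.presheaf.stalk x.1,
      c * X.presheaf.germ V x.1 x.2 b = X.presheaf.germ V x.1 x.2 a := by
    intro x
    have := hX x.1
    exact exists_mul_eq_of_isIntegral (X.presheaf.germ V x.1 x.2).hom
      (germ_injective_of_isIntegral X x.1 x.2) hf hab
  choose c hc using hpt
  -- local representatives
  have hloc : ∀ x : V, ∃ (W : X.Opens) (_ : x.1 ∈ W) (_ : W ≤ V) (s : Γ(X, W)),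
      ∀ (z : X) (hz : z ∈ W), X.presheaf.germ W z hz s *
        X.presheaf.germ V z (‹W ≤ V› hz) b = X.presheaf.germ V z (‹W ≤ V› hz) a := by
    intro x
    obtain ⟨W₀, hxW₀, s₀, hs₀⟩ := X.presheaf.exists_germ_eq (c x)
    have hxI : x.1 ∈ W₀ ⊓ V := ⟨hxW₀, x.2⟩
    refine ⟨W₀ ⊓ V, hxI, inf_le_right,
      (X.presheaf.map (homOfLE (inf_le_left : W₀ ⊓ V ≤ W₀)).op).hom s₀, ?_⟩
    -- equality of sections on `W₀ ⊓ V`, from equality of germs at `x`
    have hsec : (X.presheaf.map (homOfLE (inf_le_left : W₀ ⊓ V ≤ W₀)).op).hom s₀ *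
        (X.presheaf.map (homOfLE (inf_le_right : W₀ ⊓ V ≤ V)).op).hom b =
        (X.presheaf.map (homOfLE (inf_le_right : W₀ ⊓ V ≤ V)).op).hom a := by
      apply germ_injective_of_isIntegral X x.1 hxI
      have e1 := germ_res_apply' (inf_le_left : W₀ ⊓ V ≤ W₀) x.1 hxI s₀
      have e2 := germ_res_apply' (inf_le_right : W₀ ⊓ V ≤ V) x.1 hxI b
      have e3 := germ_res_apply' (inf_le_right : W₀ ⊓ V ≤ V) x.1 hxI a
      rw [map_mul, e1, e2, e3, hs₀]
      exact hc x
    intro z hz
    have := congrArg (X.presheaf.germ (W₀ ⊓ V) z hz) hsec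
    rw [map_mul, germ_res_apply' inf_le_right z hz b, germ_res_apply' inf_le_right z hz a] at this
    exact this
  choose W hxW hWV s hs using hloc
  have hcover : V ≤ iSup W := by
    intro x hx
    exact Opens.mem_iSup.2 ⟨⟨x, hx⟩, hxW ⟨x, hx⟩⟩
  -- nonvanishing of germs of b
  have hbz : ∀ (z : X) (hz : z ∈ V), X.presheaf.germ V z hz b ≠ 0 := by
    intro z hz h0
    apply hb0
    apply germ_injective_of_isIntegral X z hz
    rw [h0, map_zero]
  have hcompat : TopCat.Presheaf.IsCompatible X.presheaf W s := by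
    intro i j
    apply section_ext'
    intro z hz
    have h1 := hs i z hz.1
    have h2 := hs j z hz.2
    have e1 : X.presheaf.germ (W i ⊓ W j) z hz
        ((X.presheaf.map (Opens.infLELeft (W i) (W j)).op).hom (s i)) =
        X.presheaf.germ (W i) z hz.1 (s i) :=
      X.presheaf.germ_res_apply (Opens.infLELeft (W i) (W j)) z hz (s i)
    have e2 : X.presheaf.germ (W i ⊓ W j) z hz
        ((X.presheaf.map (Opens.infLERight (W i) (W j)).op).hom (s j)) =
        X.presheaf.germ (W j) z hz.2 (s j) :=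
      X.presheaf.germ_res_apply (Opens.infLERight (W i) (W j)) z hz (s j)
    have h3 : X.presheaf.germ (W i) z hz.1 (s i) * X.presheaf.germ V z (hWV i hz.1) b =
        X.presheaf.germ (W j) z hz.2 (s j) * X.presheaf.germ V z (hWV i hz.1) b := by
      rw [h1]
      exact h2.symm
    have hdom : IsDomain (X.presheaf.stalk z) := inferInstance
    refine e1.trans (Eq.trans ?_ e2.symm)
    exact mul_right_cancel₀ (hbz z (hWV i hz.1)) h3
  obtain ⟨T', hT', -⟩ :=
    X.sheaf.existsUnique_gluing' W V (fun i => homOfLE (hWV i)) hcover s hcompat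
  let T : Γ(X, V) := T'
  have hT : ∀ i, (X.presheaf.map (homOfLE (hWV i)).op).hom T = s i := hT'
  refine ⟨T, ?_⟩
  rw [eq_div_iff hbK, ← map_mul]
  congr 1
  apply section_ext'
  intro z hz
  have h1 := hs ⟨z, hz⟩ z (hxW ⟨z, hz⟩)
  rw [map_mul]
  have h2 : X.presheaf.germ V z hz T =
      X.presheaf.germ (W ⟨z, hz⟩) z (hxW ⟨z, hz⟩) (s ⟨z, hz⟩) := by
    rw [← hT ⟨z, hz⟩, germ_res_apply']
  rw [h2]
  exact h1

end Groth.Agent.Lib.Helper69.NormalSections
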