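import Mathlib
import Groth.Prelude.Def_HTop2
import Groth.Agent.Lib.Helper69.ElemChainUH
import Groth.Agent.Lib.Helper69.AWNRing

/-!
# `p`-power closure of a subring (Stacks 0BR7–0BRA, 0CNF)
-/

open AlgebraicGeometry CategoryTheory
universe u

namespace Groth.Agent.Lib.Helper69.PPower

open Groth.Agent.Lib.Helper69.UHRing Groth.Agent.Lib.Helper69.ElemChainUH
  Groth.Agent.Lib.Helper69.ElemChain

section subring

variable {B : Type*} [CommRing B] (S : Subring B) (p : ℕ)

lemma natCast_pow_mem (k : ℕ) : ((p : B)) ^ k ∈ S := S.pow_mem (natCast_mem S p) k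

/-- monotonicity in the exponent of `p`-power multiples -/
lemma mul_mem_of_le {x : B} {n N : ℕ} (h : (p : B) ^ n * x ∈ S) (hn : n ≤ N) :
    (p : B) ^ N * x ∈ S := by
  obtain ⟨d, rfl⟩ := Nat.exists_eq_add_of_le hn
  have : (p : B) ^ (n + d) * x = (p : B) ^ d * ((p : B) ^ n * x) := by ring
  rw [this]
  exact S.mul_mem (natCast_pow_mem S p d) h

/-- monotonicity in the exponent of `p`-power powers -/
lemma pow_mem_of_le {x : B} {n N : ℕ} (h : x ^ p ^ n ∈ S) (hn : n ≤ N) : x ^ p ^ N ∈ S := by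
  obtain ⟨d, rfl⟩ := Nat.exists_eq_add_of_le hn
  rw [pow_add, pow_mul]
  exact S.pow_mem h _

/-- a uniform `p`-power multiplier for all powers of `x` -/
lemma mul_pow_mem (hp : p.Prime) (n : ℕ) {x : B} (h1 : (p : B) ^ n * x ∈ S)
    (h2 : x ^ p ^ n ∈ S) (i : ℕ) : (p : B) ^ (n * (p ^ n - 1)) * x ^ i ∈ S := by
  induction i using Nat.strong_induction_on with
  | _ i ih =>
    by_cases hi : i < p ^ n
    · have hle : n * i ≤ n * (p ^ n - 1) := Nat.mul_le_mul_left n (by omega)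
      obtain ⟨d, hd⟩ := Nat.exists_eq_add_of_le hle
      have : (p : B) ^ (n * (p ^ n - 1)) * x ^ i = (p : B) ^ d * ((p : B) ^ n * x) ^ i := by
        rw [hd, pow_add, mul_pow, ← pow_mul]
        ring
      rw [this]
      exact S.mul_mem (natCast_pow_mem S p d) (S.pow_mem h1 i)
    · push Not at hi
      have hpos : 0 < p ^ n := pow_pos hp.pos n
      have e : x ^ i = x ^ p ^ n * x ^ (i - p ^ n) := by
        rw [← pow_add]
        congr 1
        omega
      have : (p : B) ^ (n * (p ^ n - 1)) * x ^ i =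
          x ^ p ^ n * ((p : B) ^ (n * (p ^ n - 1)) * x ^ (i - p ^ n)) := by
        rw [e]; ring
      rw [this]
      exact S.mul_mem h2 (ih _ (by omega))

/-- **Stacks 0BR7/0BR9**: the set of elements with a `p`-power multiple and a `p`-power power in `S`
is closed under addition. -/
theorem add_pow_mem (hp : p.Prime) (n : ℕ) {x y : B} (hx1 : (p : B) ^ n * x ∈ S)
    (hx2 : x ^ p ^ n ∈ S) (hy1 : (p : B) ^ n * y ∈ S) (hy2 : y ^ p ^ n ∈ S) :
    ∃ m : ℕ, (x + y) ^ p ^ m ∈ S := by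
  set q := p ^ n with hq
  set M₀ := n * (q - 1) with hM₀
  set m := n + 2 * M₀ with hm
  refine ⟨m, ?_⟩
  rw [add_pow]
  refine S.sum_mem fun i hi => ?_
  have hile : i ≤ p ^ m := Nat.lt_succ_iff.mp (Finset.mem_range.mp hi)
  have hqm : q ∣ p ^ m := pow_dvd_pow p (by omega)
  by_cases hqi : q ∣ i
  · obtain ⟨i₁, rfl⟩ := hqi
    have hqj : q ∣ p ^ m - q * i₁ := (Nat.dvd_sub hqm (dvd_mul_right q i₁))
    obtain ⟨j₁, hj₁⟩ := hqj
    rw [hj₁, pow_mul, pow_mul]
    exact S.mul_mem (S.mul_mem (S.pow_mem hx2 _) (S.pow_mem hy2 _)) (natCast_mem S _)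
  · have hi0 : i ≠ 0 := by
      rintro rfl
      exact hqi (dvd_zero q)
    have hfi : i.factorization p < n := by
      by_contra hge
      push Not at hge
      exact hqi ((hp.pow_dvd_iff_le_factorization hi0).mpr hge)
    have hfc := Nat.factorization_choose_prime_pow hp hile hi0
    have hc0 : (p ^ m).choose i ≠ 0 := (Nat.choose_pos hile).ne'
    have hdvd : p ^ (2 * M₀) ∣ (p ^ m).choose i := by
      rw [hp.pow_dvd_iff_le_factorization hc0, hfc]
      omega
    obtain ⟨c', hc'⟩ := hdvd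
    have e : x ^ i * y ^ (p ^ m - i) * (((p ^ m).choose i : ℕ) : B) =
        ((p : B) ^ M₀ * x ^ i) * ((p : B) ^ M₀ * y ^ (p ^ m - i)) * (c' : B) := by
      rw [hc']
      push_cast
      ring
    rw [e]
    exact S.mul_mem (S.mul_mem (mul_pow_mem S p hp n hx1 hx2 i)
      (mul_pow_mem S p hp n hy1 hy2 _)) (natCast_mem S _)

end subring

section closure

variable {A B : Type u} [CommRing A] [CommRing B] [Algebra A B] (p : ℕ) (hp : p.Prime)
  (hloc : ∀ b : B, ∃ k : ℕ, (p : B) ^ k * b ∈ (algebraMap A B).range)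

/-- the elements of `B` with a `p`-power power in the image of `A` -/
def pClosure : Subalgebra A B where
  carrier := {b | ∃ n : ℕ, b ^ p ^ n ∈ (algebraMap A B).range}
  mul_mem' := by
    rintro x y ⟨n, hx⟩ ⟨m, hy⟩
    refine ⟨max n m, ?_⟩
    rw [mul_pow]
    exact Subring.mul_mem _ (pow_mem_of_le _ p hx (le_max_left _ _))
      (pow_mem_of_le _ p hy (le_max_right _ _))
  add_mem' := by
    rintro x y ⟨n, hx⟩ ⟨m, hy⟩
    obtain ⟨k, hk⟩ := hloc x
    obtain ⟨l, hl⟩ := hloc y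
    exact add_pow_mem _ p hp (max (max n m) (max k l))
      (mul_mem_of_le _ p hk (by omega)) (pow_mem_of_le _ p hx (by omega))
      (mul_mem_of_le _ p hl (by omega)) (pow_mem_of_le _ p hy (by omega))
  algebraMap_mem' := fun a => ⟨0, a, by simp⟩

lemma mem_pClosure (b : B) :
    b ∈ pClosure p hp hloc ↔ ∃ n : ℕ, b ^ p ^ n ∈ (algebraMap A B).range := Iff.rfl

include hp hloc in
lemma pClosure_closed (b : B) (hb : stepUH (pClosure p hp hloc) b) :
    b ∈ pClosure p hp hloc := by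
  rcases hb with ⟨⟨n2, h2⟩, ⟨n3, h3⟩⟩ | ⟨ℓ, hℓ, ⟨n1, h1⟩, ⟨n2, h2⟩⟩
  · have h2' : (b ^ 2) ^ p ^ (max n2 n3) ∈ (algebraMap A B).range :=
      pow_mem_of_le _ p h2 (le_max_left _ _)
    have h3' : (b ^ 3) ^ p ^ (max n2 n3) ∈ (algebraMap A B).range :=
      pow_mem_of_le _ p h3 (le_max_right _ _)
    obtain ⟨i, j, hij⟩ : ∃ i j : ℕ, p = 2 * i + 3 * j := by
      have h2le := hp.two_le
      rcases Nat.even_or_odd' p with ⟨c, hc | hc⟩
      · exact ⟨c, 0, by omega⟩
      · exact ⟨c - 1, 1, by omega⟩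
    refine ⟨max n2 n3 + 1, ?_⟩
    have e : b ^ p ^ (max n2 n3 + 1) =
        ((b ^ 2) ^ p ^ (max n2 n3)) ^ i * ((b ^ 3) ^ p ^ (max n2 n3)) ^ j := by
      rw [← pow_mul, ← pow_mul, ← pow_mul, ← pow_mul, ← pow_add, pow_succ]
      congr 1
      nth_rewrite 2 [hij]
      ring
    rw [e]
    exact Subring.mul_mem _ (Subring.pow_mem _ h2' i) (Subring.pow_mem _ h3' j)
  · by_cases hℓp : ℓ = p
    · subst hℓp
      refine ⟨n2 + 1, ?_⟩
      rw [pow_succ', pow_mul]
      exact h2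
    · obtain ⟨K, hK⟩ := hloc (b ^ p ^ n1)
      have hcop : Nat.Coprime (ℓ ^ p ^ n1) (p ^ K) :=
        Nat.Coprime.pow _ _ ((Nat.coprime_primes hℓ hp).mpr hℓp)
      obtain ⟨u, v, huv⟩ := Nat.isCoprime_iff_coprime.mpr hcop
      have huv' : (u : B) * (ℓ : B) ^ p ^ n1 + (v : B) * (p : B) ^ K = 1 := by
        have := congrArg (Int.cast : ℤ → B) huv
        push_cast at this
        exact this
      refine ⟨n1, ?_⟩
      have e : b ^ p ^ n1 = (u : B) * ((ℓ : B) * b) ^ p ^ n1 +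
          (v : B) * ((p : B) ^ K * b ^ p ^ n1) := by
        rw [mul_pow]
        calc b ^ p ^ n1 = ((u : B) * (ℓ : B) ^ p ^ n1 + (v : B) * (p : B) ^ K) * b ^ p ^ n1 := by
              rw [huv', one_mul]
          _ = _ := by ring
      rw [e]
      exact Subring.add_mem _ (Subring.mul_mem _ (intCast_mem _ u) h1)
        (Subring.mul_mem _ (intCast_mem _ v) hK)

include hp hloc in
/-- **Stacks 0CNF**, forward direction. -/
theorem exists_pow_mem_of_isUH (hint : (algebraMap A B).IsIntegral)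
    (hspec : Function.Injective (PrimeSpectrum.comap (algebraMap A B)))
    (hpts : FieldPtsInj (algebraMap A B)) (b : B) :
    ∃ n : ℕ, b ^ p ^ n ∈ (algebraMap A B).range := by
  have htop := bstar_eq_topUH hint hspec hpts
  have hchain : ∀ E : Finset B, ∃ l : List B,
      (↑E : Set B) ⊆ Algebra.adjoin A {b : B | b ∈ l} ∧
        ∀ i : Fin l.length, stepUH (Algebra.adjoin A (pre l i)) (l.get i) := fun E =>
    exists_indexed_of_finset stepUH_mono E (fun b _ => by rw [htop]; trivial)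
  have h := eq_top_of_closedUH hchain (pClosure p hp hloc) (pClosure_closed p hp hloc)
  have hb : b ∈ pClosure p hp hloc := by rw [h]; trivial
  exact hb

end closure

section field

lemma eq_of_ppow_eq {K : Type*} [Field K] (p : ℕ) (hp : p.Prime) (n : ℕ) (x y : K)
    (h1 : (p : K) ^ n * x = (p : K) ^ n * y) (h2 : x ^ p ^ n = y ^ p ^ n) : x = y := by
  by_cases hpK : (p : K) = 0
  · have : Fact p.Prime := ⟨hp⟩
    have hc : CharP K p := (CharP.charP_iff_prime_eq_zero hp).mpr hpK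
    exact iterateFrobenius_inj K p n h2
  · exact mul_left_cancel₀ (pow_ne_zero n hpK) h1

end field

section backward

variable {A B : Type u} [CommRing A] [CommRing B] (φ : A →+* B) (p : ℕ) (hp : p.Prime)

include hp in
/-- **Stacks 0BRA**-type criterion. -/
theorem fieldPtsInj_of_ppow
    (h : ∀ b : B, ∃ n : ℕ, (p : B) ^ n * b ∈ φ.range ∧ b ^ p ^ n ∈ φ.range) :
    FieldPtsInj φ := by
  intro K _ χ₁ χ₂ hχ
  ext b
  obtain ⟨n, ⟨a₁, h1⟩, ⟨a₂, h2⟩⟩ := h b
  apply eq_of_ppow_eq p hp n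
  · have e1 : χ₁ ((p : B) ^ n * b) = χ₂ ((p : B) ^ n * b) := by
      rw [← h1]
      exact RingHom.congr_fun hχ a₁
    simpa using e1
  · have e2 : χ₁ (b ^ p ^ n) = χ₂ (b ^ p ^ n) := by
      rw [← h2]
      exact RingHom.congr_fun hχ a₂
    simpa using e2

lemma isIntegral_of_ppow (h : ∀ b : B, ∃ n : ℕ, b ^ p ^ n ∈ φ.range) (hp : p.Prime) :
    φ.IsIntegral := by
  intro b
  obtain ⟨n, a, ha⟩ := h b
  letI := φ.toAlgebra
  have h1 : IsIntegral A (b ^ p ^ n) := by
    rw [← ha]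
    exact isIntegral_algebraMap (R := A) (A := B) (x := a)
  exact IsIntegral.of_pow (pow_pos hp.pos n) h1

end backward

end Groth.Agent.Lib.Helper69.PPower
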