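import Mathlib
import Groth.Prelude.Def_W4c1hilbchowincPtFun
import Groth.Agent.Lib.Helper69.SpecResidue

/-!
# Pointwise functions on `Spec A`: ring-level translation

`RPtFun A` : one element of `κ(p)` for each prime `p` of `A`.
`RVaries F` : `F` varies algebraically along (all) discrete valuation rings `A →+* R`.
`rVaries_of_variesAlongDVR` : scheme-level `PtFun.VariesAlongDVR` gives `RVaries`.
-/

open AlgebraicGeometry CategoryTheory W4c1hilbchowinc
universe u

namespace Groth.Agent.Lib.Helper69.PtFunDVR

variable (A : Type u) [CommRing A]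

/-- ring-level pointwise function -/
abbrev RPtFun := ∀ x : PrimeSpectrum A, x.asIdeal.ResidueField

/-- the ring-level pointwise function of a scheme-level one -/
noncomputable def toRing (f : PtFun (Spec (CommRingCat.of A))) : RPtFun A :=
  fun x => (Scheme.Spec.residueFieldIso (CommRingCat.of A) x).hom (f x)

variable {A}

/-- `F` varies algebraically along the ring map `φ : A →+* R`. -/
def RAlgAlong (F : RPtFun A) {R : Type u} [CommRing R] (φ : A →+* R) : Prop :=
  ∃ r : R, ∀ (y : PrimeSpectrum R) (x : PrimeSpectrum A) (hx : x.asIdeal = y.asIdeal.comap φ),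
      algebraMap R y.asIdeal.ResidueField r =
        Ideal.ResidueField.map x.asIdeal y.asIdeal φ hx (F x)

/-- `F` varies algebraically along discrete valuation rings. -/
def RVaries (F : RPtFun A) : Prop :=
  ∀ (R : Type u) [CommRing R] [IsDomain R] [IsDiscreteValuationRing R] (φ : A →+* R),
    RAlgAlong F φ

/-- `F` varies algebraically along complete discrete valuation rings. -/
def RVariesC (F : RPtFun A) : Prop :=
  ∀ (R : Type u) [CommRing R] [IsDomain R] [IsDiscreteValuationRing R]
    [IsAdicComplete (IsLocalRing.maximalIdeal R) R] (φ : A →+* R),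
    RAlgAlong F φ

section bridge
set_option backward.isDefEq.respectTransparency.types false

/-- `algebraMap` to the ring-level residue field vs `Γevaluation` -/
theorem algebraMap_ΓSpecIso_hom (R : Type u) [CommRing R] (y : Spec (CommRingCat.of R))
    (s : Γ(Spec (CommRingCat.of R), ⊤)) :
    algebraMap R y.asIdeal.ResidueField ((Scheme.ΓSpecIso (CommRingCat.of R)).hom s) =
      (Scheme.Spec.residueFieldIso (CommRingCat.of R) y).hom
        ((Spec (CommRingCat.of R)).Γevaluation y s) := by
  have h2 := Scheme.Spec.algebraMap_residueFieldIso_inv (CommRingCat.of R) y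
  have h4 : CommRingCat.ofHom (algebraMap R y.asIdeal.ResidueField) =
      (Scheme.ΓSpecIso (CommRingCat.of R)).inv ≫ (Spec (CommRingCat.of R)).Γevaluation y ≫
        (Scheme.Spec.residueFieldIso (CommRingCat.of R) y).hom := by
    have := congr($h2 ≫ (Scheme.Spec.residueFieldIso (CommRingCat.of R) y).hom)
    simp only [Category.assoc, Iso.inv_hom_id, Category.comp_id] at this
    exact this
  have h5 := congr(($h4).hom ((Scheme.ΓSpecIso (CommRingCat.of R)).hom s))
  refine h5.trans ?_
  have e := congr(($((Scheme.ΓSpecIso (CommRingCat.of R)).hom_inv_id)).hom s)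
  simp only [CommRingCat.hom_comp, RingHom.comp_apply, CommRingCat.hom_id,
    RingHom.id_apply] at e
  simp only [CommRingCat.hom_comp, RingHom.comp_apply]
  exact congrArg _ (congrArg _ e)

theorem rAlgAlong_of_isAlgebraic (f : PtFun (Spec (CommRingCat.of A)))
    {R : Type u} [CommRing R] (φ : A →+* R)
    (h : (f.pullback (Spec.map (CommRingCat.ofHom φ))).IsAlgebraic) :
    RAlgAlong (toRing A f) φ := by
  obtain ⟨s, hs⟩ := h
  refine ⟨(Scheme.ΓSpecIso (CommRingCat.of R)).hom s, ?_⟩
  intro y x hx
  obtain rfl : x = (Spec.map (CommRingCat.ofHom φ)) y := PrimeSpectrum.ext hx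
  have h1 : (Spec (CommRingCat.of R)).Γevaluation y s =
      (Spec.map (CommRingCat.ofHom φ)).residueFieldMap y
        (f ((Spec.map (CommRingCat.ofHom φ)) y)) := congrFun hs y
  have h3 := SpecResidue.residueFieldMap_SpecMap (CommRingCat.ofHom φ) y
  refine (algebraMap_ΓSpecIso_hom R y s).trans ?_
  refine (congrArg _ h1).trans ?_
  have h6 : (Spec.map (CommRingCat.ofHom φ)).residueFieldMap y ≫
      (Scheme.Spec.residueFieldIso (CommRingCat.of R) y).hom =
      (Scheme.Spec.residueFieldIso (CommRingCat.of A) ((Spec.map (CommRingCat.ofHom φ)) y)).hom ≫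
      CommRingCat.ofHom (Ideal.ResidueField.map ((Spec.map (CommRingCat.ofHom φ)) y).asIdeal
        y.asIdeal φ rfl) := by
    have := congr((Scheme.Spec.residueFieldIso (CommRingCat.of A)
      ((Spec.map (CommRingCat.ofHom φ)) y)).hom ≫ $h3 ≫
        (Scheme.Spec.residueFieldIso (CommRingCat.of R) y).hom)
    simp only [Category.assoc, Iso.inv_hom_id, Category.comp_id, Iso.hom_inv_id_assoc] at this
    exact this
  exact congr(($h6).hom (f ((Spec.map (CommRingCat.ofHom φ)) y)))

theorem rVaries_of_variesAlongDVR (f : PtFun (Spec (CommRingCat.of A)))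
    (hf : f.VariesAlongDVR) : RVaries (toRing A f) := by
  intro R _ _ _ φ
  exact rAlgAlong_of_isAlgebraic f φ (hf R _)

theorem rVariesC_of_variesAlongCompleteDVR (f : PtFun (Spec (CommRingCat.of A)))
    (hf : f.VariesAlongCompleteDVR) : RVariesC (toRing A f) := by
  intro R _ _ _ _ φ
  exact rAlgAlong_of_isAlgebraic f φ (hf R _)

/-- conversely the values of a section -/
theorem toRing_ofSection (s : Γ(Spec (CommRingCat.of A), ⊤)) (x : PrimeSpectrum A) :
    toRing A (PtFun.ofSection (Spec (CommRingCat.of A)) s) x =
      algebraMap A x.asIdeal.ResidueField ((Scheme.ΓSpecIso (CommRingCat.of A)).hom s) :=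
  (algebraMap_ΓSpecIso_hom A x s).symm

theorem toRing_injective : Function.Injective (toRing A) := by
  intro f g h
  funext x
  have := congrFun h x
  simp only [toRing] at this
  have h2 := congrArg (Scheme.Spec.residueFieldIso (CommRingCat.of A) x).inv this
  have e3 := congr(($((Scheme.Spec.residueFieldIso (CommRingCat.of A) x).hom_inv_id)).hom (f x))
  have e4 := congr(($((Scheme.Spec.residueFieldIso (CommRingCat.of A) x).hom_inv_id)).hom (g x))
  simp only [CommRingCat.hom_comp, RingHom.comp_apply, CommRingCat.hom_id,
    RingHom.id_apply] at e3 e4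
  exact e3.symm.trans (h2.trans e4)

/-- a section with prescribed ring-level values has the prescribed pointwise function -/
theorem ofSection_eq_of_toRing (f : PtFun (Spec (CommRingCat.of A))) (a : A)
    (h : ∀ x : PrimeSpectrum A, algebraMap A x.asIdeal.ResidueField a = toRing A f x) :
    PtFun.ofSection (Spec (CommRingCat.of A)) ((Scheme.ΓSpecIso (CommRingCat.of A)).inv a) = f := by
  apply toRing_injective
  funext x
  rw [toRing_ofSection, ← h x]
  congr 1
  simp

end bridge

end Groth.Agent.Lib.Helper69.PtFunDVR
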