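import Mathlib
import Groth.Agent.Lib.Helper69.PtFunDVR
import Groth.Agent.Lib.Helper83.FlatLocalDim
import Groth.Agent.Lib.Helper83.DVRCrit

/-!
# Varying along complete DVRs implies varying along all DVRs
-/

open AlgebraicGeometry CategoryTheory W4c1hilbchowinc IsLocalRing
universe u

namespace Groth.Agent.Lib.Helper69.PtFunDVR

/-- functoriality of `Ideal.ResidueField.map` -/
lemma resMap_comp {A B C : Type*} [CommRing A] [CommRing B] [CommRing C]
    (I : Ideal A) [I.IsPrime] (J : Ideal B) [J.IsPrime] (K : Ideal C) [K.IsPrime]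
    (φ : A →+* B) (ψ : B →+* C) (h1 : I = J.comap φ) (h2 : J = K.comap ψ)
    (h3 : I = K.comap (ψ.comp φ)) :
    (Ideal.ResidueField.map J K ψ h2).comp (Ideal.ResidueField.map I J φ h1) =
      Ideal.ResidueField.map I K (ψ.comp φ) h3 := by
  apply Ideal.ResidueField.ringHom_ext
  ext a
  simp only [RingHom.comp_apply, Ideal.ResidueField.map_algebraMap]

lemma resMap_comp_apply {A B C : Type*} [CommRing A] [CommRing B] [CommRing C]
    (I : Ideal A) [I.IsPrime] (J : Ideal B) [J.IsPrime] (K : Ideal C) [K.IsPrime]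
    (φ : A →+* B) (ψ : B →+* C) (h1 : I = J.comap φ) (h2 : J = K.comap ψ)
    (h3 : I = K.comap (ψ.comp φ)) (z : I.ResidueField) :
    Ideal.ResidueField.map J K ψ h2 (Ideal.ResidueField.map I J φ h1 z) =
      Ideal.ResidueField.map I K (ψ.comp φ) h3 z :=
  congr($(resMap_comp I J K φ ψ h1 h2 h3) z)

/-- the completion of a DVR is a complete DVR -/
theorem exists_complete_dvr (R : Type u) [CommRing R] [IsDomain R] [IsDiscreteValuationRing R] :
    ∃ (R' : Type u) (_ : CommRing R') (_ : IsDomain R') (_ : IsDiscreteValuationRing R')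
      (_ : IsAdicComplete (maximalIdeal R') R') (ι : R →+* R'),
      Function.Injective ι ∧ IsLocalHom ι := by
  let I := maximalIdeal R
  have hI : I ≠ ⊤ := (maximalIdeal.isMaximal R).ne_top
  have fg : I.FG := I.fg_of_isNoetherianRing
  have loc := Groth.Agent.Lib.Helper83.isLocalRing_adicCompletion I fg hI
  have noeth := Groth.Agent.Lib.Helper83.isNoetherianRing_adicCompletion I
  have hdim := Groth.Agent.Lib.Helper83.ringKrullDim_adicCompletion_eq I hI
  have hspan := Groth.Agent.Lib.Helper83.spanFinrank_maximalIdeal_adicCompletion_eq I hI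
  have hmax := Groth.Agent.Lib.Helper83.maximalIdeal_adicCompletion_eq_map I fg hI
  have hR := (Groth.Agent.Lib.Helper83.exists_isDomain_isDiscreteValuationRing_iff (R := R)).mp
    ⟨inferInstance, inferInstance⟩
  obtain ⟨hdom, hdvr⟩ :=
    (Groth.Agent.Lib.Helper83.exists_isDomain_isDiscreteValuationRing_iff
      (R := AdicCompletion I R)).mpr ⟨hspan.trans hR.1, hdim.trans hR.2⟩
  have hc : IsAdicComplete (maximalIdeal (AdicCompletion I R)) (AdicCompletion I R) := by
    rw [← hmax]
    exact AdicCompletion.isAdicComplete_self I fg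
  refine ⟨AdicCompletion I R, inferInstance, hdom, hdvr, hc, algebraMap R (AdicCompletion I R),
    ?_, ?_⟩
  · exact AdicCompletion.of_injective I R
  · exact Groth.Agent.Lib.Helper83.isLocalHom_of_map_maximalIdeal hmax

/-- a pointwise function varying along complete DVRs varies along all DVRs -/
theorem rVaries_of_rVariesC {A : Type u} [CommRing A] (F : RPtFun A) (hF : RVariesC F) :
    RVaries F := by
  intro R _ _ _ φ
  obtain ⟨R', _, _, _, _, ι, hι, hloc⟩ := exists_complete_dvr R
  obtain ⟨r', hr'⟩ := hF R' (ι.comp φ)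
  have hbot : (⊥ : Ideal R) = (⊥ : Ideal R').comap ι := by
    ext t
    rw [Ideal.mem_comap, Ideal.mem_bot, Ideal.mem_bot, map_eq_zero_iff ι hι]
  have hmax : maximalIdeal R = (maximalIdeal R').comap ι := by
    ext t
    rw [Ideal.mem_comap, mem_maximalIdeal, mem_maximalIdeal, mem_nonunits_iff, mem_nonunits_iff]
    exact ⟨fun h h' => h (hloc.map_nonunit t h'), fun h h' => h (h'.map ι)⟩
  let x₁ : PrimeSpectrum A := ⟨(⊥ : Ideal R).comap φ, inferInstance⟩
  set z : (⊥ : Ideal R).ResidueField := Ideal.ResidueField.map x₁.asIdeal ⊥ φ rfl (F x₁) with hz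
  have hx₁ : x₁.asIdeal = (⊥ : Ideal R').comap (ι.comp φ) := by
    change (⊥ : Ideal R).comap φ = _
    rw [hbot, Ideal.comap_comap]
  have e₁ := hr' ⟨⊥, Ideal.isPrime_bot⟩ x₁ hx₁
  rw [← resMap_comp_apply x₁.asIdeal ⊥ ⊥ φ ι rfl hbot hx₁] at e₁
  change algebraMap R' (⊥ : Ideal R').ResidueField r' =
    Ideal.ResidueField.map ⊥ ⊥ ι hbot z at e₁
  have hinj' : Function.Injective (algebraMap R' (⊥ : Ideal R').ResidueField) :=
    IsFractionRing.injective R' _
  have hinj : Function.Injective (algebraMap R (⊥ : Ideal R).ResidueField) :=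
    IsFractionRing.injective R _
  obtain ⟨⟨n, d⟩, hnd⟩ := IsLocalization.surj (nonZeroDivisors R) z
  simp only at hnd
  have hd0 : (d : R) ≠ 0 := nonZeroDivisors.ne_zero d.2
  -- `r' * ι d = ι n`
  have h1 : r' * ι d = ι n := by
    apply hinj'
    rw [map_mul, e₁, ← Ideal.ResidueField.map_algebraMap ⊥ ⊥ ι hbot,
      ← Ideal.ResidueField.map_algebraMap ⊥ ⊥ ι hbot, ← map_mul, hnd]
  -- `z` comes from `R`
  have h2 : ∃ r : R, r * d = n := by
    rcases ValuationRing.dvd_total (d : R) n with ⟨r, hr⟩ | ⟨t, ht⟩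
    · exact ⟨r, by rw [hr, mul_comm]⟩
    · by_cases hu : IsUnit t
      · obtain ⟨u, rfl⟩ := hu
        refine ⟨(↑u⁻¹ : R), ?_⟩
        rw [ht]
        rw [mul_comm, mul_assoc, Units.mul_inv, mul_one]
      · exfalso
        have hn0 : n ≠ 0 := by
          rintro rfl
          rw [zero_mul] at ht
          exact hd0 ht
        have hιn : ι n ≠ 0 := fun h => hn0 ((map_eq_zero_iff ι hι).mp h)
        have h3 : ι n * (r' * ι t) = ι n * 1 := by
          rw [ht, map_mul] at h1
          rw [mul_one]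
          calc ι n * (r' * ι t) = r' * (ι n * ι t) := by ring
            _ = ι n := h1
        have h4 : r' * ι t = 1 := mul_left_cancel₀ hιn h3
        exact hu (hloc.map_nonunit t (IsUnit.of_mul_eq_one _ (by rw [mul_comm]; exact h4)))
  obtain ⟨r, hr⟩ := h2
  have hzr : z = algebraMap R _ r := by
    have hd' : algebraMap R (⊥ : Ideal R).ResidueField d ≠ 0 := by
      intro h
      exact hd0 (hinj (by rw [h, map_zero]))
    apply mul_right_cancel₀ hd'
    rw [hnd, ← map_mul, hr]
  have hr'r : r' = ι r := by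
    have hιd : ι d ≠ 0 := fun h => hd0 ((map_eq_zero_iff ι hι).mp h)
    apply mul_right_cancel₀ hιd
    rw [h1, ← map_mul, hr]
  refine ⟨r, ?_⟩
  intro y x hx
  by_cases hy : y.asIdeal = ⊥
  · obtain rfl : y = ⟨⊥, Ideal.isPrime_bot⟩ := PrimeSpectrum.ext hy
    obtain rfl : x = x₁ := PrimeSpectrum.ext hx
    exact hzr.symm
  · have hy' : y.asIdeal = maximalIdeal R :=
      IsLocalRing.eq_maximalIdeal (Ring.DimensionLEOne.maximalOfPrime hy y.2)
    obtain rfl : y = ⟨maximalIdeal R, inferInstance⟩ := PrimeSpectrum.ext hy'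
    have hx' : x.asIdeal = (maximalIdeal R').comap (ι.comp φ) := by
      rw [← Ideal.comap_comap, ← hmax]
      exact hx
    have e₂ := hr' ⟨maximalIdeal R', inferInstance⟩ x hx'
    rw [← resMap_comp_apply x.asIdeal (maximalIdeal R) (maximalIdeal R') φ ι hx hmax hx'] at e₂
    apply (Ideal.ResidueField.map (maximalIdeal R) (maximalIdeal R') ι hmax).injective
    rw [Ideal.ResidueField.map_algebraMap, ← hr'r]
    exact e₂

end Groth.Agent.Lib.Helper69.PtFunDVR
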