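import Mathlib
import Groth.Agent.Lib.Helper69.PtFunDVR
import Groth.Agent.S4450
import Groth.Agent.Lib.Helper97.NormalProd
import Groth.Agent.Lib.Helper39.DVRIntersect

/-!
# Pointwise functions varying along DVRs on a normal Noetherian ring are sections
-/

open AlgebraicGeometry CategoryTheory W4c1hilbchowinc
universe u

namespace Groth.Agent.Lib.Helper69.PtFunDVR

/-- ring-level form of EGA II 7.1.7 (helper39's S4450): a DVR through a strict specialization. -/
theorem exists_dvr_of_lt (A : Type u) [CommRing A] [IsNoetherianRing A] (p q : Ideal A)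
    [hp : p.IsPrime] [hq : q.IsPrime] (hpq : p < q) :
    ∃ (V : Type u) (_ : CommRing V) (_ : IsDomain V) (_ : IsDiscreteValuationRing V)
      (φ : A →+* V), (⊥ : Ideal V).comap φ = p ∧ (IsLocalRing.maximalIdeal V).comap φ = q := by
  let x : Spec (CommRingCat.of A) := ⟨p, hp⟩
  let y' : Spec (CommRingCat.of A) := ⟨q, hq⟩
  have hsp : (𝟙 (Spec (CommRingCat.of A)) : _ ⟶ _).base x ⤳ y' := by
    exact (PrimeSpectrum.le_iff_specializes (⟨p, hp⟩ : PrimeSpectrum A) ⟨q, hq⟩).mp hpq.le
  have hne : y' ≠ (𝟙 (Spec (CommRingCat.of A)) : _ ⟶ _).base x := by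
    change y' ≠ x
    intro h
    have := congrArg PrimeSpectrum.asIdeal h
    exact hpq.ne this.symm
  obtain ⟨V, h, hV, hcl, hcomp⟩ := Groth.Agent.S4450.main4450 (𝟙 (Spec (CommRingCat.of A))) x y' hsp hne
  refine ⟨V, inferInstance, inferInstance, hV, (Spec.preimage h).hom, ?_, ?_⟩
  · have h1 : Spec.map (Spec.preimage h) = h := Spec.map_preimage h
    let pt : Spec ((Spec (CommRingCat.of A)).residueField x) :=
      IsLocalRing.closedPoint ((Spec (CommRingCat.of A)).residueField x)
    have h2 := congr(($hcomp).base pt)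
    have h3 : (Spec.map (CommRingCat.ofHom V.subtype) ≫ h).base pt = x := by
      rw [h2]
      simp only [Category.comp_id]
      exact Scheme.fromSpecResidueField_apply x pt
    have h4 : ((Spec.map (CommRingCat.ofHom V.subtype)).base pt).asIdeal = ⊥ := by
      change Ideal.comap V.subtype pt.asIdeal = ⊥
      have : pt.asIdeal = ⊥ := by
        change IsLocalRing.maximalIdeal _ = ⊥
        exact IsLocalRing.maximalIdeal_eq_bot
      rw [this]
      exact (RingHom.injective_iff_ker_eq_bot _).mp Subtype.val_injective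
    have h5 : (Spec.map (Spec.preimage h)).base ((Spec.map (CommRingCat.ofHom V.subtype)).base pt) = x := by
      rw [h1]
      exact h3
    have h6 := congrArg PrimeSpectrum.asIdeal h5
    change Ideal.comap (Spec.preimage h).hom _ = p at h6
    rw [h4] at h6
    exact h6
  · have h1 : Spec.map (Spec.preimage h) = h := Spec.map_preimage h
    rw [← h1] at hcl
    have h6 := congrArg PrimeSpectrum.asIdeal hcl
    exact h6

section step1

variable {A : Type u} [CommRing A] [IsNoetherianRing A]

theorem isIntegral_of_rVaries (F : RPtFun A) (hF : RVaries F) (x : PrimeSpectrum A) :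
    IsIntegral (A ⧸ x.asIdeal) (F x) := by
  set p := x.asIdeal with hp
  let K := p.ResidueField
  have hfg : (⊤ : IntermediateField K K).FG := by
    have : (⊤ : IntermediateField K K) = ⊥ :=
      (IntermediateField.bot_eq_top_iff_finrank_eq_one.mpr (Module.finrank_self K)).symm
    rw [this]
    exact IntermediateField.fg_bot
  rw [Groth.Agent.Lib.Helper39.KA.isIntegral_iff_forall_dvr (A ⧸ p) K K hfg (F x)]
  intro R hRdvr hR
  have hR' : ∀ a : A, algebraMap A K a ∈ R := by
    intro a
    have := hR (Ideal.Quotient.mk p a)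
    rwa [Ideal.algebraMap_quotient_residueField_mk] at this
  let φ : A →+* R := (algebraMap A K).codRestrict R.toSubring hR'
  have hφ : ∀ a, ((φ a : R) : K) = algebraMap A K a := fun a => rfl
  obtain ⟨r, hr⟩ := hF R φ
  have hx : x.asIdeal = Ideal.comap φ (⊥ : Ideal R) := by
    ext a
    rw [Ideal.mem_comap, Ideal.mem_bot, ← hp, ← Ideal.algebraMap_residueField_eq_zero (I := p)]
    constructor
    · intro h
      apply Subtype.ext
      rw [hφ, h]
      rfl
    · intro h
      rw [← hφ, h]
      rfl
  have e := hr ⟨⊥, Ideal.isPrime_bot⟩ x hx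
  have hunit : (⊥ : Ideal R).primeCompl ≤ (IsUnit.submonoid K).comap R.subtype := by
    intro s hs
    rw [Ideal.mem_primeCompl_iff, Ideal.mem_bot] at hs
    have : (s : K) ≠ 0 := fun h0 => hs (Subtype.ext h0)
    exact this.isUnit
  let θ : (⊥ : Ideal R).ResidueField →+* K := Ideal.ResidueField.lift ⊥ R.subtype bot_le hunit
  have hθa : ∀ v : R, θ (algebraMap R _ v) = (v : K) :=
    fun v => Ideal.ResidueField.lift_algebraMap _ _ _ hunit v
  have hθ : θ.comp (Ideal.ResidueField.map x.asIdeal (⊥ : Ideal R) φ hx) = RingHom.id K := by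
    apply Ideal.ResidueField.ringHom_ext
    ext a
    simp only [RingHom.comp_apply]
    rw [Ideal.ResidueField.map_algebraMap, hθa]
    rfl
  have e2 := congrArg θ e
  have e3 : θ (Ideal.ResidueField.map x.asIdeal (⊥ : Ideal R) φ hx (F x)) = F x :=
    congr($hθ (F x))
  have e4 : (r : K) = F x := (hθa r).symm.trans (e2.trans e3)
  rw [← e4]
  exact r.2

end step1

section main

variable {A : Type u} [CommRing A] [IsNoetherianRing A] [IsReduced A] [IsIntegrallyClosed A]

attribute [local instance] Groth.Agent.Lib.Helper97.NormalProd.isPrime_of_mem_minimalPrimes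

open Groth.Agent.Lib.Helper97 in
theorem exists_at_minimalPrimes (F : RPtFun A) (hF : RVaries F) :
    ∃ a : A, ∀ p : minimalPrimes A,
      algebraMap A p.1.ResidueField a = F ⟨p.1, inferInstance⟩ := by
  have hfin : (minimalPrimes A).Finite := minimalPrimes.finite_of_isNoetherianRing A
  have : Finite (minimalPrimes A) := hfin.to_subtype
  have sep := NormalProd.sep_quot hfin
  let K := FractionRing A
  let L : minimalPrimes A → Type u := fun p => p.1.ResidueField
  let e := sep.equiv K L
  let y : ∀ p : minimalPrimes A, integralClosure (A ⧸ p.1) (L p) :=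
    fun p => ⟨F ⟨p.1, inferInstance⟩, isIntegral_of_rVaries F hF ⟨p.1, inferInstance⟩⟩
  obtain ⟨z, hz⟩ := e.surjective y
  obtain ⟨a, ha⟩ := IsIntegrallyClosed.isIntegral_iff.mp z.2
  refine ⟨a, fun p => ?_⟩
  have hz' : z = algebraMap A (integralClosure A K) a := Subtype.ext ha.symm
  have h1 := sep.equiv_algebraMap K L a p
  rw [← hz'] at h1
  have h2 := congrFun hz p
  have h3 : (y p : L p) = F ⟨p.1, inferInstance⟩ := rfl
  rw [← h3, ← h2]
  change _ = ((sep.equiv K L z p : integralClosure (A ⧸ p.1) (L p)) : L p)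
  rw [h1]
  change _ = algebraMap (A ⧸ p.1) (L p) (Ideal.Quotient.mk p.1 a)
  rw [Ideal.algebraMap_quotient_residueField_mk]

theorem exists_of_rVaries (F : RPtFun A) (hF : RVaries F) :
    ∃ a : A, ∀ x : PrimeSpectrum A, algebraMap A x.asIdeal.ResidueField a = F x := by
  obtain ⟨a, ha⟩ := exists_at_minimalPrimes F hF
  refine ⟨a, fun x => ?_⟩
  obtain ⟨p, hpmin, hpx⟩ := Ideal.exists_minimalPrimes_le (I := (⊥ : Ideal A)) (J := x.asIdeal) bot_le
  have hp : p.IsPrime := hpmin.1.1
  by_cases hpe : p = x.asIdeal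
  · have hx : x = ⟨p, hp⟩ := PrimeSpectrum.ext hpe.symm
    subst hx
    exact ha ⟨p, hpmin⟩
  · have hlt : p < x.asIdeal := lt_of_le_of_ne hpx hpe
    obtain ⟨V, _, _, _, φ, hbot, hmax⟩ := exists_dvr_of_lt A p x.asIdeal hlt
    obtain ⟨r, hr⟩ := hF V φ
    have e0 := hr ⟨⊥, Ideal.isPrime_bot⟩ ⟨p, hp⟩ hbot.symm
    rw [← ha ⟨p, hpmin⟩, Ideal.ResidueField.map_algebraMap] at e0
    have hr' : r = φ a := by
      have : algebraMap V (⊥ : Ideal V).ResidueField (r - φ a) = 0 := by
        rw [map_sub, e0, sub_self]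
      rw [Ideal.algebraMap_residueField_eq_zero, Ideal.mem_bot, sub_eq_zero] at this
      exact this
    have e1 := hr ⟨IsLocalRing.maximalIdeal V, inferInstance⟩ x hmax.symm
    rw [hr', ← Ideal.ResidueField.map_algebraMap x.asIdeal (IsLocalRing.maximalIdeal V) φ hmax.symm] at e1
    exact (RingHom.injective _) e1

end main

/-- in a reduced ring an element is determined by its values at all primes -/
theorem eq_of_forall_algebraMap_eq {A : Type u} [CommRing A] [IsReduced A] (a b : A)
    (h : ∀ x : PrimeSpectrum A, algebraMap A x.asIdeal.ResidueField a =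
      algebraMap A x.asIdeal.ResidueField b) : a = b := by
  rw [← sub_eq_zero]
  have hn : a - b ∈ nilradical A := by
    rw [nilradical_eq_sInf, Ideal.mem_sInf]
    intro P hP
    have hP' : P.IsPrime := hP
    have := h ⟨P, hP'⟩
    rw [← sub_eq_zero, ← map_sub, Ideal.algebraMap_residueField_eq_zero] at this
    exact this
  rw [nilradical_eq_zero] at hn
  exact hn

/-- unique existence at scheme level from ring-level existence, for reduced rings -/
theorem existsUnique_of_exists {A : Type u} [CommRing A] [IsReduced A]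
    (f : PtFun (Spec (CommRingCat.of A)))
    (h : ∃ a : A, ∀ x : PrimeSpectrum A, algebraMap A x.asIdeal.ResidueField a = toRing A f x) :
    ∃! a : Γ(Spec (CommRingCat.of A), ⊤), PtFun.ofSection (Spec (CommRingCat.of A)) a = f := by
  obtain ⟨a, ha⟩ := h
  refine ⟨(Scheme.ΓSpecIso (CommRingCat.of A)).inv a, ofSection_eq_of_toRing f a ha, ?_⟩
  intro b hb
  have h1 : (Scheme.ΓSpecIso (CommRingCat.of A)).hom b = a := by
    apply eq_of_forall_algebraMap_eq
    intro x
    rw [← toRing_ofSection, hb, ha]
  rw [← h1]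
  have e := congr(($((Scheme.ΓSpecIso (CommRingCat.of A)).hom_inv_id)).hom b)
  simp only [CommRingCat.hom_comp, RingHom.comp_apply, CommRingCat.hom_id,
    RingHom.id_apply] at e
  exact e.symm

end Groth.Agent.Lib.Helper69.PtFunDVR
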