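import Mathlib
import Groth.Agent.Lib.Helper69.PtFunNormal
import Groth.Agent.Lib.Helper69.PtFunComplete
import Groth.Agent.Lib.Helper69.SemiNormalDescent

/-!
# Pointwise functions varying along (complete) DVRs on a seminormal Noetherian ring with finite
normalization are sections
-/

open AlgebraicGeometry CategoryTheory W4c1hilbchowinc IsLocalRing
universe u

namespace Groth.Agent.Lib.Helper69.PtFunDVR

section pullback

variable {A B : Type u} [CommRing A] [CommRing B] (g : A →+* B)

/-- pullback of a ring-level pointwise function -/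
noncomputable def rPullback (F : RPtFun A) : RPtFun B :=
  fun Q => Ideal.ResidueField.map (Q.asIdeal.comap g) Q.asIdeal g rfl
    (F ⟨Q.asIdeal.comap g, inferInstance⟩)

theorem rVaries_rPullback (F : RPtFun A) (hF : RVaries F) : RVaries (rPullback g F) := by
  intro R _ _ _ ψ
  obtain ⟨r, hr⟩ := hF R (ψ.comp g)
  refine ⟨r, ?_⟩
  intro y Q hQ
  have hx : (Q.asIdeal.comap g) = y.asIdeal.comap (ψ.comp g) := by
    rw [← Ideal.comap_comap, ← hQ]
  have := hr y ⟨Q.asIdeal.comap g, inferInstance⟩ hx
  rw [this]
  simp only [rPullback]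
  rw [resMap_comp_apply]

end pullback

section fraction

variable (A : Type u) [CommRing A]

/-- the total ring of fractions of `A` is also the total ring of fractions of the integral
closure of `A` in it -/
theorem isFractionRing_integralClosure :
    IsFractionRing (integralClosure A (FractionRing A)) (FractionRing A) := by
  set K := FractionRing A
  set B := integralClosure A K
  have hAK : Function.Injective (algebraMap A K) := IsFractionRing.injective A K
  have hunit : ∀ d : nonZeroDivisors A, IsUnit (algebraMap A K d) :=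
    fun d => IsLocalization.map_units K d
  change IsLocalization (nonZeroDivisors B) K
  rw [isLocalization_iff]
  refine ⟨?_, ?_, ?_⟩
  · rintro ⟨b, hb⟩
    obtain ⟨⟨n, d⟩, hnd⟩ := IsLocalization.surj (nonZeroDivisors A) (b : K)
    simp only at hnd
    have hn : n ∈ nonZeroDivisors A := by
      rw [mem_nonZeroDivisors_iff_right]
      intro m hm
      have h1 : (algebraMap A K m * (b : K)) * algebraMap A K d = 0 := by
        rw [mul_assoc, hnd, ← map_mul, hm, map_zero]
      have h2 : algebraMap A K m * (b : K) = 0 := (hunit d).mul_left_eq_zero.mp h1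
      have h3 : algebraMap A B m * b = 0 := Subtype.ext h2
      have h4 : algebraMap A B m = 0 := (mem_nonZeroDivisors_iff_right.mp hb) _ h3
      apply hAK
      rw [map_zero]
      exact congrArg Subtype.val h4
    have h5 : IsUnit ((b : K) * algebraMap A K d) := by
      rw [hnd]
      exact hunit ⟨n, hn⟩
    exact isUnit_of_mul_isUnit_left h5
  · intro z
    obtain ⟨⟨n, d⟩, hnd⟩ := IsLocalization.surj (nonZeroDivisors A) z
    simp only at hnd
    have hd : algebraMap A B d ∈ nonZeroDivisors B := by
      rw [mem_nonZeroDivisors_iff_right]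
      intro x hx
      have h1 : (x : K) * algebraMap A K d = 0 := congrArg Subtype.val hx
      apply Subtype.ext
      exact (hunit d).mul_left_eq_zero.mp h1
    exact ⟨⟨algebraMap A B n, ⟨algebraMap A B d, hd⟩⟩, hnd⟩
  · intro x y hxy
    exact ⟨1, by rw [Subtype.ext hxy]⟩

theorem isIntegrallyClosed_integralClosure :
    IsIntegrallyClosed (integralClosure A (FractionRing A)) := by
  have := isFractionRing_integralClosure A
  exact (isIntegrallyClosed_iff_isIntegrallyClosedIn (FractionRing A)).mpr inferInstance

end fraction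

section sameRes

variable {A B : Type u} [CommRing A] [CommRing B] [Algebra A B]

/-- elements of `B` whose residues at all primes over a given prime `q` of `A` come from one and
the same element of `κ(q)` (elementary form) -/
def sameRes : Subalgebra A B where
  carrier := {d | ∀ q : Ideal A, q.IsPrime → ∃ s : A, s ∉ q ∧ ∃ c : A, ∀ Q : Ideal B, Q.IsPrime →
      Q.comap (algebraMap A B) = q → algebraMap A B s * d - algebraMap A B c ∈ Q}
  mul_mem' := by
    intro d₁ d₂ h₁ h₂ q hq
    obtain ⟨s₁, hs₁, c₁, hc₁⟩ := h₁ q hq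
    obtain ⟨s₂, hs₂, c₂, hc₂⟩ := h₂ q hq
    refine ⟨s₁ * s₂, fun h => (hq.mem_or_mem h).elim hs₁ hs₂, c₁ * c₂, ?_⟩
    intro Q hQ hQq
    have e : algebraMap A B (s₁ * s₂) * (d₁ * d₂) - algebraMap A B (c₁ * c₂) =
        (algebraMap A B s₁ * d₁) * (algebraMap A B s₂ * d₂ - algebraMap A B c₂) +
          algebraMap A B c₂ * (algebraMap A B s₁ * d₁ - algebraMap A B c₁) := by
      rw [map_mul, map_mul]; ring
    rw [e]
    exact Q.add_mem (Q.mul_mem_left _ (hc₂ Q hQ hQq)) (Q.mul_mem_left _ (hc₁ Q hQ hQq))
  add_mem' := by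
    intro d₁ d₂ h₁ h₂ q hq
    obtain ⟨s₁, hs₁, c₁, hc₁⟩ := h₁ q hq
    obtain ⟨s₂, hs₂, c₂, hc₂⟩ := h₂ q hq
    refine ⟨s₁ * s₂, fun h => (hq.mem_or_mem h).elim hs₁ hs₂, s₂ * c₁ + s₁ * c₂, ?_⟩
    intro Q hQ hQq
    have e : algebraMap A B (s₁ * s₂) * (d₁ + d₂) - algebraMap A B (s₂ * c₁ + s₁ * c₂) =
        algebraMap A B s₂ * (algebraMap A B s₁ * d₁ - algebraMap A B c₁) +
          algebraMap A B s₁ * (algebraMap A B s₂ * d₂ - algebraMap A B c₂) := by
      rw [map_mul, map_add, map_mul, map_mul]; ring
    rw [e]
    exact Q.add_mem (Q.mul_mem_left _ (hc₁ Q hQ hQq)) (Q.mul_mem_left _ (hc₂ Q hQ hQq))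
  algebraMap_mem' := by
    intro c₀ q hq
    refine ⟨1, fun h => hq.ne_top ((Ideal.eq_top_iff_one _).mpr h), c₀, ?_⟩
    intro Q hQ hQq
    have : algebraMap A B 1 * (algebraMap A B c₀) - algebraMap A B c₀ = 0 := by
      rw [map_one, one_mul, sub_self]
    rw [this]
    exact Q.zero_mem

lemma mem_sameRes (d : B) :
    d ∈ (sameRes : Subalgebra A B) ↔ ∀ q : Ideal A, q.IsPrime → ∃ s : A, s ∉ q ∧ ∃ c : A,
      ∀ Q : Ideal B, Q.IsPrime → Q.comap (algebraMap A B) = q →
        algebraMap A B s * d - algebraMap A B c ∈ Q := Iff.rfl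

/-- **Traverso–Swan glueing**: a seminormal Noetherian ring contains every element of a finite
reduced extension whose residues come from it in a way independent of the prime above. -/
theorem mem_range_of_mem_sameRes [IsNoetherianRing A] (hA : HTop.IsSeminormalRing A)
    [IsReduced B] [Module.Finite A B] (hinj : Function.Injective (algebraMap A B))
    (b : B) (hb : b ∈ (sameRes : Subalgebra A B)) : b ∈ (algebraMap A B).range := by
  let T : Subalgebra A B := sameRes
  have hBN : IsNoetherian A B := isNoetherian_of_isNoetherianRing_of_finite A B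
  have hTfin : Module.Finite A T := Module.IsNoetherian.finite A (Subalgebra.toSubmodule T)
  have hTred : IsReduced T := isReduced_of_injective T.val Subtype.val_injective
  have hintB : Algebra.IsIntegral A B := inferInstance
  have hintTB : Algebra.IsIntegral T B := Algebra.IsIntegral.tower_top (R := A)
  have hintT : Algebra.IsIntegral A T := inferInstance
  have hinjT : Function.Injective (algebraMap A T) := by
    intro a a' h
    exact hinj (congrArg Subtype.val h)
  have hinjTB : Function.Injective (algebraMap T B) := Subtype.val_injective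
  -- lying over for `T ⊆ B`
  have hLO : ∀ P : Ideal T, P.IsPrime → ∃ Q : Ideal B, Q.IsPrime ∧
      Q.comap (algebraMap T B) = P := by
    intro P hP
    obtain ⟨Q, -, hQ1, hQ2⟩ := Ideal.exists_ideal_over_prime_of_isIntegral P (⊥ : Ideal B) (by
      intro t ht
      rw [Ideal.mem_comap, Ideal.mem_bot] at ht
      have : t = 0 := hinjTB (by rw [ht, map_zero])
      rw [this]
      exact P.zero_mem)
    exact ⟨Q, hQ1, hQ2⟩
  -- membership criterion
  have hcrit : ∀ (P : Ideal T) (hP : P.IsPrime) (d : T) (s c : A),
      s ∉ P.comap (algebraMap A T) →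
      (∀ Q : Ideal B, Q.IsPrime → Q.comap (algebraMap A B) = P.comap (algebraMap A T) →
        algebraMap A B s * (d : B) - algebraMap A B c ∈ Q) →
      (d ∈ P ↔ c ∈ P.comap (algebraMap A T)) := by
    intro P hP d s c hs hsc
    obtain ⟨Q, hQ, hQP⟩ := hLO P hP
    have hQA : Q.comap (algebraMap A B) = P.comap (algebraMap A T) := by
      rw [← hQP, Ideal.comap_comap]
      rfl
    have h1 := hsc Q hQ hQA
    have hdQ : d ∈ P ↔ (d : B) ∈ Q := by
      rw [← hQP]
      rfl
    have hsQ : algebraMap A B s ∉ Q := by
      intro h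
      apply hs
      rw [← hQA]
      exact h
    have hcQ : c ∈ P.comap (algebraMap A T) ↔ algebraMap A B c ∈ Q := by
      rw [← hQA]
      rfl
    rw [hdQ, hcQ]
    constructor
    · intro hd
      have := Q.sub_mem (Q.mul_mem_left (algebraMap A B s) hd) h1
      rwa [sub_sub_cancel] at this
    · intro hc
      have := Q.add_mem h1 hc
      rw [sub_add_cancel] at this
      exact (hQ.mem_or_mem this).resolve_left hsQ
  have hspec : Function.Bijective (PrimeSpectrum.comap (algebraMap A T)) := by
    constructor
    · intro P P' hPP'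
      have hq : P.asIdeal.comap (algebraMap A T) = P'.asIdeal.comap (algebraMap A T) :=
        congrArg PrimeSpectrum.asIdeal hPP'
      apply PrimeSpectrum.ext
      ext d
      obtain ⟨s, hs, c, hc⟩ := d.2 (P.asIdeal.comap (algebraMap A T)) inferInstance
      rw [hcrit P.asIdeal P.2 d s c hs hc]
      rw [hq] at hs hc ⊢
      rw [hcrit P'.asIdeal P'.2 d s c hs hc]
    · intro q
      obtain ⟨Q, -, hQ1, hQ2⟩ := Ideal.exists_ideal_over_prime_of_isIntegral q.asIdeal
        (⊥ : Ideal T) (by
          intro t ht
          rw [Ideal.mem_comap, Ideal.mem_bot] at ht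
          have : t = 0 := hinjT (by rw [ht, map_zero])
          rw [this]
          exact q.asIdeal.zero_mem)
      exact ⟨⟨Q, hQ1⟩, PrimeSpectrum.ext hQ2⟩
  have hfin : (algebraMap A T).Finite := RingHom.finite_algebraMap.mpr hTfin
  have key := SemiNormalDescent.mem_range_of_seminormal hA (algebraMap A T) hfin hspec ⟨b, hb⟩ (by
    intro q' hq'
    obtain ⟨s, hs, c, hc⟩ := hb (q'.comap (algebraMap A T)) inferInstance
    refine ⟨s, hs, c, ?_⟩
    obtain ⟨Q, hQ, hQP⟩ := hLO q' hq'
    have hQA : Q.comap (algebraMap A B) = q'.comap (algebraMap A T) := by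
      rw [← hQP, Ideal.comap_comap]
      rfl
    have := hc Q hQ hQA
    rw [← hQP]
    exact this)
  obtain ⟨a, ha⟩ := key
  exact ⟨a, congrArg Subtype.val ha⟩

end sameRes

section final

/-- write an element of `κ(q)` as a fraction -/
lemma exists_fraction {A : Type u} [CommRing A] (q : Ideal A) [q.IsPrime] (z : q.ResidueField) :
    ∃ s : A, s ∉ q ∧ ∃ c : A, algebraMap A q.ResidueField s * z = algebraMap A q.ResidueField c := by
  obtain ⟨⟨n, d⟩, hnd⟩ := IsLocalization.surj (nonZeroDivisors (A ⧸ q)) z
  simp only at hnd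
  obtain ⟨c, hc⟩ := Ideal.Quotient.mk_surjective n
  obtain ⟨s, hs⟩ := Ideal.Quotient.mk_surjective (d : A ⧸ q)
  refine ⟨s, ?_, c, ?_⟩
  · intro h
    have h0 : (d : A ⧸ q) = 0 := by rw [← hs]; exact Ideal.Quotient.eq_zero_iff_mem.mpr h
    exact nonZeroDivisors.ne_zero d.2 h0
  · rw [← Ideal.algebraMap_quotient_residueField_mk, ← Ideal.algebraMap_quotient_residueField_mk,
      hs, hc, mul_comm]
    exact hnd

theorem exists_of_rVaries_seminormal {A : Type u} [CommRing A] [IsNoetherianRing A]
    (hA : HTop.IsSeminormalRing A)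
    (hfin : Module.Finite A (integralClosure A (FractionRing A)))
    (F : RPtFun A) (hF : RVaries F) :
    ∃ a : A, ∀ x : PrimeSpectrum A, algebraMap A x.asIdeal.ResidueField a = F x := by
  have hAred := SemiNormalDescent.isReduced_of_isSeminormalRing hA
  let K := FractionRing A
  let B := integralClosure A K
  have hBN : IsNoetherianRing B := IsNoetherianRing.of_finite A B
  have hBred : IsReduced B := isReduced_of_injective B.val Subtype.val_injective
  have hBic : IsIntegrallyClosed B := isIntegrallyClosed_integralClosure A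
  have hinj : Function.Injective (algebraMap A B) := by
    intro a a' h
    exact IsFractionRing.injective A K (congrArg Subtype.val h)
  obtain ⟨b, hb⟩ := exists_of_rVaries (rPullback (algebraMap A B) F)
    (rVaries_rPullback (algebraMap A B) F hF)
  have hbT : b ∈ (sameRes : Subalgebra A B) := by
    intro q hq
    obtain ⟨s, hs, c, hsc⟩ := exists_fraction q (F ⟨q, hq⟩)
    refine ⟨s, hs, c, ?_⟩
    intro Q hQ hQq
    subst hQq
    rw [← Ideal.algebraMap_residueField_eq_zero (I := Q), map_sub, map_mul, hb ⟨Q, hQ⟩]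
    simp only [rPullback]
    rw [← Ideal.ResidueField.map_algebraMap (Q.comap (algebraMap A B)) Q (algebraMap A B) rfl,
      ← Ideal.ResidueField.map_algebraMap (Q.comap (algebraMap A B)) Q (algebraMap A B) rfl,
      ← map_mul, hsc, sub_self]
  obtain ⟨a, ha⟩ := mem_range_of_mem_sameRes hA hinj b hbT
  refine ⟨a, fun x => ?_⟩
  obtain ⟨Q, -, hQ1, hQ2⟩ := Ideal.exists_ideal_over_prime_of_isIntegral x.asIdeal
    (⊥ : Ideal B) (by
      intro t ht
      rw [Ideal.mem_comap, Ideal.mem_bot] at ht
      have : t = 0 := hinj (by rw [ht, map_zero])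
      rw [this]
      exact x.asIdeal.zero_mem)
  have h1 := hb ⟨Q, hQ1⟩
  simp only [rPullback] at h1
  obtain rfl : x = ⟨Q.comap (algebraMap A B), inferInstance⟩ := PrimeSpectrum.ext hQ2.symm
  apply (Ideal.ResidueField.map (Q.comap (algebraMap A B)) Q (algebraMap A B) rfl).injective
  rw [Ideal.ResidueField.map_algebraMap, ha]
  exact h1

end final

end Groth.Agent.Lib.Helper69.PtFunDVR
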