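import Mathlib.RingTheory.Invariant.Galois
import Mathlib.RingTheory.LocalRing.ResidueField.Ideal

/-!
# Ring-level core of SGA1 V 1.1: residue field extensions of a quotient by a finite group

`A → B` with `G` acting on `B`, `A = B^G`; `evA : A → K`, `evB : B → L` compatible maps to fields
which are "fraction-field-like" (every element is a quotient of values).  Then `L/K` is normal and
every `K`-automorphism of `L` is induced by an element of `G` preserving `ker evB`.
-/

set_option linter.style.haveILetI false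

namespace Groth.Agent.Lib.Helper69.QuotResidue

universe u v

open scoped Pointwise

section frac

variable {R : Type*} [CommRing R] {L : Type*} [Field L] (ev : R →+* L)

/-- The algebra structure `R ⧸ ker ev → L`. -/
@[reducible] noncomputable def kerAlgebra : Algebra (R ⧸ RingHom.ker ev) L :=
  (Ideal.Quotient.lift (RingHom.ker ev) ev (fun _ h => h)).toAlgebra

theorem isFractionRing_ker (hsurj : ∀ l : L, ∃ a s : R, ev s ≠ 0 ∧ l = ev a / ev s) :
    letI := kerAlgebra ev
    IsFractionRing (R ⧸ RingHom.ker ev) L := by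
  letI := kerAlgebra ev
  have hinj : Function.Injective (algebraMap (R ⧸ RingHom.ker ev) L) :=
    RingHom.lift_injective_of_ker_le_ideal _ _ le_rfl
  have hmk : ∀ r : R, algebraMap (R ⧸ RingHom.ker ev) L (Ideal.Quotient.mk _ r) = ev r :=
    fun r => rfl
  haveI : (RingHom.ker ev).IsPrime := RingHom.ker_isPrime ev
  refine
    { map_units := fun y => isUnit_iff_ne_zero.mpr
        (map_ne_zero_of_mem_nonZeroDivisors _ hinj y.2)
      surj := fun l => ?_
      exists_of_eq := fun {x y} e => ⟨1, by rw [hinj e]⟩ }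
  obtain ⟨a, s, hs, rfl⟩ := hsurj l
  refine ⟨⟨Ideal.Quotient.mk _ a, ⟨Ideal.Quotient.mk _ s, ?_⟩⟩, ?_⟩
  · rw [mem_nonZeroDivisors_iff_ne_zero]
    intro h
    apply hs
    rw [← hmk, h, map_zero]
  · show ev a / ev s * algebraMap (R ⧸ RingHom.ker ev) L (Ideal.Quotient.mk _ s) =
      algebraMap (R ⧸ RingHom.ker ev) L (Ideal.Quotient.mk _ a)
    rw [hmk, hmk, div_mul_cancel₀ _ hs]

end frac

section core

variable {A B : Type u} [CommRing A] [CommRing B] [Algebra A B]
  (G : Type v) [Group G] [Finite G] [MulSemiringAction G B] [SMulCommClass G A B]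
  [Algebra.IsInvariant A B G]
  (K L : Type u) [Field K] [Field L] [Algebra K L]
  (evA : A →+* K) (evB : B →+* L)

theorem core (hcomm : (algebraMap K L).comp evA = evB.comp (algebraMap A B))
    (hsurjA : ∀ k : K, ∃ a s : A, evA s ≠ 0 ∧ k = evA a / evA s)
    (hsurjB : ∀ l : L, ∃ a s : B, evB s ≠ 0 ∧ l = evB a / evB s) :
    Normal K L ∧ ∀ τ : L ≃ₐ[K] L, ∃ g : G,
      (∀ b : B, evB (g • b) = 0 ↔ evB b = 0) ∧ ∀ b : B, τ (evB b) = evB (g • b) := by
  set P : Ideal A := RingHom.ker evA with hP
  set Q : Ideal B := RingHom.ker evB with hQ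
  haveI : P.IsPrime := RingHom.ker_isPrime evA
  haveI : Q.IsPrime := RingHom.ker_isPrime evB
  haveI hlies : Q.LiesOver P := by
    constructor
    ext a
    rw [Ideal.under_def, Ideal.mem_comap, hP, hQ, RingHom.mem_ker, RingHom.mem_ker]
    have h := congrArg (fun f => f a) hcomm
    simp only [RingHom.comp_apply] at h
    rw [← h]
    constructor
    · intro ha; rw [ha, map_zero]
    · intro ha
      exact (map_eq_zero_iff _ (algebraMap K L).injective).1 ha
  letI algAK : Algebra (A ⧸ P) K := kerAlgebra evA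
  letI algBL : Algebra (B ⧸ Q) L := kerAlgebra evB
  letI algAL : Algebra (A ⧸ P) L := ((algebraMap K L).comp (algebraMap (A ⧸ P) K)).toAlgebra
  haveI st1 : IsScalarTower (A ⧸ P) K L := IsScalarTower.of_algebraMap_eq' rfl
  haveI st2 : IsScalarTower (A ⧸ P) (B ⧸ Q) L := by
    refine IsScalarTower.of_algebraMap_eq' ?_
    apply Ideal.Quotient.ringHom_ext
    ext a
    have h := congrArg (fun f => f a) hcomm
    simp only [RingHom.comp_apply] at h
    show algebraMap K L (evA a) = _
    rw [h]
    rfl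
  haveI frA : IsFractionRing (A ⧸ P) K := isFractionRing_ker evA hsurjA
  haveI frB : IsFractionRing (B ⧸ Q) L := isFractionRing_ker evB hsurjB
  refine ⟨Ideal.IsFractionRing.normal G P Q K L, fun τ => ?_⟩
  obtain ⟨σ, hσ⟩ := IsFractionRing.stabilizerHom_surjective G P Q K L τ
  refine ⟨σ.1, fun b => ?_, fun b => ?_⟩
  · have hσQ : σ.1 • Q = Q := σ.2
    have h1 : evB b = 0 ↔ b ∈ Q := RingHom.mem_ker.symm
    have h2 : evB (σ.1 • b) = 0 ↔ σ.1 • b ∈ Q := RingHom.mem_ker.symm
    have h3 : σ.1 • b ∈ σ.1 • Q ↔ b ∈ Q := Ideal.smul_mem_pointwise_smul_iff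
    have h4 : σ.1 • b ∈ Q ↔ σ.1 • b ∈ σ.1 • Q := by
      constructor
      · intro h; exact hσQ.symm ▸ h
      · intro h; exact hσQ.le h
    exact h2.trans (h4.trans (h3.trans h1.symm))
  · have := IsFractionRing.stabilizerHom_apply_apply_mk G P Q K L σ b
    rw [hσ] at this
    exact this

end core

end Groth.Agent.Lib.Helper69.QuotResidue
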