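import Mathlib.AlgebraicGeometry.ResidueField
import Mathlib.AlgebraicGeometry.AffineScheme
import Mathlib.AlgebraicGeometry.Properties

/-!
# Scheme-level helpers on evaluation maps at points of affine opens
-/

set_option autoImplicit false
set_option linter.style.haveILetI false
universe u
open CategoryTheory AlgebraicGeometry TopologicalSpace

namespace Groth.Agent.Lib.Helper69.QuotResidueSch

/-- Every element of the residue field at a point of an affine open is a quotient of values of
sections. -/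
theorem exists_eval_div {X : Scheme.{u}} {V : X.Opens} (hV : IsAffineOpen V) (x : X) (hx : x ∈ V)
    (l : X.residueField x) :
    ∃ a s : Γ(X, V), (X.evaluation V x hx).hom s ≠ 0 ∧
      l = (X.evaluation V x hx).hom a / (X.evaluation V x hx).hom s := by
  obtain ⟨z, rfl⟩ := X.residue_surjective x l
  haveI := hV.isLocalization_stalk ⟨x, hx⟩
  letI : Algebra Γ(X, V) (X.presheaf.stalk x) :=
    TopCat.Presheaf.algebra_section_stalk X.presheaf ⟨x, hx⟩
  obtain ⟨a, s, rfl⟩ := IsLocalization.exists_mk'_eq (hV.primeIdealOf ⟨x, hx⟩).asIdeal.primeCompl z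
  have hmap : ∀ b : Γ(X, V), (X.evaluation V x hx).hom b =
      (X.residue x).hom (algebraMap Γ(X, V) (X.presheaf.stalk x) b) := fun b => rfl
  have hs : (X.evaluation V x hx).hom s.1 ≠ 0 := by
    rw [hmap]
    have hu : IsUnit (algebraMap Γ(X, V) (X.presheaf.stalk x) s.1) :=
      IsLocalization.map_units (M := (hV.primeIdealOf ⟨x, hx⟩).asIdeal.primeCompl) _ s
    exact (hu.map (X.residue x).hom).ne_zero
  refine ⟨a, s.1, hs, ?_⟩
  rw [eq_div_iff hs, hmap, hmap, ← map_mul, IsLocalization.mk'_spec]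

/-- Two points of an affine open with the same vanishing sections are equal. -/
theorem eq_of_forall_evaluation {X : Scheme.{u}} {V : X.Opens} (hV : IsAffineOpen V) {x x' : X}
    (hx : x ∈ V) (hx' : x' ∈ V)
    (h : ∀ b : Γ(X, V), (X.evaluation V x' hx').hom b = 0 ↔ (X.evaluation V x hx).hom b = 0) :
    x' = x := by
  have key : ∀ b : Γ(X, V), x' ∈ X.basicOpen b ↔ x ∈ X.basicOpen b := by
    intro b
    rw [← X.evaluation_ne_zero_iff_mem_basicOpen x' hx' b,
      ← X.evaluation_ne_zero_iff_mem_basicOpen x hx b]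
    exact not_congr (h b)
  apply Inseparable.eq
  rw [inseparable_iff_forall_isOpen]
  intro W hW
  constructor
  · intro hxW
    obtain ⟨b, hb1, hb2⟩ := hV.exists_basicOpen_le (V := ⟨W, hW⟩) ⟨x', hxW⟩ hx'
    exact hb1 ((key b).1 hb2)
  · intro hxW
    obtain ⟨b, hb1, hb2⟩ := hV.exists_basicOpen_le (V := ⟨W, hW⟩) ⟨x, hxW⟩ hx
    exact hb1 ((key b).2 hb2)

theorem evaluation_congr {X : Scheme.{u}} {x y : X} (h : x = y) (U : X.Opens) (hx : x ∈ U)
    (s : Γ(X, U)) :
    (X.residueFieldCongr h).hom ((X.evaluation U x hx).hom s) =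
      (X.evaluation U y (h ▸ hx)).hom s := by
  subst h
  simp

theorem evaluation_res {X : Scheme.{u}} {U W : X.Opens} (e : W ≤ U) (x : X) (hx : x ∈ W)
    (s : Γ(X, U)) :
    (X.evaluation W x hx).hom ((X.presheaf.map (homOfLE e).op).hom s) =
      (X.evaluation U x (e hx)).hom s := by
  show (X.residue x).hom ((X.presheaf.germ W x hx).hom ((X.presheaf.map (homOfLE e).op).hom s)) =
    (X.residue x).hom ((X.presheaf.germ U x (e hx)).hom s)
  congr 1
  exact TopCat.Presheaf.germ_res_apply X.presheaf (homOfLE e) x hx s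

theorem evaluation_appLE {X Y : Scheme.{u}} (f : X ⟶ Y) (U : Y.Opens) (W : X.Opens)
    (e : W ≤ f ⁻¹ᵁ U) (x : X) (hx : x ∈ W) (s : Γ(Y, U)) :
    (f.residueFieldMap x).hom ((Y.evaluation U (f x) (e hx)).hom s) =
      (X.evaluation W x hx).hom ((f.appLE U W e).hom s) := by
  have h1 := Scheme.evaluation_naturality_apply f x (e hx) s
  have h2 := evaluation_res e x hx ((f.app U).hom s)
  rw [Scheme.Hom.appLE]
  exact h1.trans h2.symm

end Groth.Agent.Lib.Helper69.QuotResidueSch
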