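import Mathlib
import Groth.Agent.Lib.Helper69.InsepLength

/-! # Ramification index of `A → (K ⊗[k] A)_M` (helper69) -/

set_option autoImplicit false
set_option linter.style.haveILetI false

open TensorProduct IsLocalRing

noncomputable section

namespace Groth.Agent.Lib.Helper69.RamBC

open Groth.Agent.Lib.Helper69.InsepLength

/-- ramification index in terms of the fibre ring. -/
theorem ramificationIdx_comap_fiber {R S : Type*} [CommRing R] [CommRing S] [Algebra R S]
    (p : Ideal R) [p.IsPrime] (q : Ideal (p.Fiber S)) [q.IsPrime] :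
    (q.comap (Algebra.TensorProduct.includeRight : S →ₐ[R] p.Fiber S)).ramificationIdx R =
      (Module.length (Localization.AtPrime q) (Localization.AtPrime q)).toNat := by
  set r := q.comap (Algebra.TensorProduct.includeRight : S →ₐ[R] p.Fiber S) with hr
  let := Localization.AtPrime.algebraOfLiesOver p r
  rw [Ideal.ramificationIdx_eq p r]
  congr 1
  rw [Module.length_eq_of_surjective (S := Localization.AtPrime r)
    (R := Localization.AtPrime r ⧸ p.map (algebraMap R (Localization.AtPrime r)))
    (M := Localization.AtPrime r ⧸ p.map (algebraMap R (Localization.AtPrime r)))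
    Ideal.Quotient.mk_surjective]
  exact (length_self_eq_of_ringEquiv (R₁ := Localization.AtPrime q)
    (R₂ := Localization.AtPrime r ⧸ p.map (algebraMap R (Localization.AtPrime r)))
    (Ideal.Fiber.localizationAlgEquivQuotient p q).toRingEquiv).symm

theorem exists_fiber_prime {R S : Type*} [CommRing R] [CommRing S] [Algebra R S]
    (p : Ideal R) [p.IsPrime] (M : Ideal S) [hM : M.IsPrime] [hMp : M.LiesOver p] :
    ∃ (q : Ideal (p.Fiber S)) (_ : q.IsPrime),
      q.comap (Algebra.TensorProduct.includeRight : S →ₐ[R] p.Fiber S) = M := by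
  let r := PrimeSpectrum.primesOverOrderIsoFiber R S p ⟨M, hM, hMp⟩
  refine ⟨r.1, r.2, ?_⟩
  rw [← PrimeSpectrum.coe_primesOverOrderIsoFiber_symm_apply, OrderIso.symm_apply_apply]

section Core

attribute [local instance] Algebra.TensorProduct.rightAlgebra

variable (k K A : Type*) [Field k] [Field K] [Algebra k K] [CommRing A] [Algebra k A]

/-- the fibre of `K ⊗[k] A` over a prime `p` of `A` is `K ⊗[k] κ(p)`. -/
def fiberEquiv (p : Ideal A) [p.IsPrime] :
    p.Fiber (K ⊗[k] A) ≃+* K ⊗[k] p.ResidueField :=
  ((Algebra.TensorProduct.congr (AlgEquiv.refl : p.ResidueField ≃ₐ[A] p.ResidueField)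
      (Algebra.TensorProduct.commRight k A K).symm).trans
    (Algebra.TensorProduct.cancelBaseChange k A A p.ResidueField K)).toRingEquiv.trans
    (Algebra.TensorProduct.comm k p.ResidueField K).toRingEquiv

variable {k K A}

/-- the residue field at the maximal ideal of a local ring vs. any residue field. -/
theorem exists_residueField_algEquiv [IsLocalRing A] (κ : Type*) [Field κ] [Algebra k κ]
    [Algebra A κ] [IsScalarTower k A κ] (hκ : Function.Surjective (algebraMap A κ)) :
    Nonempty ((maximalIdeal A).ResidueField ≃ₐ[k] κ) := by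
  have hker : RingHom.ker (algebraMap A κ) = maximalIdeal A :=
    IsLocalRing.eq_maximalIdeal (RingHom.ker_isMaximal_of_surjective _ hκ)
  let f : A →ₐ[k] κ := IsScalarTower.toAlgHom k A κ
  have hf₁ : maximalIdeal A ≤ RingHom.ker f := by
    intro a ha
    rw [← hker] at ha
    exact ha
  have hf₂ : (maximalIdeal A).primeCompl ≤ (IsUnit.submonoid κ).comap f := by
    intro a ha
    have hu : IsUnit a := by
      by_contra h
      exact ha ((IsLocalRing.mem_maximalIdeal a).mpr h)
    exact hu.map f
  let g : (maximalIdeal A).ResidueField →ₐ[k] κ := Ideal.ResidueField.liftₐ _ f hf₁ hf₂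
  refine ⟨AlgEquiv.ofBijective g ⟨g.toRingHom.injective, fun y => ?_⟩⟩
  obtain ⟨a, rfl⟩ := hκ y
  exact ⟨algebraMap A _ a, Ideal.ResidueField.liftₐ_algebraMap _ f hf₁ hf₂ a⟩

/-- **Ramification index of `A → (K ⊗[k] A)_M`.** -/
theorem ramificationIdx_eq_finInsepDegree [IsAlgClosed K] [Algebra.IsAlgebraic k K]
    [IsLocalRing A] (B : Type*) [CommRing B] [IsLocalRing B] [Algebra A B]
    [IsLocalHom (algebraMap A B)]
    (κ : Type*) [Field κ] [Algebra k κ] [Algebra A κ] [IsScalarTower k A κ]
    [FiniteDimensional k κ] (hκ : Function.Surjective (algebraMap A κ))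
    (can : K ⊗[k] A →+* B) (h2 : ∀ a, can (1 ⊗ₜ a) = algebraMap A B a)
    (hloc : letI := can.toAlgebra
      IsLocalization.AtPrime B ((maximalIdeal B).comap can)) :
    (maximalIdeal B).ramificationIdx A = Field.finInsepDegree k κ := by
  set M : Ideal (K ⊗[k] A) := (maximalIdeal B).comap can with hM
  letI : Algebra (K ⊗[k] A) B := can.toAlgebra
  haveI : IsScalarTower A (K ⊗[k] A) B := .of_algebraMap_eq fun a => (h2 a).symm
  haveI := hloc
  haveI : (maximalIdeal B).LiesOver M := ⟨rfl⟩
  haveI : Module.Flat (K ⊗[k] A) B := IsLocalization.flat B M.primeCompl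
  have h1 := Ideal.ramificationIdx_tower (R := A) M (maximalIdeal B)
  -- the top step is unramified
  have h3 : (maximalIdeal B).ramificationIdx (K ⊗[k] A) = 1 := by
    haveI : Algebra.EssFiniteType (K ⊗[k] A) B :=
      Algebra.EssFiniteType.of_isLocalization B M.primeCompl
    haveI : Algebra.FormallyUnramified (K ⊗[k] A) B :=
      Algebra.FormallyUnramified.of_isLocalization M.primeCompl
    haveI : Algebra.FormallyUnramified B (Localization.AtPrime (maximalIdeal B)) :=
      Algebra.FormallyUnramified.of_isLocalization (maximalIdeal B).primeCompl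
    haveI : Algebra.IsUnramifiedAt (K ⊗[k] A) (maximalIdeal B) :=
      Algebra.FormallyUnramified.comp (K ⊗[k] A) B _
    exact Ideal.ramificationIdx_eq_one _ _
  rw [h1, h3, mul_one]
  -- `M` lies over the maximal ideal
  haveI : M.LiesOver (maximalIdeal A) := by
    constructor
    ext a
    rw [Ideal.mem_comap, hM, Ideal.mem_comap]
    have : can (algebraMap A (K ⊗[k] A) a) = algebraMap A B a := h2 a
    rw [this, IsLocalRing.mem_maximalIdeal, IsLocalRing.mem_maximalIdeal, mem_nonunits_iff,
      mem_nonunits_iff, not_iff_not]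
    exact ⟨fun h => h.map _, fun h => isUnit_of_map_unit (algebraMap A B) a h⟩
  obtain ⟨q, hq, hqM⟩ := exists_fiber_prime (maximalIdeal A) M
  rw [← hqM, ramificationIdx_comap_fiber]
  -- transport to `K ⊗[k] κ(m)`
  let Φ := fiberEquiv k K A (maximalIdeal A)
  let q' : Ideal (K ⊗[k] (maximalIdeal A).ResidueField) := q.comap Φ.symm
  haveI : q'.IsPrime := Ideal.comap_isPrime _ _
  have hqq' : q = q'.comap Φ := by
    ext x
    simp [q', Ideal.mem_comap]
  have hlen := length_self_eq_of_ringEquiv (R₁ := Localization.AtPrime q)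
    (R₂ := Localization.AtPrime q') (Localization.localRingEquiv q q' Φ hqq')
  obtain ⟨e⟩ := exists_residueField_algEquiv (k := k) (A := A) κ hκ
  haveI : FiniteDimensional k (maximalIdeal A).ResidueField :=
    Module.Finite.equiv e.symm.toLinearEquiv
  have hfin := length_localization k (maximalIdeal A).ResidueField K q'
  refine Eq.trans ?_ (hfin.trans (Field.finInsepDegree_eq_of_equiv _ _ _ e))
  exact congrArg ENat.toNat hlen

end Core

end Groth.Agent.Lib.Helper69.RamBC
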