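import Mathlib
import Groth.Prelude.Def_HTop2
import Groth.Agent.Lib.Helper69.AWNExist

/-!
# Relative weak normalization and seminormalization of `A` in `B` (Stacks 0EUL / 0EUM)
-/

open AlgebraicGeometry CategoryTheory
open scoped TensorProduct
universe u

namespace Groth.Agent.Lib.Helper69.RelWN

open Groth.Agent.Lib.Helper69.UHRing Groth.Agent.Lib.Helper69.AWNRing
  Groth.Agent.Lib.Helper69.WeakNorm Groth.Agent.Lib.Helper69.SpecResidue
  Groth.Agent.Lib.Helper69.ElemChainSN Groth.Agent.Lib.Helper69.AWNExist

section transfer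

variable {A D D' : Type u} [CommRing A] [CommRing D] [CommRing D']

lemma IsUH.comp_equiv {φ : A →+* D} (h : IsUH φ) (e : D ≃+* D') :
    IsUH ((e : D →+* D').comp φ) :=
  h.comp (isUH_of_surjective_of_ker_le_nilradical _ e.surjective (by
    intro x hx
    have hx0 : x = 0 := e.injective (by rw [map_zero]; exact hx)
    rw [hx0]
    exact zero_mem _))

lemma ResTriv.comp_equiv {φ : A →+* D} (h : ResTriv φ) (e : D ≃+* D') :
    ResTriv ((e : D →+* D').comp φ) := by
  intro Q hQ b
  obtain ⟨s, hs, a, ha⟩ := h (Q.comap (e : D →+* D')) (Ideal.comap_isPrime _ _) (e.symm b)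
  refine ⟨s, hs, a, ?_⟩
  rw [Ideal.mem_comap, map_sub, map_mul] at ha
  simpa using ha

end transfer

section range

variable {A B D : Type u} [CommRing A] [CommRing B] [CommRing D] [Algebra A B] [Algebra A D]

lemma algebraMap_range_eq (ι : D →ₐ[A] B) (hι : Function.Injective ι) :
    algebraMap A ι.range =
      (((AlgEquiv.ofInjective ι hι : D ≃ₐ[A] ι.range) : D ≃+* ι.range) : D →+* ι.range).comp
        (algebraMap A D) := by
  refine RingHom.ext fun a => Subtype.ext ?_
  simp

lemma isUH_range (ι : D →ₐ[A] B) (hι : Function.Injective ι) (h : IsUH (algebraMap A D)) :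
    IsUH (algebraMap A ι.range) := by
  rw [algebraMap_range_eq ι hι]
  exact IsUH.comp_equiv h _

lemma resTriv_range (ι : D →ₐ[A] B) (hι : Function.Injective ι)
    (h : ResTriv (algebraMap A D)) : ResTriv (algebraMap A ι.range) := by
  rw [algebraMap_range_eq ι hι]
  exact ResTriv.comp_equiv h _

end range

section sn

variable {A B E' : Type u} [CommRing A] [CommRing B] [CommRing E'] [Algebra A B] [Algebra A E']

/-- the composite `resSub' ⊆ E' → B` -/
noncomputable def ιS (ι : E' →ₐ[A] B) : (resSub' : Subalgebra A E') →ₐ[A] B :=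
  ι.comp (resSub' : Subalgebra A E').val

lemma ιS_injective (ι : E' →ₐ[A] B) (hι : Function.Injective ι) :
    Function.Injective (ιS ι) := by
  intro x y h
  exact Subtype.ext (hι h)

lemma isUH_resSub' (hE : IsUH (algebraMap A E')) :
    IsUH (A := A) (B := (resSub' : Subalgebra A E'))
      (algebraMap A (resSub' : Subalgebra A E')) :=
  IsUH.of_surj (isIntegral_subalgebra _ hE.1)
    (comap_surjective_subalgebra _ hE.2.1.2)
    (fieldPtsInj_subalgebra _ hE.1 hE.2.2)

lemma resTriv_resSub' (hE : IsUH (algebraMap A E')) :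
    ResTriv (A := A) (B := (resSub' : Subalgebra A E'))
      (algebraMap A (resSub' : Subalgebra A E')) := by
  intro Q hQ d
  obtain ⟨q', hq'p, hq'⟩ := exists_prime_over_subalgebra _ hE.1 Q hQ
  obtain ⟨s, hs, c, hc⟩ := d.2 q' hq'p
  refine ⟨s, ?_, c, ?_⟩
  · rw [← hq', comap_comap_subalgebra]
    exact hs
  · rw [← hq', Ideal.mem_comap]
    exact hc

theorem isUH_ιS_range (ι : E' →ₐ[A] B) (hι : Function.Injective ι)
    (hE : IsUH (algebraMap A E')) :
    IsUH (A := A) (B := (ιS ι).range) (algebraMap A (ιS ι).range) :=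
  isUH_range (ιS ι) (ιS_injective ι hι) (isUH_resSub' hE)

theorem resTriv_ιS_range (ι : E' →ₐ[A] B) (hι : Function.Injective ι)
    (hE : IsUH (algebraMap A E')) :
    ResTriv (A := A) (B := (ιS ι).range) (algebraMap A (ιS ι).range) :=
  resTriv_range (ιS ι) (ιS_injective ι hι) (resTriv_resSub' hE)

lemma map_mem_resSub' {C : Type u} [CommRing C] [Algebra A C] (g : C →ₐ[A] E')
    (hres : ResTriv (algebraMap A C)) (c : C) : g c ∈ (resSub' : Subalgebra A E') := by
  intro q' hq'
  obtain ⟨s, hs, a, ha⟩ := hres (q'.comap (g : C →+* E')) (Ideal.comap_isPrime _ _) c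
  have e1 : ∀ x : A, (g : C →+* E') (algebraMap A C x) = algebraMap A E' x := g.commutes
  refine ⟨s, ?_, a, ?_⟩
  · intro h
    apply hs
    rw [Ideal.mem_comap, Ideal.mem_comap, e1]
    exact h
  · rw [Ideal.mem_comap, map_sub, map_mul, e1, e1] at ha
    exact ha

end sn

section main

variable (A B : Type u) [CommRing A] [CommRing B] [Algebra A B]

/-- the integral closure of `A` in `B` -/
abbrev Bint : Subalgebra A B := integralClosure A B

/-- the weak normalization of `A` in the integral closure -/
noncomputable abbrev E : Subalgebra A (Bint A B) := eqSub A (Bint A B)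

noncomputable def ιE : E A B →ₐ[A] B := (Bint A B).val.comp (E A B).val

lemma ιE_injective : Function.Injective (ιE A B) := by
  intro x y h
  exact Subtype.ext (Subtype.ext h)

instance : Algebra.IsIntegral A (Bint A B) :=
  inferInstanceAs (Algebra.IsIntegral A (integralClosure A B))

variable {A B}

lemma ker_Bint_le (hk : RingHom.ker (algebraMap A B) ≤ nilradical A) :
    RingHom.ker (algebraMap A (Bint A B)) ≤ nilradical A := by
  intro a ha
  apply hk
  rw [RingHom.mem_ker] at ha ⊢
  exact congrArg Subtype.val ha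

lemma isIntegral_Bint : (algebraMap A (Bint A B)).IsIntegral :=
  algebraMap_isIntegral_iff.mpr inferInstance

lemma comap_surjective_Bint (hk : RingHom.ker (algebraMap A B) ≤ nilradical A) :
    Function.Surjective (PrimeSpectrum.comap (algebraMap A (Bint A B))) :=
  Groth.Agent.Lib.Helper69.EtaPt.comap_surjective_of_isIntegral_of_ker_le_nilradical _
    isIntegral_Bint (ker_Bint_le hk)

lemma isUH_E (hk : RingHom.ker (algebraMap A B) ≤ nilradical A) :
    IsUH (algebraMap A (E A B)) :=
  IsUH.of_surj (isIntegral_subalgebra (E A B) isIntegral_Bint)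
    (comap_surjective_subalgebra (E A B) (comap_surjective_Bint hk))
    (fieldPts_eqSub A (Bint A B))

variable {C : Type u} [CommRing C] [Algebra A C]

/-- the factorization of `g` through the integral closure -/
noncomputable def gInt (g : C →ₐ[A] B) (hC : (algebraMap A C).IsIntegral) : C →ₐ[A] Bint A B :=
  g.codRestrict (Bint A B) (fun c => (show IsIntegral A c from hC c).map g)

/-- the factorization of `g` through the weak normalization -/
noncomputable def gE (g : C →ₐ[A] B) (hC : IsUH (algebraMap A C)) : C →ₐ[A] E A B :=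
  (gInt g hC.1).codRestrict (E A B) (fun c =>
    map_mem_eqSub (algebraMap A C) hC.2.2 ((gInt g hC.1 : C →ₐ[A] Bint A B) : C →+* Bint A B)
      (fun a => (gInt g hC.1).commutes a) c)

lemma ιE_gE (g : C →ₐ[A] B) (hC : IsUH (algebraMap A C)) (c : C) :
    ιE A B (gE g hC c) = g c := by
  unfold ιE gE gInt
  rfl

variable (A B)

/-- the relative weak normalization of `A` in `B` -/
noncomputable def Bwn : Subalgebra A B := (ιE A B).range

/-- the relative seminormalization of `A` in `B` -/
noncomputable def Bsn : Subalgebra A B := (ιS (ιE A B)).range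

variable {A B}

theorem isUH_Bwn (hk : RingHom.ker (algebraMap A B) ≤ nilradical A) :
    IsUH (A := A) (B := Bwn A B) (algebraMap A (Bwn A B)) :=
  isUH_range (ιE A B) (ιE_injective A B) (isUH_E hk)

theorem isUH_Bsn (hk : RingHom.ker (algebraMap A B) ≤ nilradical A) :
    IsUH (A := A) (B := Bsn A B) (algebraMap A (Bsn A B)) :=
  isUH_ιS_range (ιE A B) (ιE_injective A B) (isUH_E hk)

theorem resTriv_Bsn (hk : RingHom.ker (algebraMap A B) ≤ nilradical A) :
    ResTriv (A := A) (B := Bsn A B) (algebraMap A (Bsn A B)) :=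
  resTriv_ιS_range (ιE A B) (ιE_injective A B) (isUH_E hk)

theorem range_le_Bwn (g : C →ₐ[A] B) (hC : IsUH (algebraMap A C)) : g.range ≤ Bwn A B := by
  rintro _ ⟨c, rfl⟩
  exact ⟨gE g hC c, ιE_gE g hC c⟩

theorem range_le_Bsn (g : C →ₐ[A] B) (hC : IsUH (algebraMap A C))
    (hres : ResTriv (algebraMap A C)) : g.range ≤ Bsn A B := by
  rintro _ ⟨c, rfl⟩
  exact ⟨⟨gE g hC c, map_mem_resSub' (gE g hC) hres c⟩, ιE_gE g hC c⟩

/-- dominance gives a nil kernel -/
lemma ker_le_of_isDominant
    [IsDominant (Spec.map (CommRingCat.ofHom (algebraMap A B)))] :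
    RingHom.ker (algebraMap A B) ≤ nilradical A := by
  have h : DenseRange (Spec.map (CommRingCat.ofHom (algebraMap A B))) :=
    IsDominant.denseRange
  exact (PrimeSpectrum.denseRange_comap_iff_ker_le_nilRadical (f := algebraMap A B)).mp h

end main

end Groth.Agent.Lib.Helper69.RelWN
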