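import Mathlib
import Groth.Prelude.Def_HTop2

/-!
# Residue field degrees of a finite universal homeomorphism are bounded `p`-powers
-/

open AlgebraicGeometry CategoryTheory
universe u

namespace Groth.Agent.Lib.Helper69.ResDeg

section field

variable {F E A B : Type*} [Field F] [Field E] [Algebra F E] [Algebra.IsAlgebraic F E]
  [CommRing A] [CommRing B] (φ : A →+* B) (ev : A →+* F) (ρ : B →+* E)
  (hcomp : ∀ a, ρ (φ a) = algebraMap F E (ev a))
  {N : ℕ} (b : Fin N → B) (hb : ∀ x : B, ∃ c : Fin N → A, x = ∑ i, φ (c i) * b i)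
  (hfrac : ∀ z : E, ∃ x s : B, ρ s ≠ 0 ∧ z * ρ s = ρ x)

include hcomp hb in
lemma map_mem_span (x : B) : ρ x ∈ Submodule.span F (Set.range (ρ ∘ b)) := by
  obtain ⟨c, rfl⟩ := hb x
  rw [map_sum]
  refine Submodule.sum_mem _ fun i _ => ?_
  rw [map_mul, hcomp, ← Algebra.smul_def]
  exact Submodule.smul_mem _ _ (Submodule.subset_span ⟨i, rfl⟩)

include hcomp hb hfrac in
theorem span_eq_top : Submodule.span F (Set.range (ρ ∘ b)) = ⊤ := by
  set W := Submodule.span F (Set.range (ρ ∘ b)) with hW
  -- the subalgebra generated by the image of `ρ`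
  set W' : Subalgebra F E := Algebra.adjoin F (Set.range ρ) with hW'
  have hle : Subalgebra.toSubmodule W' ≤ W := by
    rw [hW', Algebra.adjoin_eq_span]
    have hcl : (Submonoid.closure (Set.range ρ) : Set E) = Set.range ρ := by
      apply le_antisymm
      · have : Submonoid.closure (Set.range ρ) ≤ MonoidHom.mrange (ρ : B →* E) := by
          rw [Submonoid.closure_le]
          rintro _ ⟨x, rfl⟩
          exact ⟨x, rfl⟩
        intro y hy
        obtain ⟨x, hx⟩ := this hy
        exact ⟨x, hx⟩
      · exact Submonoid.subset_closure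
    rw [hcl, Submodule.span_le]
    rintro _ ⟨x, rfl⟩
    exact map_mem_span φ ev ρ hcomp b hb x
  rw [eq_top_iff]
  intro z _
  obtain ⟨x, s, hs, hz⟩ := hfrac z
  have h1 : ρ x ∈ W' := Algebra.subset_adjoin ⟨x, rfl⟩
  have h2 : ρ s ∈ W' := Algebra.subset_adjoin ⟨s, rfl⟩
  have h3 : (ρ s)⁻¹ ∈ W' :=
    W'.inv_mem_of_algebraic (x := ⟨ρ s, h2⟩) (Algebra.IsAlgebraic.isAlgebraic (ρ s))
  have h4 : z = ρ x * (ρ s)⁻¹ := by
    rw [← hz]
    field_simp
  rw [h4]
  exact hle (W'.mul_mem h1 h3)

include hcomp hb hfrac in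
theorem finrank_le : Module.finrank F E ≤ N := by
  have h := span_eq_top φ ev ρ hcomp b hb hfrac
  have h1 : (Set.range (ρ ∘ b)).finrank F ≤ Fintype.card (Fin N) := finrank_range_le_card _
  rw [Fintype.card_fin] at h1
  unfold Set.finrank at h1
  rw [h, finrank_top] at h1
  exact h1

include hcomp hb hfrac in
theorem finiteDimensional : FiniteDimensional F E := by
  have h := span_eq_top φ ev ρ hcomp b hb hfrac
  exact ⟨Submodule.fg_def.mpr ⟨_, Set.finite_range _, h⟩⟩

end field

section scheme

variable {T' T : Scheme.{u}} (p : T' ⟶ T)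

lemma universallyInjective_of_isUnivHomeo (hp : FlatMor.IsUnivHomeo p) :
    UniversallyInjective p :=
  ⟨MorphismProperty.universally_mono (fun _ _ f hf => hf.injective) p hp⟩

lemma isPurelyInseparable_of_isUnivHomeo (hp : FlatMor.IsUnivHomeo p) (t' : T') :
    (p.residueFieldMap t').hom.IsPurelyInseparable := by
  have h : UniversallyInjective p ↔
      Function.Injective p ∧ ∀ x, (p.residueFieldMap x).hom.IsPurelyInseparable :=
    (tfae_universallyInjective p).out 0 2
  exact (h.mp (universallyInjective_of_isUnivHomeo p hp)).2 t'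

/-- every element of the residue field at a point of an affine open is a quotient of values of
sections -/
lemma exists_frac {X : Scheme.{u}} {V : X.Opens} (hV : IsAffineOpen V) (x : X) (hx : x ∈ V)
    (z : X.residueField x) :
    ∃ a s : Γ(X, V), X.evaluation V x hx s ≠ 0 ∧ z * X.evaluation V x hx s = X.evaluation V x hx a := by
  obtain ⟨w, rfl⟩ := X.residue_surjective x z
  letI := X.presheaf.algebra_section_stalk ⟨x, hx⟩
  have hloc := hV.isLocalization_stalk ⟨x, hx⟩
  obtain ⟨a, s, rfl⟩ := IsLocalization.exists_mk'_eq (hV.primeIdealOf ⟨x, hx⟩).asIdeal.primeCompl w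
  refine ⟨a, s, ?_, ?_⟩
  · have hu : IsUnit (algebraMap Γ(X, V) (X.presheaf.stalk x) s) :=
      IsLocalization.map_units (X.presheaf.stalk x) s
    have hu' : IsUnit (X.residue x (algebraMap Γ(X, V) (X.presheaf.stalk x) s)) :=
      hu.map (X.residue x).hom
    exact hu'.ne_zero
  · have h1 : IsLocalization.mk' (X.presheaf.stalk x) a s *
        algebraMap Γ(X, V) (X.presheaf.stalk x) s = algebraMap Γ(X, V) (X.presheaf.stalk x) a :=
      IsLocalization.mk'_spec _ a s
    have h2 := congrArg (X.residue x).hom h1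
    rw [map_mul] at h2
    exact h2

/-- local bound on the residue degree over an affine open with `N` module generators -/
lemma finrank_le_of_affine [IsFinite p] (hp : FlatMor.IsUnivHomeo p) {U : T.Opens}
    (hU : IsAffineOpen U) :
    ∃ N : ℕ, ∀ t' : T', p t' ∈ U →
      @Module.Finite (T.residueField (p t')) (T'.residueField t') _ _
        (p.residueFieldMap t').hom.toAlgebra.toModule ∧
      @Module.finrank (T.residueField (p t')) (T'.residueField t') _ _
        (p.residueFieldMap t').hom.toAlgebra.toModule ≤ N := by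
  have hV : IsAffineOpen (p ⁻¹ᵁ U) := hU.preimage p
  have hfin : (p.app U).hom.Finite := IsFinite.finite_app p U hU
  letI := (p.app U).hom.toAlgebra
  have hfin' : Module.Finite Γ(T, U) Γ(T', p ⁻¹ᵁ U) := hfin
  obtain ⟨N, b, hb⟩ := Module.Finite.exists_fin (R := Γ(T, U)) (M := Γ(T', p ⁻¹ᵁ U))
  refine ⟨N, fun t' ht => ?_⟩
  letI := (p.residueFieldMap t').hom.toAlgebra
  have hpi : IsPurelyInseparable (T.residueField (p t')) (T'.residueField t') :=
    isPurelyInseparable_of_isUnivHomeo p hp t'
  have halg : Algebra.IsAlgebraic (T.residueField (p t')) (T'.residueField t') :=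
    IsPurelyInseparable.isAlgebraic _ _
  have hcomp : ∀ a : Γ(T, U), (T'.evaluation (p ⁻¹ᵁ U) t' ht).hom ((p.app U).hom a) =
      algebraMap (T.residueField (p t')) (T'.residueField t')
        ((T.evaluation U (p t') ht).hom a) := by
    intro a
    exact (Scheme.evaluation_naturality_apply p t' ht a).symm
  have hb' : ∀ x : Γ(T', p ⁻¹ᵁ U), ∃ c : Fin N → Γ(T, U), x = ∑ i, (p.app U).hom (c i) * b i := by
    intro x
    have hx : x ∈ Submodule.span Γ(T, U) (Set.range b) := by rw [hb]; trivial
    obtain ⟨c, hc⟩ := (Submodule.mem_span_range_iff_exists_fun _).mp hx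
    refine ⟨c, ?_⟩
    rw [← hc]
    refine Finset.sum_congr rfl fun i _ => ?_
    rw [Algebra.smul_def]
    rfl
  have hfrac := exists_frac hV t' ht
  exact ⟨finiteDimensional (p.app U).hom (T.evaluation U (p t') ht).hom
      (T'.evaluation (p ⁻¹ᵁ U) t' ht).hom hcomp b hb' hfrac,
    finrank_le (p.app U).hom (T.evaluation U (p t') ht).hom
      (T'.evaluation (p ⁻¹ᵁ U) t' ht).hom hcomp b hb' hfrac⟩

/-- **Milestone S13831**. -/
theorem main [IsFinite p] (hp : FlatMor.IsUnivHomeo p) [CompactSpace T] :
    ∃ d : ℕ, 0 < d ∧ ∀ t' : T', ∃ e : ℕ,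
      @Module.finrank (T.residueField (p t')) (T'.residueField t') _ _
          (p.residueFieldMap t').hom.toAlgebra.toModule =
        ringExpChar (T.residueField (p t')) ^ e ∧
      ringExpChar (T.residueField (p t')) ^ e ∣ d := by
  -- choose an affine neighbourhood of each point with its bound
  have hex : ∀ x : T, ∃ U : T.Opens, x ∈ U ∧ IsAffineOpen U := by
    intro x
    obtain ⟨_, ⟨U, hU, rfl⟩, hxU, -⟩ :=
      T.isBasis_affineOpens.exists_subset_of_mem_open (Set.mem_univ x) isOpen_univ
    exact ⟨U, hxU, hU⟩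
  choose U hxU hU using hex
  choose N hN using fun x => finrank_le_of_affine p hp (hU x)
  obtain ⟨s, hs⟩ := isCompact_univ.elim_finite_subcover (fun x : T => ((U x : T.Opens) : Set T))
    (fun x => (U x).isOpen) (fun x _ => Set.mem_iUnion.mpr ⟨x, hxU x⟩)
  refine ⟨(s.sup N).factorial, Nat.factorial_pos _, fun t' => ?_⟩
  obtain ⟨x, hx⟩ := Set.mem_iUnion.mp (hs (Set.mem_univ (p t')))
  obtain ⟨hxs, hx⟩ := Set.mem_iUnion.mp hx
  obtain ⟨hfd, hle⟩ := hN x t' hx
  letI := (p.residueFieldMap t').hom.toAlgebra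
  have hpi : IsPurelyInseparable (T.residueField (p t')) (T'.residueField t') :=
    isPurelyInseparable_of_isUnivHomeo p hp t'
  have hE : ExpChar (T.residueField (p t')) (ringExpChar (T.residueField (p t'))) :=
    ringExpChar.expChar _
  obtain ⟨e, he⟩ := IsPurelyInseparable.finrank_eq_pow (F := T.residueField (p t'))
    (T'.residueField t') (ringExpChar (T.residueField (p t')))
  refine ⟨e, he, ?_⟩
  apply Nat.dvd_factorial
  · exact pow_pos (expChar_pos (T.residueField (p t')) _) e
  · rw [← he]
    exact hle.trans (Finset.le_sup hxs)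

end scheme

end Groth.Agent.Lib.Helper69.ResDeg
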