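import Mathlib
import Groth.Prelude.Def_HTop2

/-!
# Scheme-theoretic images and universal homeomorphisms

If `ν = Γ ≫ p` is a universal homeomorphism with `p` separated then the scheme-theoretic image
`Γ.image` is again universally homeomorphic to the base.  This gives the "colimit over finite
universal homeomorphisms" statements (Rydh), milestones S13832 / S13833.
-/

open AlgebraicGeometry CategoryTheory Limits
universe u

namespace Groth.Agent.Lib.Helper69.UHImage

section basic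

variable {X Y : Scheme.{u}}

lemma isHomeomorph_of_isUnivHomeo (f : X ⟶ Y) (h : FlatMor.IsUnivHomeo f) : IsHomeomorph f :=
  h (𝟙 X) (𝟙 Y) f IsPullback.of_id_snd

lemma universallyClosed_of_isUnivHomeo (f : X ⟶ Y) (h : FlatMor.IsUnivHomeo f) :
    UniversallyClosed f :=
  ⟨fun _ _ i₁ i₂ f' H => (h i₁ i₂ f' H).isClosedMap⟩

lemma isIntegralHom_of_isUnivHomeo (f : X ⟶ Y) (h : FlatMor.IsUnivHomeo f) : IsIntegralHom f := by
  have hf := isHomeomorph_of_isUnivHomeo f h
  have haff : IsAffineHom f := by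
    apply isAffineHom_of_isInducing f hf.isInducing
    rw [hf.surjective.range_eq]
    exact isClosed_univ
  exact IsIntegralHom.iff_universallyClosed_and_isAffineHom.mpr
    ⟨universallyClosed_of_isUnivHomeo f h, haff⟩

end basic

section L1

variable {T' T₁ T : Scheme.{u}}

/-- cancellation: if `h ≫ π` is a universal homeomorphism and `h` is surjective, then `π` is a
universal homeomorphism. -/
theorem isUnivHomeo_of_comp_surjective (h : T' ⟶ T₁) (π : T₁ ⟶ T) [Surjective h]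
    (hν : FlatMor.IsUnivHomeo (h ≫ π)) : FlatMor.IsUnivHomeo π := by
  intro X' Y' i₁ i₂ f' hpb
  have hbig : IsPullback (pullback.snd h i₁ ≫ f') (pullback.fst h i₁) i₂ (h ≫ π) :=
    (IsPullback.of_hasPullback h i₁).flip.paste_horiz hpb
  have hhom : IsHomeomorph (pullback.snd h i₁ ≫ f') := hν _ _ _ hbig
  have hs : Function.Surjective (pullback.snd h i₁) :=
    (inferInstance : Surjective (pullback.snd h i₁)).surj
  have hc : ∀ w, (pullback.snd h i₁ ≫ f') w = f' (pullback.snd h i₁ w) := fun w => rfl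
  change IsHomeomorph f'
  rw [isHomeomorph_iff_continuous_isClosedMap_bijective]
  refine ⟨f'.continuous, ?_, ?_, ?_⟩
  · intro C hC
    have e : f' '' C = (pullback.snd h i₁ ≫ f') '' ((pullback.snd h i₁) ⁻¹' C) := by
      ext y
      constructor
      · rintro ⟨x, hx, rfl⟩
        obtain ⟨w, rfl⟩ := hs x
        exact ⟨w, hx, hc w⟩
      · rintro ⟨w, hw, rfl⟩
        exact ⟨pullback.snd h i₁ w, hw, (hc w).symm⟩
    rw [e]
    exact hhom.isClosedMap _ (hC.preimage (pullback.snd h i₁).continuous)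
  · intro x y hxy
    obtain ⟨w, rfl⟩ := hs x
    obtain ⟨w', rfl⟩ := hs y
    have : (pullback.snd h i₁ ≫ f') w = (pullback.snd h i₁ ≫ f') w' := by
      rw [hc, hc, hxy]
    rw [hhom.injective this]
  · intro y
    obtain ⟨w, hw⟩ := hhom.surjective y
    exact ⟨pullback.snd h i₁ w, (hc w).symm.trans hw⟩

set_option backward.isDefEq.respectTransparency.types false in
/-- cancellation for residue field isomorphisms -/
theorem residueFieldsIso_of_comp_surjective (h : T' ⟶ T₁) (π : T₁ ⟶ T) [Surjective h]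
    (hν : HTop.ResidueFieldsIso (h ≫ π)) : HTop.ResidueFieldsIso π := by
  intro y
  obtain ⟨t', rfl⟩ := h.surjective y
  have h1 := hν t'
  rw [Scheme.residueFieldMap_comp] at h1
  have hb : Function.Bijective (π.residueFieldMap (h t') ≫ h.residueFieldMap t') :=
    (ConcreteCategory.isIso_iff_bijective _).mp h1
  have hbinj : Function.Injective (h.residueFieldMap t') :=
    (h.residueFieldMap t').hom.injective
  have hainj : Function.Injective (π.residueFieldMap (h t')) :=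
    (π.residueFieldMap (h t')).hom.injective
  rw [ConcreteCategory.isIso_iff_bijective]
  refine ⟨hainj, fun z => ?_⟩
  obtain ⟨w, hw⟩ := hb.2 (h.residueFieldMap t' z)
  exact ⟨w, hbinj hw⟩

end L1

section image

variable {T' P T : Scheme.{u}}

/-- the map to the scheme-theoretic image is surjective when the composite with a separated
morphism is a universal homeomorphism -/
theorem surjective_toImage (Γ : T' ⟶ P) (p : P ⟶ T) [IsSeparated p] [QuasiCompact Γ]
    (hν : FlatMor.IsUnivHomeo (Γ ≫ p)) : Surjective Γ.toImage := by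
  have : UniversallyClosed (Γ ≫ p) := universallyClosed_of_isUnivHomeo _ hν
  have : UniversallyClosed Γ := UniversallyClosed.of_comp_of_isSeparated Γ p
  have hcl : IsClosedMap Γ.toImage := Γ.toImage.isClosedMap
  exact surjective_of_isDominant_of_isClosed_range Γ.toImage hcl.isClosed_range

theorem isUnivHomeo_imageι_comp (Γ : T' ⟶ P) (p : P ⟶ T) [IsSeparated p] [QuasiCompact Γ]
    (hν : FlatMor.IsUnivHomeo (Γ ≫ p)) : FlatMor.IsUnivHomeo (Γ.imageι ≫ p) := by
  have := surjective_toImage Γ p hν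
  apply isUnivHomeo_of_comp_surjective Γ.toImage
  rw [Scheme.Hom.toImage_imageι_assoc]
  exact hν

theorem isFinite_imageι_comp (Γ : T' ⟶ P) (p : P ⟶ T) [IsSeparated p] [QuasiCompact Γ]
    [LocallyOfFiniteType p] (hν : FlatMor.IsUnivHomeo (Γ ≫ p)) : IsFinite (Γ.imageι ≫ p) := by
  rw [IsFinite.iff_isIntegralHom_and_locallyOfFiniteType]
  exact ⟨isIntegralHom_of_isUnivHomeo _ (isUnivHomeo_imageι_comp Γ p hν), inferInstance⟩

theorem residueFieldsIso_imageι_comp (Γ : T' ⟶ P) (p : P ⟶ T) [IsSeparated p] [QuasiCompact Γ]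
    (hν : FlatMor.IsUnivHomeo (Γ ≫ p)) (hres : HTop.ResidueFieldsIso (Γ ≫ p)) :
    HTop.ResidueFieldsIso (Γ.imageι ≫ p) := by
  have := surjective_toImage Γ p hν
  apply residueFieldsIso_of_comp_surjective Γ.toImage
  rw [Scheme.Hom.toImage_imageι_assoc]
  exact hres

/-- the map to the scheme-theoretic image is an epimorphism towards separated targets -/
theorem toImage_cancel {Q X Z : Scheme.{u}} (Δ : T' ⟶ Q) (u v : Δ.image ⟶ X) (s : X ⟶ Z)
    [IsSeparated s] (hs : u ≫ s = v ≫ s) (h : Δ.toImage ≫ u = Δ.toImage ≫ v) : u = v := by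
  let X' : Over Z := Over.mk (u ≫ s)
  let Y' : Over Z := Over.mk s
  let U' : Over Z := Over.mk (Δ.toImage ≫ u ≫ s)
  let f' : X' ⟶ Y' := Over.homMk u
  let g' : X' ⟶ Y' := Over.homMk v hs.symm
  let ι' : U' ⟶ X' := Over.homMk Δ.toImage
  have : IsSeparated Y'.hom := ‹_›
  let e : (equalizer f' g').left ⟶ Δ.image := (equalizer.ι f' g').left
  have he : IsClosedImmersion e := inferInstance
  let l : U' ⟶ equalizer f' g' := equalizer.lift ι' (by ext1; exact h)
  have hl : l.left ≫ e = Δ.toImage := by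
    have := congrArg CommaMorphism.left (equalizer.lift_ι ι' (by ext1; exact h) : l ≫ equalizer.ι f' g' = ι')
    exact this
  have hfac : l.left ≫ (e ≫ Δ.imageι) = Δ := by
    rw [← Category.assoc, hl, Scheme.Hom.toImage_imageι]
  have hker : (e ≫ Δ.imageι).ker ≤ Δ.imageι.ker := by
    rw [Scheme.IdealSheafData.ker_subschemeι]
    have := Scheme.Hom.le_ker_comp l.left (e ≫ Δ.imageι)
    rwa [hfac] at this
  let r : Δ.image ⟶ (equalizer f' g').left := IsClosedImmersion.lift (e ≫ Δ.imageι) Δ.imageι hker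
  have hr : r ≫ e ≫ Δ.imageι = Δ.imageι := IsClosedImmersion.lift_fac _ _ hker
  have hre : r ≫ e = 𝟙 _ := by
    rw [← cancel_mono Δ.imageι, Category.assoc, hr, Category.id_comp]
  have hcond : e ≫ u = e ≫ v := congrArg CommaMorphism.left (equalizer.condition f' g')
  calc u = (r ≫ e) ≫ u := by rw [hre, Category.id_comp]
    _ = r ≫ e ≫ v := by rw [Category.assoc, hcond]
    _ = v := by rw [← Category.assoc, hre, Category.id_comp]

end image

section main

variable {S X T T' : Scheme.{u}}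

lemma compactSpace_of_isUnivHomeo [CompactSpace T] (ν : T' ⟶ T) (hν : FlatMor.IsUnivHomeo ν) :
    CompactSpace T' :=
  (isHomeomorph_of_isUnivHomeo ν hν).homeomorph.symm.compactSpace

/-- Part 1: factor `g` through the scheme-theoretic image of the graph. -/
theorem exists_factor [CompactSpace T] [S.IsSeparated] [X.IsSeparated] [T.IsSeparated]
    (fX : X ⟶ S) [LocallyOfFiniteType fX] (fT : T ⟶ S) (ν : T' ⟶ T)
    (hν : FlatMor.IsUnivHomeo ν) (g : T' ⟶ X) (hg : g ≫ fX = ν ≫ fT) :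
    ∃ (T₁ : Scheme.{u}) (π : T₁ ⟶ T) (_ : IsFinite π) (_ : FlatMor.IsUnivHomeo π)
      (_ : HTop.ResidueFieldsIso ν → HTop.ResidueFieldsIso π) (g₁ : T₁ ⟶ X)
      (h : T' ⟶ T₁), h ≫ π = ν ∧ g₁ ≫ fX = π ≫ fT ∧ h ≫ g₁ = g := by
  have hcpt := compactSpace_of_isUnivHomeo ν hν
  let Γ : T' ⟶ pullback fT fX := pullback.lift ν g hg.symm
  have hΓp : Γ ≫ pullback.fst fT fX = ν := pullback.lift_fst _ _ _
  have hΓg : Γ ≫ pullback.snd fT fX = g := pullback.lift_snd _ _ _
  have hqs : QuasiSeparatedSpace ↑(pullback fT fX) :=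
    quasiSeparatedSpace_of_quasiSeparated (pullback.fst fT fX)
  have hqc : QuasiCompact Γ := inferInstance
  have hν' : FlatMor.IsUnivHomeo (Γ ≫ pullback.fst fT fX) := by rw [hΓp]; exact hν
  refine ⟨Γ.image, Γ.imageι ≫ pullback.fst fT fX, isFinite_imageι_comp Γ _ hν',
    isUnivHomeo_imageι_comp Γ _ hν', ?_, Γ.imageι ≫ pullback.snd fT fX, Γ.toImage, ?_, ?_, ?_⟩
  · intro hres
    exact residueFieldsIso_imageι_comp Γ _ hν' (by rw [hΓp]; exact hres)
  · rw [Scheme.Hom.toImage_imageι_assoc, hΓp]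
  · rw [Category.assoc, Category.assoc, pullback.condition]
  · rw [Scheme.Hom.toImage_imageι_assoc, hΓg]

/-- Part 2: two factorizations are dominated by a third. -/
theorem exists_common [CompactSpace T] [X.IsSeparated] [T.IsSeparated]
    (ν : T' ⟶ T) (hν : FlatMor.IsUnivHomeo ν)
    (T₁ T₂ : Scheme.{u}) (π₁ : T₁ ⟶ T) (π₂ : T₂ ⟶ T) [IsFinite π₁] [IsFinite π₂]
    (g₁ : T₁ ⟶ X) (g₂ : T₂ ⟶ X) (h₁ : T' ⟶ T₁) (h₂ : T' ⟶ T₂)
    (e₁ : h₁ ≫ π₁ = ν) (e₂ : h₂ ≫ π₂ = ν) (hg : h₁ ≫ g₁ = h₂ ≫ g₂) :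
    ∃ (T₃ : Scheme.{u}) (π₃ : T₃ ⟶ T) (_ : IsFinite π₃) (_ : FlatMor.IsUnivHomeo π₃)
      (_ : HTop.ResidueFieldsIso ν → HTop.ResidueFieldsIso π₃)
      (a₁ : T₃ ⟶ T₁) (a₂ : T₃ ⟶ T₂), a₁ ≫ π₁ = π₃ ∧ a₂ ≫ π₂ = π₃ ∧ a₁ ≫ g₁ = a₂ ≫ g₂ := by
  have hcpt := compactSpace_of_isUnivHomeo ν hν
  let Δ : T' ⟶ pullback π₁ π₂ := pullback.lift h₁ h₂ (e₁.trans e₂.symm)
  have hΔ1 : Δ ≫ pullback.fst π₁ π₂ = h₁ := pullback.lift_fst _ _ _
  have hΔ2 : Δ ≫ pullback.snd π₁ π₂ = h₂ := pullback.lift_snd _ _ _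
  let p : pullback π₁ π₂ ⟶ T := pullback.fst π₁ π₂ ≫ π₁
  have hΔp : Δ ≫ p = ν := by
    change Δ ≫ pullback.fst π₁ π₂ ≫ π₁ = ν
    rw [← Category.assoc, hΔ1, e₁]
  have hsep : IsSeparated p := inferInstance
  have hft : LocallyOfFiniteType p := inferInstance
  have hqs : QuasiSeparatedSpace ↑(pullback π₁ π₂) := quasiSeparatedSpace_of_quasiSeparated p
  have hqc : QuasiCompact Δ := inferInstance
  have hν' : FlatMor.IsUnivHomeo (Δ ≫ p) := by rw [hΔp]; exact hν
  refine ⟨Δ.image, Δ.imageι ≫ p, isFinite_imageι_comp Δ p hν', isUnivHomeo_imageι_comp Δ p hν', ?_,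
    Δ.imageι ≫ pullback.fst π₁ π₂, Δ.imageι ≫ pullback.snd π₁ π₂, ?_, ?_, ?_⟩
  · intro hres
    exact residueFieldsIso_imageι_comp Δ p hν' (by rw [hΔp]; exact hres)
  · rw [Category.assoc]
  · change (Δ.imageι ≫ pullback.snd π₁ π₂) ≫ π₂ = Δ.imageι ≫ pullback.fst π₁ π₂ ≫ π₁
    rw [Category.assoc, pullback.condition]
  · apply toImage_cancel Δ _ _ (terminal.from X) (terminal.hom_ext _ _)
    rw [Category.assoc, Category.assoc, Scheme.Hom.toImage_imageι_assoc,
      Scheme.Hom.toImage_imageι_assoc, ← Category.assoc, ← Category.assoc, hΔ1, hΔ2, hg]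

end main

end Groth.Agent.Lib.Helper69.UHImage
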