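import Mathlib
import Groth.Prelude.Def_HTop2
import Groth.Agent.Lib.Helper69.AWNRing
import Groth.Agent.Lib.Helper69.UHImage
import Groth.Agent.Lib.Helper25.AWNSch0

/-!
# Seminormal schemes: a universal homeomorphism with trivial residue field extensions from a
reduced scheme to a seminormal scheme is an isomorphism
-/

set_option autoImplicit false
universe u

open CategoryTheory AlgebraicGeometry Limits Opposite

namespace Groth.Agent.Lib.Helper69.SNSch

open Groth.Agent.Lib.Helper69.UHRing Groth.Agent.Lib.Helper69.AWNRing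
  Groth.Agent.Lib.Helper69.SemiNormalDescent

section ring

variable {B W : Type u} [CommRing B] [CommRing W]

/-- a seminormal ring with a subintegral-type map to a reduced ring is all of it -/
theorem bijective_of_isSeminormalRing [IsReduced W] (hB : HTop.IsSeminormalRing B) (χ : B →+* W)
    (hχ : IsUH χ) (hres : ResTriv χ) : Function.Bijective χ := by
  have hBred := isReduced_of_isSeminormalRing hB
  have hinj : Function.Injective χ := hχ.injective_of_isReduced
  refine ⟨hinj, ?_⟩
  by_contra hns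
  letI := χ.toAlgebra
  obtain ⟨w, hw1, ⟨x, hx⟩, ⟨y, hy⟩⟩ := exists_sq_cube_of_resTriv (C := B) (B := W) hinj hχ.1
    hχ.2.1.1 hres hns
  apply hw1
  have hxy : x ^ 3 = y ^ 2 := by
    apply hinj
    change χ x = w ^ 2 at hx
    change χ y = w ^ 3 at hy
    rw [map_pow, map_pow, hx, hy]
    ring
  obtain ⟨a, ⟨ha2, ha3⟩, -⟩ := hB x y hxy
  refine ⟨a, ?_⟩
  change χ a = w
  apply eq_of_sq_cube_eq_of_isReduced
  · rw [← map_pow, ← ha2]; exact hx
  · rw [← map_pow, ← ha3]; exact hy

lemma isSeminormalRing_of_ringEquiv {B' : Type u} [CommRing B'] (e : B' ≃+* B)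
    (h : HTop.IsSeminormalRing B) : HTop.IsSeminormalRing B' := by
  intro x y hxy
  obtain ⟨a, ⟨ha2, ha3⟩, huniq⟩ := h (e x) (e y) (by rw [← map_pow, ← map_pow, hxy])
  refine ⟨e.symm a, ⟨?_, ?_⟩, ?_⟩
  · apply e.injective; rw [map_pow, e.apply_symm_apply]; exact ha2
  · apply e.injective; rw [map_pow, e.apply_symm_apply]; exact ha3
  · rintro a' ⟨h2, h3⟩
    rw [RingEquiv.eq_symm_apply]
    apply huniq
    exact ⟨by rw [h2, map_pow], by rw [h3, map_pow]⟩

/-- `ResidueFieldsIso (Spec.map φ)` in elementary terms -/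
theorem residueFieldsIso_iff_resTriv {A : Type u} [CommRing A] (φ : A →+* B) :
    HTop.ResidueFieldsIso (Spec.map (CommRingCat.ofHom φ)) ↔ ResTriv φ := by
  rw [Groth.Agent.Lib.Helper69.SpecResidue.residueFieldsIso_SpecMap_iff, resTriv_iff]
  constructor
  · intro h Q
    exact (h Q).2
  · intro h Q
    exact ⟨RingHom.injective _, h Q⟩

end ring

section resIso

variable {X Y Z : Scheme.{u}}

lemma resIso_comp (f : X ⟶ Y) (g : Y ⟶ Z) (hf : HTop.ResidueFieldsIso f)
    (hg : HTop.ResidueFieldsIso g) : HTop.ResidueFieldsIso (f ≫ g) := by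
  intro x
  rw [Scheme.residueFieldMap_comp]
  exact @IsIso.comp_isIso _ _ _ _ _ _ _ (hg (f x)) (hf x)

lemma resIso_of_isOpenImmersion (f : X ⟶ Y) [IsOpenImmersion f] : HTop.ResidueFieldsIso f :=
  fun x => inferInstance

lemma resIso_of_comp_isOpenImmersion (f : X ⟶ Y) (j : Y ⟶ Z) [IsOpenImmersion j]
    (h : HTop.ResidueFieldsIso (f ≫ j)) : HTop.ResidueFieldsIso f := by
  intro x
  have h1 := h x
  rw [Scheme.residueFieldMap_comp] at h1
  exact @IsIso.of_isIso_comp_left _ _ _ _ _ (j.residueFieldMap (f x)) (f.residueFieldMap x)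
    inferInstance h1

lemma resIso_morphismRestrict (f : X ⟶ Y) (hf : HTop.ResidueFieldsIso f) (U : Y.Opens) :
    HTop.ResidueFieldsIso (f ∣_ U) := by
  apply resIso_of_comp_isOpenImmersion (f ∣_ U) U.ι
  rw [morphismRestrict_ι]
  exact resIso_comp _ _ (resIso_of_isOpenImmersion _) hf

lemma resIso_SpecMap_appTop [IsAffine X] [IsAffine Y] (f : X ⟶ Y)
    (hf : HTop.ResidueFieldsIso f) : HTop.ResidueFieldsIso (Spec.map f.appTop) := by
  have h2 := Scheme.isoSpec_hom_naturality f
  have h3 : Spec.map f.appTop = X.isoSpec.inv ≫ f ≫ Y.isoSpec.hom := by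
    rw [← h2, Iso.inv_hom_id_assoc]
  rw [h3]
  exact resIso_comp _ _ (resIso_of_isOpenImmersion _)
    (resIso_comp _ _ hf (resIso_of_isOpenImmersion _))

end resIso

section iso

set_option backward.isDefEq.respectTransparency false in
/-- A universal homeomorphism with trivial residue field extensions from a reduced scheme to a
seminormal scheme is an isomorphism. -/
theorem isIso_of_isSeminormal {T Y : Scheme.{u}} [IsReduced T] (h : T ⟶ Y)
    (hh : FlatMor.IsUnivHomeo h) (hres : HTop.ResidueFieldsIso h) (hY : HTop.IsSeminormal Y) :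
    IsIso h := by
  obtain ⟨h1, -, -⟩ := (Groth.Agent.Lib.Helper25.AWN.isUnivHomeo_iff' h).mp hh
  choose U hyU hU using hY
  have hcov : ⨆ y, (U y : Y.Opens) = ⊤ :=
    top_le_iff.mp fun y _ => TopologicalSpace.Opens.mem_iSup.mpr ⟨y, hyU y⟩
  rw [← MorphismProperty.isomorphisms.iff,
    HasAffineProperty.iff_of_iSup_eq_top (P := MorphismProperty.isomorphisms Scheme.{u}) U hcov]
  intro y
  have hres' : FlatMor.IsUnivHomeo (h ∣_ (U y).1) :=
    MorphismProperty.of_isPullback (P := FlatMor.IsUnivHomeo)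
      (isPullback_morphismRestrict h (U y).1).flip hh
  have haff : IsAffine (h ⁻¹ᵁ (U y).1) := (U y).2.preimage h
  haveI : IsAffine ((U y).1 : Scheme.{u}) := (U y).2
  refine ⟨haff, ?_⟩
  have hρ : FlatMor.IsUnivHomeo (Spec.map (h ∣_ (U y).1).appTop) :=
    (MorphismProperty.arrow_mk_iso_iff FlatMor.IsUnivHomeo
      (arrowIsoSpecΓOfIsAffine (h ∣_ (U y).1))).mp hres'
  have hρU : IsUH (h ∣_ (U y).1).appTop.hom := (isUH_iff _).mpr hρ
  have hρR : ResTriv (h ∣_ (U y).1).appTop.hom :=
    (residueFieldsIso_iff_resTriv _).mp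
      (resIso_SpecMap_appTop (h ∣_ (U y).1) (resIso_morphismRestrict h hres (U y).1))
  have hsrc : HTop.IsSeminormalRing Γ(((U y).1 : Scheme.{u}), ⊤) :=
    isSeminormalRing_of_ringEquiv ((U y).1.topIso.commRingCatIsoToRingEquiv) (hU y)
  have hb := bijective_of_isSeminormalRing hsrc _ hρU hρR
  exact (ConcreteCategory.isIso_iff_bijective _).mpr hb

end iso

section red

variable {X Y Z : Scheme.{u}}

/-- a morphism which is surjective on stalks induces isomorphisms on residue fields -/
lemma resIso_of_surjectiveOnStalks (f : X ⟶ Y) [SurjectiveOnStalks f] :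
    HTop.ResidueFieldsIso f := by
  intro x
  rw [ConcreteCategory.isIso_iff_bijective]
  refine ⟨(f.residueFieldMap x).hom.injective, fun z => ?_⟩
  obtain ⟨w, rfl⟩ := Scheme.residue_surjective X x z
  obtain ⟨v, rfl⟩ := f.stalkMap_surjective x w
  refine ⟨Y.residue (f x) v, ?_⟩
  have h := Scheme.residue_residueFieldMap f x
  exact congrArg (fun φ => φ.hom v) h

lemma isUnivHomeo_comp (f : X ⟶ Y) (g : Y ⟶ Z) (hf : FlatMor.IsUnivHomeo f)
    (hg : FlatMor.IsUnivHomeo g) : FlatMor.IsUnivHomeo (f ≫ g) := by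
  rw [Groth.Agent.Lib.Helper25.AWN.isUnivHomeo_iff'] at hf hg ⊢
  obtain ⟨h1, h2, h3⟩ := hf
  obtain ⟨h4, h5, h6⟩ := hg
  exact ⟨inferInstance, MorphismProperty.comp_mem _ _ _ h2 h5, inferInstance⟩

lemma isUnivHomeo_of_isClosedImmersion_of_surjective (f : X ⟶ Y) [IsClosedImmersion f]
    [Surjective f] : FlatMor.IsUnivHomeo f := by
  rw [Groth.Agent.Lib.Helper25.AWN.isUnivHomeo_iff']
  exact ⟨inferInstance, inferInstance, inferInstance⟩

variable (X)

/-- the reduced subscheme -/
noncomputable abbrev red : Scheme.{u} := X.nilradical.subscheme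

/-- the closed immersion of the reduced subscheme -/
noncomputable abbrev redι : red X ⟶ X := X.nilradical.subschemeι

instance : IsReduced (red X) := by
  have : ∀ i, IsReduced (X.nilradical.subschemeCover.openCover.X i) := by
    intro (U : X.affineOpens)
    change IsReduced (Spec (.of <| Γ(X, U.1) ⧸ X.nilradical.ideal U))
    have hrad : (X.nilradical.ideal U).IsRadical := by
      change ((⊥ : X.IdealSheafData).radical.ideal U).IsRadical
      rw [Scheme.IdealSheafData.radical_ideal]
      exact Ideal.radical_isRadical _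
    have : _root_.IsReduced (Γ(X, U.1) ⧸ X.nilradical.ideal U) :=
      (Ideal.isRadical_iff_quotient_reduced _).mp hrad
    infer_instance
  exact IsReduced.of_openCover _ X.nilradical.subschemeCover.openCover

instance : Surjective (redι X) := by
  constructor
  rw [← Set.range_eq_univ, Scheme.IdealSheafData.range_subschemeι, Scheme.support_nilradical]
  rfl

lemma isUnivHomeo_redι : FlatMor.IsUnivHomeo (redι X) :=
  isUnivHomeo_of_isClosedImmersion_of_surjective _

lemma resIso_redι : HTop.ResidueFieldsIso (redι X) :=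
  resIso_of_surjectiveOnStalks _

end red

section section_

variable {X Z : Scheme.{u}}

/-- a universal homeomorphism with trivial residue field extensions onto a seminormal scheme has
a section -/
theorem exists_section_of_isSeminormal (μ : Z ⟶ X) (hμ : FlatMor.IsUnivHomeo μ)
    (hres : HTop.ResidueFieldsIso μ) (hX : HTop.IsSeminormal X) : ∃ s : X ⟶ Z, s ≫ μ = 𝟙 X := by
  have h1 : FlatMor.IsUnivHomeo (redι Z ≫ μ) := isUnivHomeo_comp _ _ (isUnivHomeo_redι Z) hμ
  have h2 : HTop.ResidueFieldsIso (redι Z ≫ μ) := resIso_comp _ _ (resIso_redι Z) hres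
  have h3 : IsIso (redι Z ≫ μ) := isIso_of_isSeminormal _ h1 h2 hX
  exact ⟨inv (redι Z ≫ μ) ≫ redι Z, by rw [Category.assoc, IsIso.inv_hom_id]⟩

/-- **S15940** -/
theorem isIso_of_isSeminormalization {X' : Scheme.{u}} (ν : X' ⟶ X)
    (hν : HTop.IsSeminormalization ν) (hX : HTop.IsSeminormal X) : IsIso ν := by
  obtain ⟨s, hs⟩ := exists_section_of_isSeminormal ν hν.1.1 hν.1.2 hX
  obtain ⟨h, -, huniq⟩ := hν.2 X' ν hν.1.1 hν.1.2
  have e1 : ν ≫ s = h := huniq _ (by
    change (ν ≫ s) ≫ ν = ν
    rw [Category.assoc, hs, Category.comp_id])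
  have e2 : 𝟙 X' = h := huniq _ (Category.id_comp _)
  exact ⟨s, by rw [e1, ← e2], hs⟩

end section_

end Groth.Agent.Lib.Helper69.SNSch
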