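import Mathlib
import Groth.Prelude.Def_HTop2
import Groth.Agent.Lib.Helper69.SNSch

/-!
# Trivial residue field extensions are stable under base change
-/

set_option autoImplicit false
universe u

open CategoryTheory AlgebraicGeometry Limits Opposite

namespace Groth.Agent.Lib.Helper69.ResIsoBC

open AlgebraicGeometry.Scheme.Pullback Groth.Agent.Lib.Helper69.SNSch

variable {X Y S : Scheme.{u}} {f : X ⟶ S} {g : Y ⟶ S}

/-- in a ring all of whose primes are maximal the canonical map to a residue field of `Spec`
is surjective -/
lemma surjective_of_SpecMap_eq (R : CommRingCat.{u}) (p : Spec R) [p.asIdeal.IsMaximal]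
    (c : R ⟶ (Spec R).residueField p)
    (hc : Spec.map c = (Spec R).fromSpecResidueField p) : Function.Surjective c := by
  have h1 := Scheme.Spec.map_residueFieldIso_inv_eq_fromSpecResidueField R p
  rw [← hc, ← Spec.map_comp] at h1
  have h2 := Spec.map_injective h1
  rw [← h2]
  intro z
  obtain ⟨r, hr⟩ := p.asIdeal.algebraMap_residueField_surjective
    ((Scheme.Spec.residueFieldIso R p).hom z)
  refine ⟨r, ?_⟩
  change (Scheme.Spec.residueFieldIso R p).inv (algebraMap R p.asIdeal.ResidueField r) = z
  rw [hr]
  exact congrArg (fun φ => φ.hom z) (Scheme.Spec.residueFieldIso R p).hom_inv_id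

set_option backward.isDefEq.respectTransparency false in
theorem surjective_residueFieldMap_snd_SpecTensorTo
    (hinr : ∀ T : Triplet f g, IsIso T.tensorInr) (T : Triplet f g) (p : Spec T.tensor) :
    Function.Surjective ((pullback.snd f g).residueFieldMap (T.SpecTensorTo p)) := by
  set t := T.SpecTensorTo p with ht
  have e : Triplet.ofPoint t = T := T.ofPoint_SpecTensorTo p
  -- `T.tensor` is a field
  have hfield : IsField T.tensor := by
    have := hinr T
    exact MulEquiv.isField (Field.toIsField (Y.residueField T.y))
      (asIso T.tensorInr).commRingCatIsoToRingEquiv.symm.toMulEquiv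
  have hmax : p.asIdeal.IsMaximal := by
    letI := hfield.toField
    have : p.asIdeal = ⊥ := by
      rcases Ideal.eq_bot_or_top p.asIdeal with h | h
      · exact h
      · exact absurd h p.2.ne_top
    rw [this]
    exact Ideal.bot_isMaximal
  have hM := T.Spec_ofPointTensor_SpecTensorTo p
  rw [← Spec.map_comp, ← Spec.map_comp] at hM
  have hc := surjective_of_SpecMap_eq T.tensor p _ hM
  -- the residue field map of `SpecTensorTo` is bijective
  set r := T.SpecTensorTo.residueFieldMap p with hr
  have hrinj : Function.Injective r := r.hom.injective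
  have hrsurj : Function.Surjective r := by
    intro z
    obtain ⟨w, hw⟩ := hc z
    exact ⟨_, hw⟩
  -- hence `ofPointTensor t` is surjective
  have h1 : Function.Surjective (ofPointTensor t) := by
    intro z
    obtain ⟨w, hw⟩ := hc (r z)
    refine ⟨(Triplet.tensorCongr e.symm).hom w, ?_⟩
    apply hrinj
    exact hw
  have h2 : (Triplet.ofPoint t).tensorInr ≫ ofPointTensor t =
      (pullback.snd f g).residueFieldMap t := pushout.inr_desc _ _ _
  rw [← h2]
  have h3 := hinr (Triplet.ofPoint t)
  intro z
  obtain ⟨w, hw⟩ := h1 z
  refine ⟨inv (Triplet.ofPoint t).tensorInr w, ?_⟩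
  rw [← hw]
  change (ofPointTensor t) ((Triplet.ofPoint t).tensorInr (inv (Triplet.ofPoint t).tensorInr w)) = _
  congr 1
  exact congrArg (fun φ => φ.hom w) (IsIso.inv_hom_id (Triplet.ofPoint t).tensorInr)

/-- trivial residue field extensions are stable under base change -/
theorem resIso_pullback_snd (f : X ⟶ S) (g : Y ⟶ S) (hf : HTop.ResidueFieldsIso f) :
    HTop.ResidueFieldsIso (pullback.snd f g) := by
  have hinr : ∀ T : Triplet f g, IsIso T.tensorInr := by
    intro T
    have := hf T.x
    have : IsIso ((S.residueFieldCongr T.hx).inv ≫ f.residueFieldMap T.x) := inferInstance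
    exact pushout_inr_iso_of_left_iso _ _
  intro t
  have h := surjective_residueFieldMap_snd_SpecTensorTo hinr (Triplet.ofPoint t) (SpecOfPoint t)
  rw [SpecTensorTo_SpecOfPoint] at h
  rw [ConcreteCategory.isIso_iff_bijective]
  exact ⟨((pullback.snd f g).residueFieldMap t).hom.injective, h⟩

theorem resIso_pullback_fst (f : X ⟶ S) (g : Y ⟶ S) (hg : HTop.ResidueFieldsIso g) :
    HTop.ResidueFieldsIso (pullback.fst f g) := by
  have h : pullback.fst f g = (pullbackSymmetry f g).hom ≫ pullback.snd g f := by simp
  rw [h]
  exact resIso_comp _ _ (resIso_of_isOpenImmersion _) (resIso_pullback_snd g f hg)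

end Groth.Agent.Lib.Helper69.ResIsoBC
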