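import Mathlib
import Groth.Prelude.Def_HTop2
import Groth.Prelude.Def_Pi1
import Groth.Agent.Lib.Helper69.SNSch
import Groth.Agent.Lib.Helper69.ResIsoBC
import Groth.Agent.S7420
import Groth.Agent.S7421
import Groth.Agent.S15941

/-!
# Seminormalization of schemes: restriction to opens, factorization of the normalization
-/

set_option autoImplicit false
universe u

open CategoryTheory AlgebraicGeometry Limits Opposite

namespace Groth.Agent.Lib.Helper69.SNSch

open Groth.Agent.Lib.Helper69.ResIsoBC

section opens

variable {X : Scheme.{u}}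

/-- an open subscheme of a seminormal scheme is seminormal -/
theorem isSeminormal_opens (hX : HTop.IsSeminormal X) (V : X.Opens) :
    HTop.IsSeminormal (V : Scheme.{u}) := by
  rw [(Groth.Agent.S7420.result _).1]
  intro W
  have hW : IsAffineOpen (V.ι ''ᵁ W.1) := W.2.image_of_isOpenImmersion V.ι
  have h1 := ((Groth.Agent.S7420.result X).1.mp hX) ⟨V.ι ''ᵁ W.1, hW⟩
  exact isSeminormalRing_of_ringEquiv ((V.ι.appIso W.1).commRingCatIsoToRingEquiv).symm h1

end opens

section sn

variable {X X' : Scheme.{u}}

/-- a morphism in the class (universal homeomorphism with trivial residue field extensions) to an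
open of the target of `ν` with seminormal source lifts uniquely -/
theorem existsUnique_lift_of_isSeminormal {V Y U : Scheme.{u}} (hV : HTop.IsSeminormal V)
    (ν : V ⟶ U) (π : Y ⟶ U) (hπ : FlatMor.IsUnivHomeo π) (hres : HTop.ResidueFieldsIso π) :
    ∃! h : V ⟶ Y, h ≫ π = ν := by
  have hred : IsReduced V := Groth.Agent.S7421.result.2 V hV
  have h1 : FlatMor.IsUnivHomeo (pullback.fst ν π) :=
    MorphismProperty.pullback_fst (P := FlatMor.IsUnivHomeo) ν π hπ
  have h2 : HTop.ResidueFieldsIso (pullback.fst ν π) := resIso_pullback_fst ν π hres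
  obtain ⟨s, hs⟩ := exists_section_of_isSeminormal (pullback.fst ν π) h1 h2 hV
  refine ⟨s ≫ pullback.snd ν π, ?_, ?_⟩
  · change (s ≫ pullback.snd ν π) ≫ π = ν
    rw [Category.assoc, ← pullback.condition, ← Category.assoc, hs, Category.id_comp]
  · intro h' hh'
    change h' ≫ π = ν at hh'
    apply Groth.Agent.Lib.Helper25.AWN.hom_ext_of_isUnivHomeo π hπ
    rw [hh', Category.assoc, ← pullback.condition, ← Category.assoc, hs, Category.id_comp]

/-- **S15961** -/
theorem isSeminormalization_morphismRestrict (ν : X' ⟶ X)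
    (hν : HTop.IsSeminormalization ν) (hX' : HTop.IsSeminormal X') (U : X.Opens) :
    HTop.IsSeminormalization (ν ∣_ U) := by
  refine ⟨⟨?_, resIso_morphismRestrict ν hν.1.2 U⟩, ?_⟩
  · exact MorphismProperty.of_isPullback (P := FlatMor.IsUnivHomeo)
      (isPullback_morphismRestrict ν U).flip hν.1.1
  · intro Y π hπ hres
    exact existsUnique_lift_of_isSeminormal (isSeminormal_opens hX' _) (ν ∣_ U) π hπ hres

end sn

end Groth.Agent.Lib.Helper69.SNSch
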