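import Mathlib
import Groth.Prelude.Def_HTop2
import Groth.Prelude.Def_Pi1
import Groth.Agent.Lib.Helper69.SNSch2

/-!
# Normal schemes are seminormal; the normalization factors through the seminormalization
-/

set_option autoImplicit false
universe u

open CategoryTheory AlgebraicGeometry Limits Opposite

namespace Groth.Agent.Lib.Helper69.SNSch

open Groth.Agent.Lib.Helper69.AWNRing

section ring

variable {A : Type u} [CommRing A] [IsReduced A]

/-- the ideal of denominators of a square-and-cube root -/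
def denomIdeal (x y : A) (hxy : x ^ 3 = y ^ 2) : Ideal A where
  carrier := {s | ∃ b : A, b ^ 2 = s ^ 2 * x ∧ b ^ 3 = s ^ 3 * y}
  zero_mem' := ⟨0, by ring, by ring⟩
  add_mem' := by
    rintro s s' ⟨b, hb2, hb3⟩ ⟨b', hb'2, hb'3⟩
    have E1 : b * b' = s * s' * x := by
      apply eq_of_sq_cube_eq_of_isReduced
      · linear_combination b' ^ 2 * hb2 + s ^ 2 * x * hb'2
      · linear_combination b' ^ 3 * hb3 + s ^ 3 * y * hb'3 - s ^ 3 * s' ^ 3 * hxy
    have E2 : x * b' = s' * y := by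
      apply eq_of_sq_cube_eq_of_isReduced
      · linear_combination x ^ 2 * hb'2 + s' ^ 2 * hxy
      · linear_combination x ^ 3 * hb'3 + s' ^ 3 * y * hxy
    have E3 : x * b = s * y := by
      apply eq_of_sq_cube_eq_of_isReduced
      · linear_combination x ^ 2 * hb2 + s ^ 2 * hxy
      · linear_combination x ^ 3 * hb3 + s ^ 3 * y * hxy
    refine ⟨b + b', ?_, ?_⟩
    · linear_combination hb2 + hb'2 + 2 * E1
    · linear_combination hb3 + hb'3 + 3 * s ^ 2 * E2 + 3 * s' ^ 2 * E3 + 3 * b' * hb2 + 3 * b * hb'2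
  smul_mem' := by
    rintro c s ⟨b, hb2, hb3⟩
    refine ⟨c * b, ?_, ?_⟩
    · rw [smul_eq_mul]; linear_combination c ^ 2 * hb2
    · rw [smul_eq_mul]; linear_combination c ^ 3 * hb3

/-- a reduced ring in which `x³ = y²` is locally solvable is seminormal -/
theorem isSeminormalRing_of_local
    (h : ∀ (p : Ideal A), p.IsPrime → ∀ x y : A, x ^ 3 = y ^ 2 →
      ∃ s : A, s ∉ p ∧ ∃ b : A, b ^ 2 = s ^ 2 * x ∧ b ^ 3 = s ^ 3 * y) :
    HTop.IsSeminormalRing A := by
  intro x y hxy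
  have htop : denomIdeal x y hxy = ⊤ := by
    by_contra hne
    obtain ⟨m, hm, hle⟩ := Ideal.exists_le_maximal _ hne
    obtain ⟨s, hs, b, hb⟩ := h m hm.isPrime x y hxy
    exact hs (hle ⟨b, hb⟩)
  have h1 : (1 : A) ∈ denomIdeal x y hxy := by rw [htop]; trivial
  obtain ⟨b, hb2, hb3⟩ := h1
  refine ⟨b, ⟨by rw [hb2]; ring, by rw [hb3]; ring⟩, ?_⟩
  rintro b' ⟨h2, h3⟩
  apply eq_of_sq_cube_eq_of_isReduced
  · rw [← h2, hb2]; ring
  · rw [← h3, hb3]; ring

omit [IsReduced A] in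
/-- local solvability from a seminormal localization -/
theorem exists_local_solution (p : Ideal A) [p.IsPrime] (L : Type u) [CommRing L] [Algebra A L]
    [IsLocalization.AtPrime L p] (hL : HTop.IsSeminormalRing L) (x y : A) (hxy : x ^ 3 = y ^ 2) :
    ∃ s : A, s ∉ p ∧ ∃ b : A, b ^ 2 = s ^ 2 * x ∧ b ^ 3 = s ^ 3 * y := by
  obtain ⟨a, ⟨ha2, ha3⟩, -⟩ := hL (algebraMap A L x) (algebraMap A L y)
    (by rw [← map_pow, ← map_pow, hxy])
  obtain ⟨b₀, s₀, rfl⟩ := IsLocalization.exists_mk'_eq p.primeCompl a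
  have hspec : IsLocalization.mk' L b₀ s₀ * algebraMap A L s₀ = algebraMap A L b₀ :=
    IsLocalization.mk'_spec L b₀ s₀
  have e2 : algebraMap A L (b₀ ^ 2) = algebraMap A L (s₀ ^ 2 * x) := by
    rw [map_pow, map_mul, map_pow, ← hspec, ha2]; ring
  have e3 : algebraMap A L (b₀ ^ 3) = algebraMap A L (s₀ ^ 3 * y) := by
    rw [map_pow, map_mul, map_pow, ← hspec, ha3]; ring
  obtain ⟨u, hu⟩ := (IsLocalization.eq_iff_exists p.primeCompl L).mp e2
  obtain ⟨u', hu'⟩ := (IsLocalization.eq_iff_exists p.primeCompl L).mp e3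
  refine ⟨u * u' * s₀, ?_, u * u' * b₀, ?_, ?_⟩
  · exact (u * u' * s₀).2
  · linear_combination (u : A) * (u' : A) ^ 2 * hu
  · linear_combination (u : A) ^ 3 * (u' : A) ^ 2 * hu'

end ring

section scheme

/-- a normal scheme is seminormal -/
theorem isSeminormal_of_isNormalScheme {X : Scheme.{u}} (hX : Pi1.IsNormalScheme X) :
    HTop.IsSeminormal X := by
  have hstalk : ∀ x : X, _root_.IsReduced (X.presheaf.stalk x) := fun x => by
    have := (hX x).1
    infer_instance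
  have hred : IsReduced X := isReduced_of_isReduced_stalk X
  intro x
  obtain ⟨U, hxU⟩ := TopologicalSpace.Opens.mem_iSup.mp
    ((iSup_affineOpens_eq_top X).ge (Set.mem_univ x))
  refine ⟨U, hxU, ?_⟩
  apply isSeminormalRing_of_local
  intro p hp a b hab
  have hz : U.2.fromSpec ⟨p, hp⟩ ∈ U.1 := (U.2.isoSpec.inv _).2
  letI : Algebra Γ(X, U.1) (X.presheaf.stalk (U.2.fromSpec ⟨p, hp⟩)) :=
    TopCat.Presheaf.algebra_section_stalk X.presheaf ⟨_, hz⟩
  have hloc : IsLocalization.AtPrime (X.presheaf.stalk (U.2.fromSpec ⟨p, hp⟩)) p :=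
    U.2.isLocalization_stalk' ⟨p, hp⟩ hz
  have := (hX (U.2.fromSpec ⟨p, hp⟩)).1
  have := (hX (U.2.fromSpec ⟨p, hp⟩)).2
  exact exists_local_solution p (X.presheaf.stalk (U.2.fromSpec ⟨p, hp⟩))
    (Groth.Agent.S15941.result _) a b hab

/-- **S15962** -/
theorem exists_factor_normalization {S Sn X' : Scheme.{u}} (π : Sn ⟶ S)
    (hn : Pi1.IsNormalScheme Sn) (ν : X' ⟶ S) (hν : HTop.IsSeminormalization ν) :
    ∃ g : Sn ⟶ X', g ≫ ν = π :=
  (existsUnique_lift_of_isSeminormal (isSeminormal_of_isNormalScheme hn) π ν hν.1.1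
    hν.1.2).exists

end scheme

end Groth.Agent.Lib.Helper69.SNSch
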