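import Mathlib
import Groth.Prelude.Def_HTop2
import Groth.Prelude.Def_Pi1
import Groth.Agent.Lib.Helper69.SNNormal

/-!
# S15963: the seminormalization and the normalization, dominance and finiteness
-/

set_option autoImplicit false
universe u

open CategoryTheory AlgebraicGeometry Limits Opposite

namespace Groth.Agent.Lib.Helper69.SNSch

/-- a ring-level lemma: an intermediate ring of a finite extension of a Noetherian ring -/
lemma finite_of_comp_injective {A B C : Type u} [CommRing A] [CommRing B] [CommRing C]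
    [IsNoetherianRing A] (φ : A →+* B) (ψ : B →+* C) (hψ : Function.Injective ψ)
    (h : (ψ.comp φ).Finite) : φ.Finite := by
  letI := φ.toAlgebra
  letI := (ψ.comp φ).toAlgebra
  have hfin : Module.Finite A C := h
  have hN : IsNoetherian A C := isNoetherian_of_isNoetherianRing_of_finite A C
  let l : B →ₗ[A] C :=
    { toFun := ψ
      map_add' := map_add ψ
      map_smul' := by
        intro a b
        change ψ (φ a * b) = ψ (φ a) * ψ b
        rw [map_mul] }
  exact Module.Finite.of_injective l hψ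

theorem s15963 {S Sn X' : Scheme.{u}} [IsNoetherian S] [IsReduced S]
    (π : Sn ⟶ S) [IsIntegralHom π]
    (hbir : ∃ U : S.Opens, Dense (U : Set S) ∧ Dense ((π ⁻¹ᵁ U : Sn.Opens) : Set Sn) ∧
      IsIso (π ∣_ U))
    (ν : X' ⟶ S) (hν : HTop.IsSeminormalization ν) (hX' : HTop.IsSeminormal X')
    (g : Sn ⟶ X') (hg : g ≫ ν = π) :
    (IsSchemeTheoreticallyDominant ν ∧ IsSchemeTheoreticallyDominant g) ∧
      (IsFinite π → IsFinite ν ∧ IsFinite g) := by
  subst hg
  obtain ⟨hνint, hνinj, hνsurj⟩ := (Groth.Agent.Lib.Helper25.AWN.isUnivHomeo_iff' ν).mp hν.1.1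
  have hX'red : IsReduced X' := Groth.Agent.S7421.result.2 X' hX'
  have hgint : IsIntegralHom g := IsIntegralHom.of_comp g ν
  -- `π` is surjective
  have hπdom : IsDominant (g ≫ ν) := by
    obtain ⟨U, hU, -, hiso⟩ := hbir
    constructor
    apply hU.mono
    intro s hs
    have hsurj : Function.Surjective ((g ≫ ν) ∣_ U) :=
      (ConcreteCategory.bijective_of_isIso ((g ≫ ν) ∣_ U).base).2
    obtain ⟨t, ht⟩ := hsurj ⟨s, hs⟩
    refine ⟨t.1, ?_⟩
    have h1 := congrArg Subtype.val ht
    have h2 := morphismRestrict_base_coe (g ≫ ν) U t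
    exact h2.symm.trans h1
  have hπsurj : Surjective (g ≫ ν) :=
    surjective_of_isDominant_of_isClosed_range (g ≫ ν) (g ≫ ν).isClosedMap.isClosed_range
  have hgsurj : Surjective g := by
    constructor
    intro x'
    obtain ⟨t, ht⟩ := hπsurj.surj (ν x')
    refine ⟨t, ?_⟩
    apply ν.injective
    rw [← ht]
    rfl
  have h1 : IsSchemeTheoreticallyDominant ν := .of_isDominant ν
  have h2 : IsSchemeTheoreticallyDominant g := .of_isDominant g
  refine ⟨⟨h1, h2⟩, fun hfin => ?_⟩
  have hgfin : IsFinite g := IsFinite.of_comp g ν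
  refine ⟨?_, hgfin⟩
  refine ⟨fun U hU => ?_⟩
  have hN : IsNoetherianRing Γ(S, U) := IsLocallyNoetherian.component_noetherian ⟨U, hU⟩
  have hinj : Function.Injective (g.app (ν ⁻¹ᵁ U)).hom := g.app_injective (ν ⁻¹ᵁ U)
  have hcomp : ((g.app (ν ⁻¹ᵁ U)).hom.comp (ν.app U).hom).Finite := by
    have := (g ≫ ν).finite_app U hU
    rwa [Scheme.Hom.comp_app] at this
  exact finite_of_comp_injective _ _ hinj hcomp

end Groth.Agent.Lib.Helper69.SNSch
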