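import Mathlib
import Groth.Agent.Lib.Helper69.SNSch
import Groth.Agent.S7421

/-!
# Descent of functions along proper surjective morphisms onto seminormal schemes
-/

open AlgebraicGeometry CategoryTheory CategoryTheory.Limits TensorProduct
universe u

namespace Groth.Agent.Lib.Helper69.SNProperDescent

section LA

/-- an element `v` of an algebra over a field `k` with `v ⊗ 1 = 1 ⊗ v` comes from `k` -/
lemma mem_range_of_tmul_eq {k L : Type*} [Field k] [CommRing L] [Nontrivial L] [Algebra k L]
    (v : L) (h : v ⊗ₜ[k] (1 : L) = (1 : L) ⊗ₜ[k] v) : v ∈ (algebraMap k L).range := by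
  by_contra hv
  let p : Submodule k L := LinearMap.range (Algebra.linearMap k L)
  have hvp : v ∉ p := fun ⟨c, hc⟩ => hv ⟨c, hc⟩
  obtain ⟨f, hfv, hpf⟩ := Submodule.exists_le_ker_of_notMem hvp
  have h1 : f 1 = 0 := hpf ⟨1, by simp⟩
  let g : L ⊗[k] L →ₗ[k] L := TensorProduct.lift ((LinearMap.lsmul k L).comp f)
  have e := congrArg g h
  simp only [g, TensorProduct.lift.tmul, LinearMap.comp_apply, LinearMap.lsmul_apply, h1,
    zero_smul] at e
  rw [Algebra.smul_def, mul_one] at e
  exact hfv ((map_eq_zero_iff _ (algebraMap k L).injective).mp e)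

/-- a "pushout" of a field extension with itself detecting the base field -/
lemma exists_pushout_fields {k₀ L : Type u} [Field k₀] [Field L] (f : k₀ →+* L) :
    ∃ (P : Type u) (_ : CommRing P) (inl inr : L →+* P), inl.comp f = inr.comp f ∧
      ∀ v : L, inl v = inr v → v ∈ f.range := by
  let _ : Algebra k₀ L := f.toAlgebra
  refine ⟨L ⊗[k₀] L, inferInstance, Algebra.TensorProduct.includeLeftRingHom,
    (Algebra.TensorProduct.includeRight (R := k₀) (A := L) (B := L)).toRingHom, ?_, ?_⟩
  · ext c
    exact Algebra.TensorProduct.tmul_one_eq_one_tmul (A := L) (B := L) c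
  · intro v hv
    exact mem_range_of_tmul_eq v hv

end LA

section stalk

/-- stalks of a presheaf of reduced rings are reduced -/
lemma isReduced_stalk_of_presheaf {T : TopCat.{u}} (F : TopCat.Presheaf CommRingCat.{u} T)
    (hF : ∀ U, _root_.IsReduced (F.obj (Opposite.op U))) (x : T) :
    _root_.IsReduced (F.stalk x) := by
  constructor
  rintro g ⟨n, e⟩
  obtain ⟨U, hxU, s, (rfl : (F.germ U x hxU) s = g)⟩ := F.exists_germ_eq g
  rw [← map_pow, ← map_zero (F.germ _ x hxU).hom] at e
  obtain ⟨V, hxV, iU, iV, (e' : (F.map iU.op) (s ^ n) = (F.map iV.op) 0)⟩ :=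
    F.germ_eq x hxU hxU _ 0 e
  rw [map_pow, map_zero] at e'
  replace e' := (IsNilpotent.mk _ _ e').eq_zero (R := F.obj (Opposite.op V))
  rw [← F.germ_res iU x hxV, CommRingCat.comp_apply, e', map_zero]

/-- the scheme-theoretic image of a quasi-compact morphism from a reduced scheme is reduced -/
theorem isReduced_image {Y W : Scheme.{u}} (γ : Y ⟶ W) [QuasiCompact γ] [IsReduced Y] :
    IsReduced γ.image := by
  have : ∀ z : γ.image, _root_.IsReduced (γ.image.presheaf.stalk z) := by
    intro z
    have hinj := γ.stalkFunctor_toImage_injective z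
    have hred : _root_.IsReduced
        ((TopCat.Presheaf.stalkFunctor CommRingCat z).obj (γ.toImage.base _* Y.presheaf)) :=
      isReduced_stalk_of_presheaf _ (fun U => inferInstanceAs
        (_root_.IsReduced Γ(Y, γ.toImage ⁻¹ᵁ U))) z
    exact isReduced_of_injective
      ((TopCat.Presheaf.stalkFunctor CommRingCat z).map γ.toImage.c).hom hinj
  exact isReduced_of_isReduced_stalk γ.image

end stalk

section main

variable {X Y : Scheme.{u}}

/-- the sections of `X` inject into those of `Y` along a surjective morphism, `X` reduced -/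
theorem appTop_injective_of_surjective (π : Y ⟶ X) [Surjective π] [IsReduced X] :
    Function.Injective π.appTop := by
  rw [injective_iff_map_eq_zero]
  intro u hu
  apply eq_zero_of_basicOpen_eq_bot
  rw [eq_bot_iff]
  intro x hx
  obtain ⟨y, rfl⟩ := π.surjective x
  have h1 : y ∈ π ⁻¹ᵁ X.basicOpen u := hx
  rw [Scheme.preimage_basicOpen] at h1
  have h2 : π.app ⊤ u = 0 := hu
  rw [h2, Scheme.basicOpen_zero] at h1
  exact h1

set_option maxHeartbeats 400000 in
/-- **descent of functions** along a proper surjective morphism from a reduced scheme onto a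
seminormal scheme -/
theorem exists_descend (π : Y ⟶ X) [IsProper π] [Surjective π] [IsReduced Y]
    (hX : HTop.IsSeminormal X) (s : Γ(Y, ⊤))
    (hs : (pullback.fst π π).appTop s = (pullback.snd π π).appTop s) :
    ∃ t : Γ(X, ⊤), π.appTop t = s := by
  let n := PUnit.{u + 1}
  let p : 𝔸(n; X) ⟶ X := 𝔸(n; X) ↘ X
  let γ : Y ⟶ 𝔸(n; X) := AffineSpace.homOfVector π (fun _ => s)
  have hγp : γ ≫ p = π := AffineSpace.homOfVector_over _ _
  have hγs : γ.appTop (AffineSpace.coord X PUnit.unit) = s :=
    AffineSpace.homOfVector_appTop_coord _ _ _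
  have : IsProper (γ ≫ p) := by rw [hγp]; infer_instance
  have hγproper : IsProper γ := IsProper.of_comp γ p
  let Z := γ.image
  let ι : Z ⟶ 𝔸(n; X) := γ.imageι
  let τ : Y ⟶ Z := γ.toImage
  have hτι : τ ≫ ι = γ := γ.toImage_imageι
  let q : Z ⟶ X := ι ≫ p
  have hτq : τ ≫ q = π := by rw [← Category.assoc, hτι, hγp]
  have hZred : IsReduced Z := isReduced_image γ
  have hτsurj : Surjective τ := inferInstance
  -- the two projections agree after `τ`
  have h4 : pullback.fst π π ≫ τ = pullback.snd π π ≫ τ := by
    rw [← cancel_mono ι, Category.assoc, Category.assoc, hτι]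
    apply AffineSpace.hom_ext
    · rw [Category.assoc, Category.assoc]
      change _ ≫ γ ≫ p = _ ≫ γ ≫ p
      rw [hγp, pullback.condition]
    · intro i
      rw [Scheme.Hom.comp_appTop, Scheme.Hom.comp_appTop]
      simp only [CommRingCat.comp_apply]
      have : i = PUnit.unit := rfl
      rw [this, hγs]
      exact hs
  -- universally closed, surjective
  have : UniversallyClosed (τ ≫ q) := by rw [hτq]; infer_instance
  have hquc : UniversallyClosed q := UniversallyClosed.of_comp_surjective τ q
  have : Surjective (τ ≫ q) := by rw [hτq]; infer_instance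
  have hqsurj : Surjective q := Surjective.of_comp τ q
  -- universally injective
  have hqui : UniversallyInjective q := by
    rw [UniversallyInjective.iff_diagonal]
    let m := pullback.map π π q q τ τ (𝟙 X) ((Category.comp_id _).trans hτq.symm)
      ((Category.comp_id _).trans hτq.symm)
    have : MorphismProperty.IsStableUnderComposition @Surjective.{u} :=
      (inferInstance : MorphismProperty.IsMultiplicative @Surjective.{u}).toIsStableUnderComposition
    have hm : Surjective m :=
      MorphismProperty.pullbackMap (P := @Surjective.{u}) hτsurj hτsurj hτq.symm hτq.symm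
    have hmD : m = (pullback.fst π π ≫ τ) ≫ pullback.diagonal q := by
      apply pullback.hom_ext
      · simp only [m, pullback.lift_fst, Category.assoc, pullback.diagonal_fst, Category.comp_id]
      · simp only [m, pullback.lift_snd, Category.assoc, pullback.diagonal_snd, Category.comp_id]
        exact h4.symm
    rw [hmD] at hm
    exact Surjective.of_comp (pullback.fst π π ≫ τ) (pullback.diagonal q)
  have hq : FlatMor.IsUnivHomeo q := (SpecResidue.isUnivHomeo_iff q).mpr ⟨hquc, hqui, hqsurj⟩
  -- trivial residue field extensions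
  have hres : HTop.ResidueFieldsIso q := by
    intro z
    obtain ⟨y, rfl⟩ := τ.surjective z
    let a := q.residueFieldMap (τ y)
    let b := τ.residueFieldMap y
    let k₀ := X.residueField (q (τ y))
    let M := Z.residueField (τ y)
    let L := Y.residueField y
    obtain ⟨P', _, inl', inr', hcond', hP⟩ := exists_pushout_fields (a ≫ b).hom
    let P : CommRingCat.{u} := CommRingCat.of P'
    let inl : Y.residueField y ⟶ P := CommRingCat.ofHom inl'
    let inr : Y.residueField y ⟶ P := CommRingCat.ofHom inr'
    have hcond : (a ≫ b) ≫ inl = (a ≫ b) ≫ inr := by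
      apply CommRingCat.hom_ext
      exact hcond'
    -- the two points of `Y ×_X Y`
    have e1 : Y.fromSpecResidueField y ≫ τ = Spec.map b ≫ Z.fromSpecResidueField (τ y) :=
      (Scheme.Hom.SpecMap_residueFieldMap_fromSpecResidueField τ y).symm
    have e2 : Z.fromSpecResidueField (τ y) ≫ q = Spec.map a ≫ X.fromSpecResidueField (q (τ y)) :=
      (Scheme.Hom.SpecMap_residueFieldMap_fromSpecResidueField q (τ y)).symm
    have e3 : Y.fromSpecResidueField y ≫ π =
        Spec.map (a ≫ b) ≫ X.fromSpecResidueField (q (τ y)) := by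
      rw [← hτq, ← Category.assoc, e1, Category.assoc, e2, ← Category.assoc, ← Spec.map_comp]
    have hw : (Spec.map inl ≫ Y.fromSpecResidueField y) ≫ π =
        (Spec.map inr ≫ Y.fromSpecResidueField y) ≫ π := by
      simp only [Category.assoc]
      rw [e3, ← Category.assoc, ← Category.assoc, ← Spec.map_comp, ← Spec.map_comp, hcond]
    let w : Spec P ⟶ pullback π π := pullback.lift _ _ hw
    have e4 := congr(w ≫ $h4)
    simp only [w, pullback.lift_fst_assoc, pullback.lift_snd_assoc] at e4
    rw [Category.assoc, Category.assoc, e1, ← Category.assoc, ← Category.assoc, cancel_mono,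
      ← Spec.map_comp, ← Spec.map_comp, Spec.map_inj] at e4
    -- `b ≫ inl = b ≫ inr`
    rw [ConcreteCategory.isIso_iff_bijective]
    refine ⟨a.hom.injective, fun mm => ?_⟩
    have e5 : inl' (b.hom mm) = inr' (b.hom mm) := congr(($e4).hom mm)
    obtain ⟨c, hc⟩ := hP (b.hom mm) e5
    refine ⟨c, ?_⟩
    apply b.hom.injective
    exact hc
  have hiso : IsIso q := SNSch.isIso_of_isSeminormal q hq hres hX
  refine ⟨(inv q ≫ ι).appTop (AffineSpace.coord X PUnit.unit), ?_⟩
  have h7 : π ≫ inv q ≫ ι = γ := by
    rw [← hτq, Category.assoc, IsIso.hom_inv_id_assoc, hτι]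
  rw [← hγs, ← h7]
  rw [Scheme.Hom.comp_appTop π]
  rfl

end main

end Groth.Agent.Lib.Helper69.SNProperDescent
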