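import Mathlib
import Groth.Agent.Lib.Helper69.NoEmbBC

/-! # Length of a zero-dimensional localization of `L ⊗[k] R` with reduced closed fibre (helper69) -/

set_option autoImplicit false

universe u

open TensorProduct IsLocalRing

noncomputable section

namespace Groth.Agent.Lib.Helper69.SepLength

attribute [local instance] Algebra.TensorProduct.rightAlgebra

/-- transport of the length of a ring over itself along a ring isomorphism. -/
theorem length_eq_of_ringEquiv {S T : Type*} [CommRing S] [CommRing T] (e : S ≃+* T) :
    Module.length S S = Module.length T T := by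
  letI : Algebra S T := e.toRingHom.toAlgebra
  have h1 : Module.length S T = Module.length T T :=
    Module.length_eq_of_surjective (S := S) (R := T) (M := T) e.surjective
  let e' : S ≃ₐ[S] T := AlgEquiv.ofRingEquiv (f := e) (fun x => rfl)
  rw [← h1]
  exact e'.toLinearEquiv.length_eq

theorem length_eq (k L R : Type u) [Field k] [Field L] [Algebra k L] [CommRing R] [IsLocalRing R]
    [Algebra k R] (hred : IsReduced (L ⊗[k] (R ⧸ maximalIdeal R)))
    (M : Ideal (L ⊗[k] R)) [M.IsPrime]
    (hM : M.comap (algebraMap R (L ⊗[k] R)) = maximalIdeal R)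
    (hdim : Ring.KrullDimLE 0 (Localization.AtPrime M)) :
    Module.length (Localization.AtPrime M) (Localization.AtPrime M) = Module.length R R := by
  let T := Localization.AtPrime M
  have hflat1 : Module.Flat R (L ⊗[k] R) := NoEmbBC.flat_right k L R
  haveI : IsScalarTower R (L ⊗[k] R) T := inferInstance
  haveI hflat2 : Module.Flat (L ⊗[k] R) T := IsLocalization.flat T M.primeCompl
  haveI hflat : Module.Flat R T := Module.Flat.trans R (L ⊗[k] R) T
  haveI hloc : IsLocalHom (algebraMap R T) := by
    constructor
    intro r hr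
    have h1 : IsUnit (algebraMap (L ⊗[k] R) T (algebraMap R (L ⊗[k] R) r)) := by
      rw [← IsScalarTower.algebraMap_apply]; exact hr
    rw [IsLocalization.AtPrime.isUnit_to_map_iff T M] at h1
    by_contra hnu
    have h2 : r ∈ maximalIdeal R := (IsLocalRing.mem_maximalIdeal r).mpr hnu
    rw [← hM] at h2
    exact h1 h2
  have h1 := IsLocalRing.length_baseChange R T R
  have h2 : Module.length T (T ⊗[R] R) = Module.length T T :=
    (TensorProduct.AlgebraTensorModule.rid R T T).length_eq
  rw [h2] at h1
  -- the closed fibre is a field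
  have hmax : (maximalIdeal R).map (algebraMap R T) = maximalIdeal T := by
    apply le_antisymm
    · rw [Ideal.map_le_iff_le_comap]
      intro r hr
      rw [Ideal.mem_comap, IsLocalRing.mem_maximalIdeal, mem_nonunits_iff]
      intro hu
      exact (IsLocalRing.mem_maximalIdeal r).mp hr (isUnit_of_map_unit (algebraMap R T) r hu)
    · rw [← Localization.AtPrime.map_eq_maximalIdeal (I := M), Ideal.map_le_iff_le_comap]
      intro y hy
      rw [Ideal.mem_comap]
      have hym : algebraMap (L ⊗[k] R) T y ∈ maximalIdeal T := by
        rw [← Localization.AtPrime.map_eq_maximalIdeal (I := M)]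
        exact Ideal.mem_map_of_mem _ hy
      have hnil : IsNilpotent (algebraMap (L ⊗[k] R) T y) :=
        Ring.KrullDimLE.isNilpotent_iff_mem_nonunits.mpr
          ((IsLocalRing.mem_maximalIdeal _).mp hym)
      obtain ⟨n, hn⟩ := hnil
      rw [← map_pow] at hn
      obtain ⟨s, hs⟩ := (IsLocalization.map_eq_zero_iff M.primeCompl T _).mp hn
      -- `s * y` is nilpotent
      have hsy : ((s : L ⊗[k] R) * y) ^ (n + 1) = 0 := by
        have : ((s : L ⊗[k] R) * y) ^ (n + 1) = (s : L ⊗[k] R) ^ n * y * (s * y ^ n) := by ring
        rw [this, hs, mul_zero]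
      let ψ : L ⊗[k] R →ₐ[k] L ⊗[k] (R ⧸ maximalIdeal R) :=
        Algebra.TensorProduct.map (AlgHom.id k L) (Ideal.Quotient.mkₐ k (maximalIdeal R))
      have hker : RingHom.ker ψ = (maximalIdeal R).map (algebraMap R (L ⊗[k] R)) := by
        have := Algebra.TensorProduct.lTensor_ker (A := L)
          (Ideal.Quotient.mkₐ k (maximalIdeal R))
          (Ideal.Quotient.mkₐ_surjective k (maximalIdeal R))
        have hk : RingHom.ker (Ideal.Quotient.mkₐ k (maximalIdeal R)) = maximalIdeal R := by
          ext a
          rw [RingHom.mem_ker, Ideal.Quotient.mkₐ_eq_mk, Ideal.Quotient.eq_zero_iff_mem]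
        rw [hk] at this
        exact this
      have hψ : ψ ((s : L ⊗[k] R) * y) = 0 := by
        have hnil2 : IsNilpotent (ψ ((s : L ⊗[k] R) * y)) := ⟨n + 1, by rw [← map_pow, hsy, map_zero]⟩
        exact hnil2.eq_zero
      have hmem : (s : L ⊗[k] R) * y ∈ (maximalIdeal R).map (algebraMap R (L ⊗[k] R)) := by
        rw [← hker]; exact hψ
      have h3 : algebraMap (L ⊗[k] R) T ((s : L ⊗[k] R) * y) ∈
          (maximalIdeal R).map (algebraMap R T) := by
        have h4 : (maximalIdeal R).map (algebraMap R T) =
            ((maximalIdeal R).map (algebraMap R (L ⊗[k] R))).map (algebraMap (L ⊗[k] R) T) := by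
          rw [Ideal.map_map, ← IsScalarTower.algebraMap_eq]
        rw [h4]
        exact Ideal.mem_map_of_mem _ hmem
      rw [map_mul] at h3
      have hu : IsUnit (algebraMap (L ⊗[k] R) T s) := IsLocalization.map_units T s
      exact (Ideal.unit_mul_mem_iff_mem _ hu).mp h3
  rw [hmax] at h1
  have h5 : Module.length T (T ⧸ maximalIdeal T) = 1 := by
    rw [Module.length_eq_one_iff]
    exact isSimpleModule_iff_isCoatom.mpr (Ideal.isMaximal_def.mp inferInstance)
  rw [h5, mul_one] at h1
  exact h1

end Groth.Agent.Lib.Helper69.SepLength
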