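import Groth.Agent.Lib.Helper69.SepLength
import Groth.Agent.Lib.Helper62.BCStalk

/-! # Length of the local ring at a maximal point is invariant under separable base field
extension (helper69) -/

set_option autoImplicit false

universe u

open CategoryTheory CategoryTheory.Limits AlgebraicGeometry TensorProduct IsLocalRing

noncomputable section

namespace Groth.Agent.Lib.Helper69.SepLengthSch

open Groth.Agent.Lib.Helper62

attribute [local instance] Algebra.TensorProduct.rightAlgebra

/-- the local ring at a maximal point is zero-dimensional. -/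
theorem krullDimLE_zero_of_maximal_point {X : Scheme.{u}} (x : X)
    (hx : ∀ z : X, z ⤳ x → z = x) : Ring.KrullDimLE 0 (X.presheaf.stalk x) := by
  rw [Ring.krullDimLE_zero_iff]
  intro P hP
  let p : PrimeSpectrum (X.presheaf.stalk x) := ⟨P, hP⟩
  have h1 : (X.fromSpecStalk x) p ∈ Set.range (X.fromSpecStalk x) := ⟨p, rfl⟩
  rw [Scheme.range_fromSpecStalk] at h1
  have h2 : (X.fromSpecStalk x) p = x := hx _ h1
  have h3 : (X.fromSpecStalk x) (closedPoint (X.presheaf.stalk x)) = x :=
    Scheme.fromSpecStalk_closedPoint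
  have h4 : p = closedPoint (X.presheaf.stalk x) :=
    (X.fromSpecStalk x).isEmbedding.injective (h2.trans h3.symm)
  have h5 : P = maximalIdeal (X.presheaf.stalk x) := congrArg PrimeSpectrum.asIdeal h4
  rw [h5]
  infer_instance

/-- a geometrically reduced field extension stays reduced after tensoring with a field. -/
theorem isReduced_tensor {k' k'' : Type u} [Field k'] [Field k''] [Algebra k' k'']
    [GeometricallyReduced (Spec.map (CommRingCat.ofHom (algebraMap k' k'')))]
    (κ : Type u) [Field κ] [Algebra k' κ] : IsReduced (k'' ⊗[k'] κ) := by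
  have hpo : Algebra.IsPushout k' k'' κ (k'' ⊗[k'] κ) := inferInstance
  have h1 := CommRingCat.isPushout_iff_isPushout.mpr hpo
  have h2 := isPullback_SpecMap_of_isPushout _ _ _ _ h1
  have h3 : AlgebraicGeometry.IsReduced (Spec (CommRingCat.of (k'' ⊗[k'] κ))) :=
    GeometricallyReduced.geometrically_isReduced
      (f := Spec.map (CommRingCat.ofHom (algebraMap k' k''))) _ _ _ h2
  exact (affine_isReduced_iff _).mp h3

theorem length_stalk_eq {k' k'' : Type u} [Field k'] [Field k''] [Algebra k' k'']
    {Y : Scheme.{u}} (g : Y ⟶ Spec (CommRingCat.of k'))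
    [GeometricallyReduced (Spec.map (CommRingCat.ofHom (algebraMap k' k'')))]
    (x'' : ↥(BCStalk.bc g k'')) (hx'' : ∀ z : ↥(BCStalk.bc g k''), z ⤳ x'' → z = x'') :
    Module.length ((BCStalk.bc g k'').presheaf.stalk x'') ((BCStalk.bc g k'').presheaf.stalk x'') =
      Module.length (Y.presheaf.stalk ((BCStalk.bcπ g k'') x''))
        (Y.presheaf.stalk ((BCStalk.bcπ g k'') x'')) := by
  letI : Algebra k' (Y.presheaf.stalk ((BCStalk.bcπ g k'') x'')) :=
    (BCStalk.stalkStr g ((BCStalk.bcπ g k'') x'')).toAlgebra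
  obtain ⟨M, hMprime, hMcomap, ⟨e⟩⟩ :=
    BCStalk.exists_prime_of_point g k'' x'' ((BCStalk.bcπ g k'') x'') rfl rfl
  have hdimS := krullDimLE_zero_of_maximal_point x'' hx''
  have hdimT : Ring.KrullDimLE 0 (Localization.AtPrime M) := by
    rw [Ring.krullDimLE_iff, ← ringKrullDim_eq_of_ringEquiv e, ← Ring.krullDimLE_iff]
    exact hdimS
  letI : Field (Y.presheaf.stalk ((BCStalk.bcπ g k'') x'') ⧸
      maximalIdeal (Y.presheaf.stalk ((BCStalk.bcπ g k'') x''))) := Ideal.Quotient.field _
  have hred := isReduced_tensor (k' := k') (k'' := k'')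
    (Y.presheaf.stalk ((BCStalk.bcπ g k'') x'') ⧸
      maximalIdeal (Y.presheaf.stalk ((BCStalk.bcπ g k'') x'')))
  rw [SepLength.length_eq_of_ringEquiv e]
  exact SepLength.length_eq k' k'' (Y.presheaf.stalk ((BCStalk.bcπ g k'') x'')) hred M hMcomap hdimT

end Groth.Agent.Lib.Helper69.SepLengthSch
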