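import Mathlib
import Groth.Prelude.Def_SGA1
import Groth.Agent.S4450

/-!
# Submersive morphisms to the spectrum of a DVR lift the specialization
-/

open AlgebraicGeometry CategoryTheory CategoryTheory.Limits
universe u

namespace Groth.Agent.Lib.Helper69.SubmDVR

/-- ring level: a point in the closure of a basic open has a generization in it -/
lemma exists_le_not_mem_of_mem_closure_basicOpen {B : Type*} [CommRing B] (b : B)
    (𝔭 : PrimeSpectrum B) (h : 𝔭 ∈ closure (PrimeSpectrum.basicOpen b : Set (PrimeSpectrum B))) :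
    ∃ q : PrimeSpectrum B, q.asIdeal ≤ 𝔭.asIdeal ∧ b ∉ q.asIdeal := by
  let M : Submonoid B := 𝔭.asIdeal.primeCompl ⊔ Submonoid.powers b
  by_cases h0 : (0 : B) ∈ M
  · exfalso
    obtain ⟨t, ht, z, ⟨n, rfl⟩, htz⟩ := Submonoid.mem_sup.mp h0
    -- `D(t)` is a neighbourhood of `𝔭` disjoint from `D(b)`
    have hopen : IsOpen (PrimeSpectrum.basicOpen t : Set (PrimeSpectrum B)) :=
      (PrimeSpectrum.basicOpen t).2
    have hmem : 𝔭 ∈ (PrimeSpectrum.basicOpen t : Set (PrimeSpectrum B)) := ht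
    obtain ⟨q, hq1, hq2⟩ := mem_closure_iff.mp h _ hopen hmem
    have hq1' : t ∉ q.asIdeal := hq1
    have hq2' : b ∉ q.asIdeal := hq2
    have : t * b ^ n ∈ q.asIdeal := by rw [htz]; exact q.asIdeal.zero_mem
    rcases q.2.mem_or_mem this with h1 | h1
    · exact hq1' h1
    · exact hq2' (q.2.mem_of_pow_mem n h1)
  · obtain ⟨Q, hQ, -, hdisj⟩ := Ideal.exists_le_prime_disjoint (⊥ : Ideal B) M (by
      rw [Set.disjoint_left]
      intro x hx hxM
      rw [SetLike.mem_coe, Ideal.mem_bot] at hx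
      rw [hx] at hxM
      exact h0 hxM)
    refine ⟨⟨Q, hQ⟩, ?_, ?_⟩
    · intro x hx
      by_contra hxp
      exact Set.disjoint_left.mp hdisj hx (Submonoid.mem_sup_left hxp)
    · intro hb
      exact Set.disjoint_left.mp hdisj hb (Submonoid.mem_sup_right (Submonoid.mem_powers b))

/-- scheme level -/
lemma exists_specializes_mem_basicOpen {P : Scheme.{u}} (s : Γ(P, ⊤)) (p : P)
    (hp : p ∈ closure (P.basicOpen s : Set P)) : ∃ p' : P, p' ∈ P.basicOpen s ∧ p' ⤳ p := by
  obtain ⟨_, ⟨U, hU₀, rfl⟩, hpU, -⟩ :=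
    P.isBasis_affineOpens.exists_subset_of_mem_open (Set.mem_univ p) isOpen_univ
  have hU : IsAffineOpen U := hU₀
  let 𝔭 : ↥(Spec Γ(P, U)) := hU.primeIdealOf ⟨p, hpU⟩
  have h𝔭 : hU.fromSpec 𝔭 = p := hU.fromSpec_primeIdealOf ⟨p, hpU⟩
  let b : Γ(P, U) := P.presheaf.map (homOfLE le_top).op s
  have hb : P.basicOpen b = U ⊓ P.basicOpen s := Scheme.basicOpen_res _ _ _
  have : IsOpenImmersion hU.fromSpec := hU.isOpenImmersion_fromSpec
  have hj : Topology.IsOpenEmbedding hU.fromSpec := hU.fromSpec.isOpenEmbedding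
  have h1 : 𝔭 ∈ closure (hU.fromSpec ⁻¹' (P.basicOpen s : Set P)) := by
    apply hj.isOpenMap.preimage_closure_subset_closure_preimage
    have : hU.fromSpec 𝔭 ∈ closure (P.basicOpen s : Set P) := h𝔭 ▸ hp
    exact this
  have h2 : hU.fromSpec ⁻¹' (P.basicOpen s : Set P) =
      (PrimeSpectrum.basicOpen b : Set (PrimeSpectrum Γ(P, U))) := by
    have e1 := hU.fromSpec_preimage_basicOpen b
    have e2 : hU.fromSpec ⁻¹ᵁ P.basicOpen b = hU.fromSpec ⁻¹ᵁ P.basicOpen s := by
      rw [hb, Scheme.Hom.preimage_inf, hU.fromSpec_preimage_self, top_inf_eq]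
    rw [e2] at e1
    exact congrArg (fun V : (Spec Γ(P, U)).Opens => (V : Set (Spec Γ(P, U)))) e1
  rw [h2] at h1
  obtain ⟨q, hq1, hq2⟩ := exists_le_not_mem_of_mem_closure_basicOpen b 𝔭 h1
  refine ⟨hU.fromSpec q, ?_, ?_⟩
  · have : q ∈ hU.fromSpec ⁻¹' (P.basicOpen s : Set P) := by
      rw [h2]
      exact hq2
    exact this
  · rw [← h𝔭]
    exact ((PrimeSpectrum.le_iff_specializes q 𝔭).mp hq1).map hU.fromSpec.continuous

/-- a quotient map onto the spectrum of a DVR lifts the specialization -/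
theorem exists_specializes_of_isQuotientMap {P : Scheme.{u}} (R : Type u) [CommRing R]
    [IsDomain R] [IsDiscreteValuationRing R] (f : P ⟶ Spec (CommRingCat.of R))
    (hf : Topology.IsQuotientMap f) :
    ∃ p₁ p₀ : P, p₁ ⤳ p₀ ∧ (f p₁).asIdeal = ⊥ ∧ (f p₀).asIdeal = IsLocalRing.maximalIdeal R := by
  obtain ⟨ϖ, hϖ⟩ := IsDiscreteValuationRing.exists_irreducible R
  have hmax : IsLocalRing.maximalIdeal R = Ideal.span {ϖ} := hϖ.maximalIdeal_eq
  -- points of `Spec R`
  have hpts : ∀ y : PrimeSpectrum R, ϖ ∉ y.asIdeal → y.asIdeal = ⊥ := by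
    intro y hy
    by_contra hne
    have : y.asIdeal = IsLocalRing.maximalIdeal R :=
      IsLocalRing.eq_maximalIdeal (Ring.DimensionLEOne.maximalOfPrime hne y.2)
    rw [this, hmax] at hy
    exact hy (Ideal.mem_span_singleton_self ϖ)
  have hpts' : ∀ y : PrimeSpectrum R, ϖ ∈ y.asIdeal → y.asIdeal = IsLocalRing.maximalIdeal R := by
    intro y hy
    have hne : y.asIdeal ≠ ⊥ := by
      intro h
      rw [h, Ideal.mem_bot] at hy
      exact hϖ.ne_zero hy
    exact IsLocalRing.eq_maximalIdeal (Ring.DimensionLEOne.maximalOfPrime hne y.2)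
  let s₀ : Γ(Spec (CommRingCat.of R), ⊤) := (Scheme.ΓSpecIso (CommRingCat.of R)).inv ϖ
  have hD : ((Spec (CommRingCat.of R)).basicOpen s₀ : Set (Spec (CommRingCat.of R))) =
      (PrimeSpectrum.basicOpen ϖ : Set (PrimeSpectrum R)) :=
    congrArg (fun V : (Spec (CommRingCat.of R)).Opens => (V : Set (Spec (CommRingCat.of R))))
      (basicOpen_eq_of_affine (R := CommRingCat.of R) ϖ)
  let s : Γ(P, ⊤) := f.appTop s₀
  have hs : (P.basicOpen s : Set P) = f ⁻¹' (PrimeSpectrum.basicOpen ϖ : Set (PrimeSpectrum R)) := by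
    rw [← hD]
    exact congrArg (fun V : P.Opens => (V : Set P)) (Scheme.preimage_basicOpen f s₀).symm
  -- the closed point is not open
  have hnotopen : ¬ IsOpen ((PrimeSpectrum.basicOpen ϖ : Set (PrimeSpectrum R))ᶜ) := by
    intro hopen
    let c : PrimeSpectrum R := ⟨IsLocalRing.maximalIdeal R, inferInstance⟩
    let η : PrimeSpectrum R := ⟨⊥, Ideal.isPrime_bot⟩
    have hc : c ∈ (PrimeSpectrum.basicOpen ϖ : Set (PrimeSpectrum R))ᶜ := by
      intro h
      apply h
      change ϖ ∈ IsLocalRing.maximalIdeal R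
      rw [hmax]
      exact Ideal.mem_span_singleton_self ϖ
    have hηc : η ⤳ c := (PrimeSpectrum.le_iff_specializes η c).mp bot_le
    have hη := hopen.stableUnderGeneralization hηc hc
    apply hη
    change ϖ ∉ (⊥ : Ideal R)
    rw [Ideal.mem_bot]
    exact hϖ.ne_zero
  have hnotclosed : ¬ IsClosed (P.basicOpen s : Set P) := by
    intro hcl
    apply hnotopen
    have h3 := hf.isOpen_preimage
      (s := ((PrimeSpectrum.basicOpen ϖ : Set (PrimeSpectrum R))ᶜ : Set (Spec (CommRingCat.of R))))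
    apply h3.mp
    have h4 : f ⁻¹' ((PrimeSpectrum.basicOpen ϖ : Set (PrimeSpectrum R))ᶜ :
        Set (Spec (CommRingCat.of R))) = (P.basicOpen s : Set P)ᶜ := by
      ext z
      simp only [Set.mem_preimage, Set.mem_compl_iff]
      rw [hs]
      rfl
    exact h4 ▸ hcl.isOpen_compl
  have : ∃ p₀ ∈ closure (P.basicOpen s : Set P), p₀ ∉ (P.basicOpen s : Set P) := by
    by_contra hcon
    push Not at hcon
    exact hnotclosed (closure_subset_iff_isClosed.mp hcon)
  obtain ⟨p₀, hp₀, hp₀'⟩ := this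
  obtain ⟨p₁, hp₁, hsp⟩ := exists_specializes_mem_basicOpen s p₀ hp₀
  refine ⟨p₁, p₀, hsp, ?_, ?_⟩
  · have : p₁ ∈ f ⁻¹' (PrimeSpectrum.basicOpen ϖ : Set (PrimeSpectrum R)) := by
      rw [← hs]; exact hp₁
    exact hpts (f p₁) this
  · have : p₀ ∉ f ⁻¹' (PrimeSpectrum.basicOpen ϖ : Set (PrimeSpectrum R)) := by
      rw [← hs]; exact hp₀'
    apply hpts' (f p₀)
    by_contra h
    exact this h

/-- a DVR through a strict specialization in a locally Noetherian scheme (after helper39's S4450) -/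
theorem exists_dvr_hom_of_specializes {X : Scheme.{u}} [IsLocallyNoetherian X] (η x : X)
    (h : η ⤳ x) (hne : x ≠ η) :
    ∃ (A : Type u) (_ : CommRing A) (_ : IsDomain A) (_ : IsDiscreteValuationRing A)
      (g : Spec (CommRingCat.of A) ⟶ X),
      (∀ y : Spec (CommRingCat.of A), y.asIdeal = ⊥ → g y = η) ∧
      (∀ y : Spec (CommRingCat.of A), y.asIdeal = IsLocalRing.maximalIdeal A → g y = x) := by
  obtain ⟨V, hh, hV, hcl, hcomp⟩ := Groth.Agent.S4450.main4450 (𝟙 X) η x h hne
  refine ⟨V, inferInstance, inferInstance, hV, hh, ?_, ?_⟩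
  · intro y hy
    let pt : Spec (X.residueField η) := IsLocalRing.closedPoint (X.residueField η)
    have h2 := congr(($hcomp).base pt)
    have h3 : (Spec.map (CommRingCat.ofHom V.subtype) ≫ hh).base pt = η := by
      rw [h2]
      simp only [Category.comp_id]
      exact Scheme.fromSpecResidueField_apply η pt
    have h4 : ((Spec.map (CommRingCat.ofHom V.subtype)).base pt).asIdeal = ⊥ := by
      change Ideal.comap V.subtype pt.asIdeal = ⊥
      have : pt.asIdeal = ⊥ := by
        change IsLocalRing.maximalIdeal _ = ⊥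
        exact IsLocalRing.maximalIdeal_eq_bot
      rw [this]
      exact (RingHom.injective_iff_ker_eq_bot _).mp Subtype.val_injective
    have h5 : y = (Spec.map (CommRingCat.ofHom V.subtype)).base pt :=
      PrimeSpectrum.ext (hy.trans h4.symm)
    rw [h5]
    exact h3
  · intro y hy
    have h5 : y = IsLocalRing.closedPoint V := PrimeSpectrum.ext hy
    rw [h5]
    exact hcl

end Groth.Agent.Lib.Helper69.SubmDVR
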