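import Mathlib
import Groth.Prelude.Def_SymTen

/-!
# Transfer of symmetric tensors along `B →ₐ[A] K'` to symmetric tensors over `K`
-/

universe u

open scoped TensorProduct

namespace Groth.Agent.Lib.Helper69.SymTenTransfer

open PiTensorProduct

variable {A B K K' : Type u} [CommRing A] [CommRing B] [CommRing K] [CommRing K']
  [Algebra A B] [Algebra A K] [Algebra K K'] [Algebra A K'] [IsScalarTower A K K']

/-- The comparison map `B^{⊗_A d} → K'^{⊗_K d}`. -/
noncomputable def Ψ (ψ : B →ₐ[A] K') (d : ℕ) :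
    (⨂[A] _ : Fin d, B) →ₗ[A] (⨂[K] _ : Fin d, K') :=
  PiTensorProduct.lift
    (((PiTensorProduct.tprod K (s := fun _ : Fin d => K')).restrictScalars A).compLinearMap
      (fun _ => ψ.toLinearMap))

@[simp] lemma Ψ_tprod (ψ : B →ₐ[A] K') (d : ℕ) (f : Fin d → B) :
    Ψ (K := K) ψ d (PiTensorProduct.tprod A f) = PiTensorProduct.tprod K (fun i => ψ (f i)) := by
  simp [Ψ]

lemma Ψ_reindex (ψ : B →ₐ[A] K') (d : ℕ) (σ : Equiv.Perm (Fin d)) (t : ⨂[A] _ : Fin d, B) :
    Ψ (K := K) ψ d (PiTensorProduct.reindex A (fun _ : Fin d => B) σ t) =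
      PiTensorProduct.reindex K (fun _ : Fin d => K') σ (Ψ (K := K) ψ d t) := by
  induction t using PiTensorProduct.induction_on with
  | smul_tprod r f =>
    have e1 : Ψ (K := K) ψ d (PiTensorProduct.reindex A (fun _ : Fin d => B) σ
        (r • PiTensorProduct.tprod A f)) =
        r • PiTensorProduct.tprod K (fun i => ψ (f (σ.symm i))) := by
      rw [map_smul, map_smul, PiTensorProduct.reindex_tprod, Ψ_tprod]
    have e2 : PiTensorProduct.reindex K (fun _ : Fin d => K') σ
        (Ψ (K := K) ψ d (r • PiTensorProduct.tprod A f)) =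
        r • PiTensorProduct.tprod K (fun i => ψ (f (σ.symm i))) := by
      rw [map_smul, Ψ_tprod, ← algebraMap_smul K r, map_smul, PiTensorProduct.reindex_tprod,
        algebraMap_smul]
    rw [e1, e2]
  | add x y hx hy => rw [map_add, map_add, map_add, map_add, hx, hy]

lemma mul_Ψ (ψ : B →ₐ[A] K') (d : ℕ) (t : ⨂[A] _ : Fin d, B) :
    PiTensorProduct.lift (MultilinearMap.mkPiAlgebra K (Fin d) K') (Ψ (K := K) ψ d t) =
      ψ (PiTensorProduct.lift (MultilinearMap.mkPiAlgebra A (Fin d) B) t) := by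
  induction t using PiTensorProduct.induction_on with
  | smul_tprod r f =>
    have e1 : PiTensorProduct.lift (MultilinearMap.mkPiAlgebra K (Fin d) K')
        (Ψ (K := K) ψ d (r • PiTensorProduct.tprod A f)) = r • ∏ i, ψ (f i) := by
      rw [map_smul, Ψ_tprod, ← algebraMap_smul K r, map_smul, PiTensorProduct.lift.tprod,
        MultilinearMap.mkPiAlgebra_apply, algebraMap_smul]
    have e2 : ψ (PiTensorProduct.lift (MultilinearMap.mkPiAlgebra A (Fin d) B)
        (r • PiTensorProduct.tprod A f)) = r • ∏ i, ψ (f i) := by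
      rw [map_smul, map_smul, PiTensorProduct.lift.tprod, MultilinearMap.mkPiAlgebra_apply,
        map_prod]
    rw [e1, e2]
  | add x y hx hy => rw [map_add, map_add, map_add, map_add, hx, hy]

/-- A symmetric tensor over `A` maps to a symmetric tensor over `K` with compatible product. -/
theorem exists_symmetric_lift (ψ : B →ₐ[A] K') (d : ℕ) (x : ⨂[A] _ : Fin d, B)
    (hx : x ∈ SymTen.TS A B d) :
    ∃ y : ⨂[K] _ : Fin d, K',
      (∀ σ : Equiv.Perm (Fin d), PiTensorProduct.reindex K (fun _ : Fin d => K') σ y = y) ∧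
      PiTensorProduct.lift (MultilinearMap.mkPiAlgebra K (Fin d) K') y =
        ψ (PiTensorProduct.lift (MultilinearMap.mkPiAlgebra A (Fin d) B) x) := by
  refine ⟨Ψ (K := K) ψ d x, ?_, mul_Ψ ψ d x⟩
  intro σ
  rw [← Ψ_reindex, (SymTen.mem_TS_iff A B d x).mp hx σ]

end Groth.Agent.Lib.Helper69.SymTenTransfer
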