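import Mathlib
import Groth.Prelude.Def_SymTen
import Groth.Agent.Lib.Helper69.SymTenField
import Groth.Agent.Lib.Helper69.SymTenTransfer

/-!
# The product of a symmetric tensor, seen in a purely inseparable residue extension
-/

universe u

open scoped TensorProduct

namespace Groth.Agent.Lib.Helper69.SymTenResidue

open Groth.Agent.Lib.Helper69.SymTenField Groth.Agent.Lib.Helper69.SymTenTransfer

theorem residue_mem_range {A B C' K K' : Type u} [CommRing A] [CommRing B] [CommRing C']
    [Field K] [Field K'] [Algebra A B] [Algebra A C'] (φ : B →ₐ[A] C') (π' : C' →+* K')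
    (m : K →+* K') (αK : A →+* K) (hcomm : ∀ a, m (αK a) = π' (algebraMap A C' a))
    (d : ℕ) (hd : 0 < d)
    (hdvd : @Module.finrank K K' _ _ m.toAlgebra.toModule ∣ d)
    (hpi : ∀ z : K', ∃ n : ℕ, z ^ ringExpChar K ^ n ∈ Set.range m)
    (x : ⨂[A] _ : Fin d, B) (hx : x ∈ SymTen.TS A B d) :
    π' (φ (PiTensorProduct.lift (MultilinearMap.mkPiAlgebra A (Fin d) B) x)) ∈ Set.range m := by
  letI : Algebra K K' := m.toAlgebra
  letI : Algebra A K := αK.toAlgebra
  letI : Algebra A K' := (π'.comp (algebraMap A C')).toAlgebra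
  haveI : IsScalarTower A K K' := IsScalarTower.of_algebraMap_eq (fun a => (hcomm a).symm)
  let ψ : B →ₐ[A] K' :=
    { toRingHom := π'.comp φ.toRingHom
      commutes' := fun a => by
        change π' (φ (algebraMap A B a)) = π' (algebraMap A C' a)
        rw [φ.commutes] }
  obtain ⟨y, hy1, hy2⟩ := exists_symmetric_lift (K := K) ψ d x hx
  have h := mul_mem_range_of_symmetric d hd hdvd hpi y hy1
  rw [hy2] at h
  exact h

end Groth.Agent.Lib.Helper69.SymTenResidue
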