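import Groth.Agent.S4628
import Groth.Agent.Lib.Helper59.TPowDep

/-!
# Tensor powers of an algebra with geometrically reduced fibres (helper69)

If `K' ⊗[A] B` is reduced for every field `K'` over `A`, then `K ⊗[A] B^{⊗ι}` is reduced for
every field `K` over `A` and every finite index type `ι`.
-/

set_option autoImplicit false
set_option linter.style.haveILetI false

namespace Groth.Agent.Lib.Helper69.TPowReduced

open scoped TensorProduct
open AlgebraicGeometry CategoryTheory CategoryTheory.Limits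

universe u

/-- a `k`-algebra all of whose field base changes are reduced stays reduced after tensoring with
any reduced `k`-algebra -/
theorem isReduced_tensorProduct_of_forall_field {k : Type u} [Field k] (C S : Type u)
    [CommRing C] [CommRing S] [Algebra k C] [Algebra k S]
    (h : ∀ (K : Type u) [Field K] [Algebra k K], _root_.IsReduced (C ⊗[k] K))
    [_root_.IsReduced S] : _root_.IsReduced (C ⊗[k] S) := by
  have : GeometricallyReduced (Spec.map (CommRingCat.ofHom (algebraMap k C))) := by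
    refine ⟨geometrically_iff_of_commRing_of_isClosedUnderIsomorphisms.mpr fun K _ _ => ?_⟩
    have : AlgebraicGeometry.IsReduced (Spec (.of (C ⊗[k] K))) :=
      (affine_isReduced_iff _).mpr (h K)
    exact isReduced_of_isOpenImmersion (pullbackSpecIso k C K).hom
  exact Groth.Agent.S4628.isReduced_tensorProduct_of_geometricallyReduced C S

variable {A : Type u} [CommRing A]

/-- the inductive step -/
theorem isReduced_tensor_step (K : Type u) [Field K] [Algebra A K] (X B : Type u) [CommRing X]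
    [CommRing B] [Algebra A X] [Algebra A B] (hX : _root_.IsReduced (K ⊗[A] X))
    (hB : ∀ (K' : Type u) [Field K'] [Algebra A K'], _root_.IsReduced (K' ⊗[A] B)) :
    _root_.IsReduced (K ⊗[A] (X ⊗[A] B)) := by
  -- `(K ⊗ B) ⊗[K] (K ⊗ X)` is reduced
  have h1 : _root_.IsReduced ((K ⊗[A] B) ⊗[K] (K ⊗[A] X)) := by
    refine isReduced_tensorProduct_of_forall_field (k := K) (K ⊗[A] B) (K ⊗[A] X) ?_
    intro K' _ _
    letI : Algebra A K' := ((algebraMap K K').comp (algebraMap A K)).toAlgebra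
    haveI : IsScalarTower A K K' := IsScalarTower.of_algebraMap_eq fun _ => rfl
    have h2 : _root_.IsReduced (K' ⊗[A] B) := hB K'
    let e1 : (K ⊗[A] B) ⊗[K] K' ≃ₐ[K] K' ⊗[K] (K ⊗[A] B) := Algebra.TensorProduct.comm K _ _
    let e2 : K' ⊗[K] (K ⊗[A] B) ≃ₐ[K'] K' ⊗[A] B :=
      Algebra.TensorProduct.cancelBaseChange A K K' K' B
    exact isReduced_of_injective (e1.toRingEquiv.trans e2.toRingEquiv)
      (e1.toRingEquiv.trans e2.toRingEquiv).injective
  -- transport
  let f1 : K ⊗[A] (X ⊗[A] B) ≃ₐ[A] (K ⊗[A] X) ⊗[A] B :=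
    (Algebra.TensorProduct.assoc A A A K X B).symm
  let f2 : (K ⊗[A] X) ⊗[K] (K ⊗[A] B) ≃ₐ[K] (K ⊗[A] X) ⊗[A] B :=
    Algebra.TensorProduct.cancelBaseChange A K K (K ⊗[A] X) B
  let f3 : (K ⊗[A] X) ⊗[K] (K ⊗[A] B) ≃ₐ[K] (K ⊗[A] B) ⊗[K] (K ⊗[A] X) :=
    Algebra.TensorProduct.comm K _ _
  exact isReduced_of_injective
    ((f1.toRingEquiv.trans f2.symm.toRingEquiv).trans f3.toRingEquiv)
    ((f1.toRingEquiv.trans f2.symm.toRingEquiv).trans f3.toRingEquiv).injective

open Groth.Agent.Lib.Helper59.TPowDep in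
/-- tensor powers of an algebra with geometrically reduced fibres have reduced fibres -/
theorem isReduced_tensor_piTensor (B : Type u) [CommRing B] [Algebra A B]
    (hB : ∀ (K' : Type u) [Field K'] [Algebra A K'], _root_.IsReduced (K' ⊗[A] B))
    (K : Type u) [Field K] [Algebra A K] (ι : Type) [Finite ι] :
    _root_.IsReduced (K ⊗[A] (⨂[A] _ : ι, B)) := by
  induction ι using Finite.induction_empty_option with
  | of_equiv e h =>
    rename_i α β
    let e1 : (⨂[A] _ : α, B) ≃ₐ[A] (⨂[A] _ : β, B) := reindexAlgEquivDep A (fun _ : α => B) e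
    let e2 : K ⊗[A] (⨂[A] _ : β, B) ≃ₐ[K] K ⊗[A] (⨂[A] _ : α, B) :=
      Algebra.TensorProduct.congr AlgEquiv.refl e1.symm
    exact isReduced_of_injective e2 e2.injective
  | h_empty =>
    let e1 : (⨂[A] _ : PEmpty, B) ≃ₐ[A] A := isEmptyAlgEquivDep A (fun _ : PEmpty => B)
    let e2 : K ⊗[A] (⨂[A] _ : PEmpty, B) ≃ₐ[K] K ⊗[A] A :=
      Algebra.TensorProduct.congr AlgEquiv.refl e1
    let e3 : K ⊗[A] A ≃ₐ[K] K := Algebra.TensorProduct.rid A K K
    exact isReduced_of_injective (e2.trans e3) (e2.trans e3).injective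
  | h_option h =>
    rename_i α _
    -- `Option α ≃ α ⊕ PUnit`
    let e0 : (⨂[A] _ : Option α, B) ≃ₐ[A] (⨂[A] _ : α ⊕ PUnit.{1}, B) :=
      reindexAlgEquivDep A (fun _ : Option α => B) (Equiv.optionEquivSumPUnit α)
    let e1 : ((⨂[A] _ : α, B) ⊗[A] (⨂[A] _ : PUnit.{1}, B)) ≃ₐ[A] (⨂[A] _ : α ⊕ PUnit.{1}, B) :=
      tmulAlgEquivDep A (fun _ : α ⊕ PUnit.{1} => B)
    let e2 : (⨂[A] _ : PUnit.{1}, B) ≃ₐ[A] B :=
      subsingletonAlgEquivDep A (fun _ : PUnit.{1} => B) PUnit.unit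
    let e3 : ((⨂[A] _ : α, B) ⊗[A] (⨂[A] _ : PUnit.{1}, B)) ≃ₐ[A] (⨂[A] _ : α, B) ⊗[A] B :=
      Algebra.TensorProduct.congr AlgEquiv.refl e2
    let e4 : (⨂[A] _ : Option α, B) ≃ₐ[A] (⨂[A] _ : α, B) ⊗[A] B :=
      (e0.trans e1.symm).trans e3
    let e5 : K ⊗[A] (⨂[A] _ : Option α, B) ≃ₐ[K] K ⊗[A] ((⨂[A] _ : α, B) ⊗[A] B) :=
      Algebra.TensorProduct.congr AlgEquiv.refl e4
    have := isReduced_tensor_step K (⨂[A] _ : α, B) B h hB
    exact isReduced_of_injective e5 e5.injective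

end Groth.Agent.Lib.Helper69.TPowReduced
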