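import Groth.Prelude.Def_SymTen
import Mathlib

/-!
# Tensor powers and symmetric tensors commute with filtered colimits (helper69)
-/

set_option autoImplicit false
universe u
open scoped TensorProduct

namespace Groth.Agent.Lib.Helper69.TSColim
open SymTen

section tmapfun
variable {A : Type u} [CommRing A] {B C D : Type u} [CommRing B] [Algebra A B]
  [CommRing C] [Algebra A C] [CommRing D] [Algebra A D] (d : ℕ)

theorem tmap_id_apply (w : ⨂[A] _ : Fin d, B) : tmap A d (AlgHom.id A B) w = w := by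
  induction w using PiTensorProduct.induction_on with
  | smul_tprod r g => simp
  | add x y hx hy => simp [hx, hy]

theorem tmap_comp_apply (f : B →ₐ[A] C) (g : C →ₐ[A] D) (w : ⨂[A] _ : Fin d, B) :
    tmap A d (g.comp f) w = tmap A d g (tmap A d f w) := by
  induction w using PiTensorProduct.induction_on with
  | smul_tprod r g => simp
  | add x y hx hy => simp [hx, hy]

end tmapfun

section main
variable {A : Type u} [CommRing A] {B : Type u} [CommRing B] [Algebra A B]
    {ι : Type u} [Preorder ι] [IsDirected ι (fun i j => i ≤ j)] [Nonempty ι]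
    {Bi : ι → Type u} [∀ i, CommRing (Bi i)] [∀ i, Algebra A (Bi i)]
    {t : ∀ i j : ι, i ≤ j → (Bi i →ₐ[A] Bi j)} {φ : ∀ i : ι, Bi i →ₐ[A] B}
    (hcomp : ∀ (i j : ι) (h : i ≤ j), (φ j).comp (t i j h) = φ i)
    (hsurj : ∀ b : B, ∃ (i : ι) (x : Bi i), φ i x = b)
    (hzero : ∀ (i : ι) (x : Bi i), φ i x = 0 → ∃ (j : ι) (h : i ≤ j), t i j h x = 0)
    (hid : ∀ (i : ι) (h : i ≤ i), t i i h = AlgHom.id A (Bi i))
    (htrans : ∀ (i j k : ι) (hij : i ≤ j) (hjk : j ≤ k),
      (t j k hjk).comp (t i j hij) = t i k (hij.trans hjk))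

include hcomp hsurj in
theorem exists_lift {κ : Type*} [Finite κ] (b : κ → B) :
    ∃ (i : ι) (x : κ → Bi i), ∀ k, φ i (x k) = b k := by
  choose i0 x0 hx0 using fun k => hsurj (b k)
  obtain ⟨M, hM⟩ := Finite.exists_le i0
  refine ⟨M, fun k => t (i0 k) M (hM k) (x0 k), fun k => ?_⟩
  rw [← AlgHom.comp_apply, hcomp, hx0]

include hzero htrans in
theorem exists_equalize {κ : Type*} [Finite κ] {i : ι} (x y : κ → Bi i)
    (h : ∀ k, φ i (x k) = φ i (y k)) :
    ∃ (j : ι) (hij : i ≤ j), ∀ k, t i j hij (x k) = t i j hij (y k) := by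
  have : ∀ k, ∃ (j : ι) (hij : i ≤ j), t i j hij (x k - y k) = 0 := fun k =>
    hzero i _ (by rw [map_sub, h k, sub_self])
  choose j0 hj0 hx0 using this
  obtain ⟨M, hM⟩ := Finite.exists_le (fun o : Option κ => o.elim i j0)
  have hiM : i ≤ M := hM none
  refine ⟨M, hiM, fun k => ?_⟩
  have h1 : j0 k ≤ M := hM (some k)
  have := congrArg (t (j0 k) M h1) (hx0 k)
  rw [← AlgHom.comp_apply, htrans, map_zero, map_sub, sub_eq_zero] at this
  exact this

include hcomp hzero htrans in
theorem exists_equalize₂ {κ : Type*} [Finite κ] {i j : ι} (x : κ → Bi i) (y : κ → Bi j)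
    (h : ∀ k, φ i (x k) = φ j (y k)) :
    ∃ (m : ι) (him : i ≤ m) (hjm : j ≤ m), ∀ k, t i m him (x k) = t j m hjm (y k) := by
  obtain ⟨m0, h1, h2⟩ := exists_ge_ge i j
  obtain ⟨m, hm, he⟩ := exists_equalize hzero htrans (fun k => t i m0 h1 (x k))
    (fun k => t j m0 h2 (y k)) (fun k => by
      rw [← AlgHom.comp_apply, ← AlgHom.comp_apply, hcomp, hcomp, h k])
  refine ⟨m, h1.trans hm, h2.trans hm, fun k => ?_⟩
  have := he k
  rw [← AlgHom.comp_apply, ← AlgHom.comp_apply, htrans, htrans] at this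
  exact this

variable (d : ℕ)

include hid htrans in
theorem directedSystem : DirectedSystem (fun i => ⨂[A] _ : Fin d, Bi i)
    (fun i j h => ⇑((tmap A d (t i j h)).toLinearMap)) where
  map_self i x := by
    simp only [AlgHom.toLinearMap_apply]
    rw [hid, tmap_id_apply]
  map_map k j i hij hjk x := by
    simp only [AlgHom.toLinearMap_apply]
    rw [← tmap_comp_apply, htrans]

variable [DecidableEq ι]

variable (t) in
/-- The direct limit of the tensor powers. -/
noncomputable abbrev L : Type u :=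
  Module.DirectLimit (fun i => ⨂[A] _ : Fin d, Bi i)
    (fun i j h => (tmap A d (t i j h)).toLinearMap)

variable (t) in
noncomputable abbrev ofL (i : ι) : (⨂[A] _ : Fin d, Bi i) →ₗ[A] L t d :=
  Module.DirectLimit.of A ι (fun i => ⨂[A] _ : Fin d, Bi i)
    (fun i j h => (tmap A d (t i j h)).toLinearMap) i

theorem ofL_tmap (i j : ι) (h : i ≤ j) (w : ⨂[A] _ : Fin d, Bi i) :
    ofL t d j (tmap A d (t i j h) w) = ofL t d i w :=
  Module.DirectLimit.of_f (f := fun i j h => (tmap A d (t i j h)).toLinearMap) (hij := h) (x := w)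

/-- The multilinear map, by choice. -/
noncomputable def Mfun (b : Fin d → B) : L t d :=
  ofL t d (exists_lift hcomp hsurj b).choose
    (PiTensorProduct.tprod A (exists_lift hcomp hsurj b).choose_spec.choose)

include hzero htrans in
theorem Mfun_eq (b : Fin d → B) (i : ι) (x : Fin d → Bi i) (hx : ∀ k, φ i (x k) = b k) :
    Mfun hcomp hsurj d b = ofL t d i (PiTensorProduct.tprod A x) := by
  have h0 := (exists_lift hcomp hsurj b).choose_spec.choose_spec
  obtain ⟨m, h1, h2, he⟩ := exists_equalize₂ hcomp hzero htrans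
    (exists_lift hcomp hsurj b).choose_spec.choose x (fun k => by rw [h0 k, hx k])
  unfold Mfun
  rw [← ofL_tmap d _ m h1, ← ofL_tmap d i m h2, tmap_tprod, tmap_tprod]
  congr 2
  funext k
  exact he k

/-- The multilinear map. -/
noncomputable def Mmul : MultilinearMap A (fun _ : Fin d => B) (L t d) where
  toFun := Mfun hcomp hsurj d
  map_update_add' := by
    intro _ b m c c'
    obtain ⟨i, X, hX⟩ := exists_lift hcomp hsurj (Sum.elim b ![c, c'] : Fin d ⊕ Fin 2 → B)
    have hx : ∀ k, φ i (X (Sum.inl k)) = b k := fun k => hX (Sum.inl k)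
    have hy : φ i (X (Sum.inr 0)) = c := hX (Sum.inr 0)
    have hy' : φ i (X (Sum.inr 1)) = c' := hX (Sum.inr 1)
    have key : ∀ (v : Bi i) (c0 : B), φ i v = c0 →
        Mfun hcomp hsurj d (Function.update b m c0) =
          ofL t d i (PiTensorProduct.tprod A (Function.update (fun k => X (Sum.inl k)) m v)) := by
      intro v c0 hv
      apply Mfun_eq hcomp hsurj hzero htrans
      intro k
      rw [Function.apply_update (fun _ => φ i)]
      by_cases hk : k = m
      · subst hk; simp [hv]
      · simp [Function.update_of_ne hk, hx]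
    rw [key (X (Sum.inr 0) + X (Sum.inr 1)) (c + c') (by rw [map_add, hy, hy']),
      key _ c hy, key _ c' hy', MultilinearMap.map_update_add, map_add]
  map_update_smul' := by
    intro _ b m r c
    obtain ⟨i, X, hX⟩ := exists_lift hcomp hsurj (Sum.elim b ![c] : Fin d ⊕ Fin 1 → B)
    have hx : ∀ k, φ i (X (Sum.inl k)) = b k := fun k => hX (Sum.inl k)
    have hy : φ i (X (Sum.inr 0)) = c := hX (Sum.inr 0)
    have key : ∀ (v : Bi i) (c0 : B), φ i v = c0 →
        Mfun hcomp hsurj d (Function.update b m c0) =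
          ofL t d i (PiTensorProduct.tprod A (Function.update (fun k => X (Sum.inl k)) m v)) := by
      intro v c0 hv
      apply Mfun_eq hcomp hsurj hzero htrans
      intro k
      rw [Function.apply_update (fun _ => φ i)]
      by_cases hk : k = m
      · subst hk; simp [hv]
      · simp [Function.update_of_ne hk, hx]
    rw [key (r • X (Sum.inr 0)) (r • c) (by rw [map_smul, hy]),
      key _ c hy, MultilinearMap.map_update_smul, map_smul]

/-- The comparison map from the tensor power of the colimit to the colimit of tensor powers. -/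
noncomputable def Psi : (⨂[A] _ : Fin d, B) →ₗ[A] L t d :=
  PiTensorProduct.lift (Mmul hcomp hsurj hzero htrans d)

theorem Psi_tmap (i : ι) (w : ⨂[A] _ : Fin d, Bi i) :
    Psi hcomp hsurj hzero htrans d (tmap A d (φ i) w) = ofL t d i w := by
  induction w using PiTensorProduct.induction_on with
  | smul_tprod r g =>
    rw [map_smul, map_smul, map_smul, tmap_tprod]
    congr 1
    unfold Psi
    rw [PiTensorProduct.lift.tprod]
    exact Mfun_eq hcomp hsurj hzero htrans d _ i g (fun k => rfl)
  | add x y hx hy => rw [map_add, map_add, map_add, hx, hy]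

end main

section final
variable {A : Type u} [CommRing A] {B : Type u} [CommRing B] [Algebra A B]
    {ι : Type u} [Preorder ι] [IsDirected ι (fun i j => i ≤ j)] [Nonempty ι]
    {Bi : ι → Type u} [∀ i, CommRing (Bi i)] [∀ i, Algebra A (Bi i)]
    {t : ∀ i j : ι, i ≤ j → (Bi i →ₐ[A] Bi j)} {φ : ∀ i : ι, Bi i →ₐ[A] B}
    (hcomp : ∀ (i j : ι) (h : i ≤ j), (φ j).comp (t i j h) = φ i)
    (hsurj : ∀ b : B, ∃ (i : ι) (x : Bi i), φ i x = b)
    (hzero : ∀ (i : ι) (x : Bi i), φ i x = 0 → ∃ (j : ι) (h : i ≤ j), t i j h x = 0)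
    (hid : ∀ (i : ι) (h : i ≤ i), t i i h = AlgHom.id A (Bi i))
    (htrans : ∀ (i j k : ι) (hij : i ≤ j) (hjk : j ≤ k),
      (t j k hjk).comp (t i j hij) = t i k (hij.trans hjk))
    (d : ℕ)

include hcomp hsurj hzero hid htrans in
/-- Key lemma: a tensor at stage `i` dying in the colimit dies at a later stage. -/
theorem tmap_zero_exact (i : ι) (w : ⨂[A] _ : Fin d, Bi i) (hw : tmap A d (φ i) w = 0) :
    ∃ (j : ι) (h : i ≤ j), tmap A d (t i j h) w = 0 := by
  classical
  have hds := directedSystem (A := A) (t := t) hid htrans d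
  have h0 : ofL t d i w = 0 := by
    rw [← Psi_tmap hcomp hsurj hzero htrans d i w, hw, map_zero]
  obtain ⟨j, hij, hj⟩ := Module.DirectLimit.of.zero_exact h0
  exact ⟨j, hij, hj⟩

include hcomp hsurj in
theorem tmap_exists_lift (w : ⨂[A] _ : Fin d, B) :
    ∃ (i : ι) (w' : ⨂[A] _ : Fin d, Bi i), tmap A d (φ i) w' = w := by
  induction w using PiTensorProduct.induction_on with
  | smul_tprod r b =>
    obtain ⟨i, x, hx⟩ := exists_lift hcomp hsurj b
    refine ⟨i, r • PiTensorProduct.tprod A x, ?_⟩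
    rw [map_smul, tmap_tprod]
    congr 2
    funext k
    exact hx k
  | add x y hx hy =>
    obtain ⟨i, x', hx'⟩ := hx
    obtain ⟨j, y', hy'⟩ := hy
    obtain ⟨m, h1, h2⟩ := exists_ge_ge i j
    refine ⟨m, tmap A d (t i m h1) x' + tmap A d (t j m h2) y', ?_⟩
    rw [map_add, ← tmap_comp_apply, ← tmap_comp_apply, hcomp, hcomp, hx', hy']

include hcomp hsurj hzero hid htrans in
theorem ts_isDirectLimit :
    (∀ z : SymTen.TS A B d, ∃ (i : ι) (y : SymTen.TS A (Bi i) d), SymTen.TSmap A d (φ i) y = z) ∧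
      ∀ (i : ι) (y : SymTen.TS A (Bi i) d), SymTen.TSmap A d (φ i) y = 0 →
        ∃ (j : ι) (h : i ≤ j), SymTen.TSmap A d (t i j h) y = 0 := by
  constructor
  · intro z
    obtain ⟨i, w, hw⟩ := tmap_exists_lift hcomp hsurj d z.1
    have hσ : ∀ σ : Equiv.Perm (Fin d), ∃ (j : ι) (h : i ≤ j),
        tmap A d (t i j h) (PiTensorProduct.reindex A (fun _ : Fin d => Bi i) σ w - w) = 0 := by
      intro σ
      apply tmap_zero_exact hcomp hsurj hzero hid htrans
      rw [map_sub, tmap_reindex, hw, z.2 σ, sub_self]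
    choose j0 hj0 hx0 using hσ
    obtain ⟨M, hM⟩ := Finite.exists_le (fun o : Option (Equiv.Perm (Fin d)) => o.elim i j0)
    have hiM : i ≤ M := hM none
    refine ⟨M, ⟨tmap A d (t i M hiM) w, fun σ => ?_⟩, ?_⟩
    · have h1 : j0 σ ≤ M := hM (some σ)
      have := congrArg (tmap A d (t (j0 σ) M h1)) (hx0 σ)
      rw [← tmap_comp_apply, htrans, map_zero, map_sub, sub_eq_zero, tmap_reindex] at this
      exact this
    · apply Subtype.ext
      show tmap A d (φ M) (tmap A d (t i M hiM) w) = z.1
      rw [← tmap_comp_apply, hcomp, hw]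
  · intro i y hy
    have h0 : tmap A d (φ i) y.1 = 0 := congrArg Subtype.val hy
    obtain ⟨j, hij, hj⟩ := tmap_zero_exact hcomp hsurj hzero hid htrans d i y.1 h0
    exact ⟨j, hij, Subtype.ext hj⟩

end final

end Groth.Agent.Lib.Helper69.TSColim
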