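import Groth.Agent.Lib.Helper59.TSFlat

/-!
# Purity of the symmetric tensors of a flat algebra (helper69)

For a flat `A`-algebra `B` the inclusion `TS^d_A(B) ⊆ B^{⊗d}` is universally injective:
`Q ⊗ TS^d_A(B) → Q ⊗ B^{⊗d}` is injective for every `A`-module `Q`.
Uses helper59's `TSFlatMod` (`exists_proj_kills`, `exists_symm_lift`) and `GRoby.Phi`.
-/

set_option autoImplicit false

namespace Groth.Agent.Lib.Helper69.TSPure

open scoped TensorProduct
open Groth.Agent.Lib.Helper59 Groth.Agent.Lib.Helper59.TSFlatMod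

universe u

variable {A : Type u} [CommRing A]

section tsMap

variable {P P' P'' : Type u} [CommRing P] [Algebra A P] [CommRing P'] [Algebra A P']
  [CommRing P''] [Algebra A P''] (d : ℕ)

/-- the map induced on symmetric tensors by a linear map -/
noncomputable def tsMap (φ : P →ₗ[A] P') : SymTen.TS A P d →ₗ[A] SymTen.TS A P' d where
  toFun t := ⟨PiTensorProduct.map (fun _ : Fin d => φ) t.1, fun σ => by
    rw [← map_reindex', t.2 σ]⟩
  map_add' x y := Subtype.ext (map_add _ _ _)
  map_smul' a x := Subtype.ext (map_smul _ _ _)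

theorem val_comp_tsMap (φ : P →ₗ[A] P') :
    (SymTen.TS A P' d).val.toLinearMap ∘ₗ tsMap d φ =
      PiTensorProduct.map (fun _ : Fin d => φ) ∘ₗ (SymTen.TS A P d).val.toLinearMap := by
  ext t
  rfl

theorem tsMap_comp (φ : P →ₗ[A] P') (ψ : P' →ₗ[A] P'') :
    tsMap d (ψ ∘ₗ φ) = tsMap d ψ ∘ₗ tsMap d φ := by
  ext t
  show PiTensorProduct.map (fun _ : Fin d => ψ ∘ₗ φ) t.1 =
    PiTensorProduct.map (fun _ : Fin d => ψ) (PiTensorProduct.map (fun _ : Fin d => φ) t.1)
  rw [map_map]

theorem tsMap_surjective [Module.Flat A P'] (φ : P →ₗ[A] P') (hφ : Function.Surjective φ) :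
    Function.Surjective (tsMap d φ) := by
  intro t
  obtain ⟨s, hs, hst⟩ := exists_symm_lift φ hφ d t.1 t.2
  exact ⟨⟨s, hs⟩, Subtype.ext hst⟩

end tsMap

section Pure

variable {B : Type u} [CommRing B] [Algebra A B] [Module.Flat A B] (d : ℕ)
  (Q : Type u) [AddCommGroup Q] [Module A Q]

/-- the case of an algebra with a basis: `TS` is a direct summand -/
theorem lTensor_val_injective_of_basis {P : Type u} [CommRing P] [Algebra A P] {I : Type u}
    (e : Module.Basis I A P) :
    Function.Injective ((SymTen.TS A P d).val.toLinearMap.lTensor Q) := by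
  let i : SymTen.TS A P d →ₗ[A] (⨂[A] _ : Fin d, P) := (SymTen.TS A P d).val.toLinearMap
  let r : (⨂[A] _ : Fin d, P) →ₗ[A] SymTen.TS A P d :=
    { toFun := fun t => ⟨GRoby.Phi e d t, SymLaw.Phi_mem_TS e d t⟩
      map_add' := fun x y => Subtype.ext (map_add _ _ _)
      map_smul' := fun a x => Subtype.ext (map_smul _ _ _) }
  have hri : r ∘ₗ i = LinearMap.id := by
    ext t
    exact GRoby.Phi_of_mem_TS e d t.1 t.2
  have h2 : (r.lTensor Q) ∘ₗ (i.lTensor Q) = LinearMap.id := by
    rw [← LinearMap.lTensor_comp, hri, LinearMap.lTensor_id]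
  intro x y hxy
  have := congrArg (r.lTensor Q) hxy
  rwa [← LinearMap.comp_apply, ← LinearMap.comp_apply, h2] at this

/-- purity, given a surjection from an algebra with a basis -/
theorem lTensor_val_injective_of_surjective {P : Type u} [CommRing P] [Algebra A P] {I : Type u}
    (e : Module.Basis I A P) (q : P →ₗ[A] B) (hq : Function.Surjective q) :
    Function.Injective ((SymTen.TS A B d).val.toLinearMap.lTensor Q) := by
  classical
  have hqT : Function.Surjective (PiTensorProduct.map (R := A) (fun _ : Fin d => q)) :=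
    map_surjective d q hq
  have hsq : (SymTen.TS A B d).val.toLinearMap ∘ₗ tsMap d q =
      PiTensorProduct.map (fun _ : Fin d => q) ∘ₗ (SymTen.TS A P d).val.toLinearMap :=
    val_comp_tsMap d q
  rw [injective_iff_map_eq_zero]
  intro z hz
  obtain ⟨zP, rfl⟩ := LinearMap.lTensor_surjective Q (tsMap_surjective d q hq) z
  -- the image of `zP` in `Q ⊗ T^d P` maps to zero in `Q ⊗ T^d B`
  have hu : ((PiTensorProduct.map (R := A) (fun _ : Fin d => q)).lTensor Q)
      (((SymTen.TS A P d).val.toLinearMap).lTensor Q zP) = 0 := by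
    rw [← LinearMap.comp_apply, ← LinearMap.lTensor_comp, ← hsq, LinearMap.lTensor_comp,
      LinearMap.comp_apply]
    exact hz
  have hex : Function.Exact
      ((LinearMap.ker (PiTensorProduct.map (R := A) (fun _ : Fin d => q))).subtype.lTensor Q)
      ((PiTensorProduct.map (R := A) (fun _ : Fin d => q)).lTensor Q) :=
    lTensor_exact Q (LinearMap.exact_subtype_ker_map _) hqT
  obtain ⟨v, hv⟩ := (hex _).mp hu
  obtain ⟨S, hS⟩ := TensorProduct.exists_finset v
  obtain ⟨π, hπ, hπ'⟩ := exists_proj_kills e q hq d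
    (S.image (fun p => (p.2 : ⨂[A] _ : Fin d, P))) (by
    intro w hw
    obtain ⟨p, _, rfl⟩ := Finset.mem_image.mp hw
    exact p.2.2)
  have h1 : ((PiTensorProduct.map (R := A) (fun _ : Fin d => π)).lTensor Q)
      (((SymTen.TS A P d).val.toLinearMap).lTensor Q zP) = 0 := by
    rw [← hv, hS, map_sum, map_sum]
    refine Finset.sum_eq_zero fun p hp => ?_
    rw [LinearMap.lTensor_tmul, LinearMap.lTensor_tmul]
    have : PiTensorProduct.map (R := A) (fun _ : Fin d => π)
        ((LinearMap.ker (PiTensorProduct.map (R := A) (fun _ : Fin d => q))).subtype p.2) = 0 :=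
      hπ' _ (Finset.mem_image.mpr ⟨p, hp, rfl⟩)
    rw [this, TensorProduct.tmul_zero]
  have h2 : (((SymTen.TS A P d).val.toLinearMap).lTensor Q) ((tsMap d π).lTensor Q zP) = 0 := by
    rw [← LinearMap.comp_apply, ← LinearMap.lTensor_comp, val_comp_tsMap d π,
      LinearMap.lTensor_comp, LinearMap.comp_apply]
    exact h1
  have h3 : (tsMap d π).lTensor Q zP = 0 :=
    lTensor_val_injective_of_basis d Q e (by rw [h2, map_zero])
  have h4 : tsMap d q = tsMap d q ∘ₗ tsMap d π := by
    rw [← tsMap_comp, hπ]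
  rw [h4, LinearMap.lTensor_comp, LinearMap.comp_apply, h3, map_zero]

/-- **Purity of symmetric tensors of a flat algebra.** -/
theorem lTensor_val_injective :
    Function.Injective ((SymTen.TS A B d).val.toLinearMap.lTensor Q) := by
  refine lTensor_val_injective_of_surjective d Q (MvPolynomial.basisMonomials B A)
    (MvPolynomial.aeval (R := A) (id : B → B)).toLinearMap fun b => ⟨MvPolynomial.X b, ?_⟩
  show MvPolynomial.aeval (R := A) (id : B → B) (MvPolynomial.X b) = b
  rw [MvPolynomial.aeval_X]
  rfl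

end Pure

end Groth.Agent.Lib.Helper69.TSPure
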