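import Mathlib

/-! # Ramified points with separable residue extension have separable residue field (helper69)

`A → B` local homomorphism of local `k`-algebras, `B` Noetherian, not a field, essentially of finite
type over `A`, with `Ω[B⁄k]` cyclic; residue fields `κA → κB` separable, `κB/k` finite.  If
`m_A B = m_B ^ e` with `e ≥ 2`, then `κB/k` is separable. -/

set_option autoImplicit false
set_option linter.style.haveILetI false

universe u

open IsLocalRing KaehlerDifferential

namespace Groth.Agent.Lib.Helper69.TameSep

theorem core (k A B κA κB : Type u) [Field k] [CommRing A] [IsLocalRing A] [Algebra k A]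
    [CommRing B] [IsLocalRing B] [Algebra k B] [IsNoetherianRing B]
    [Algebra A B] [IsScalarTower k A B] [IsLocalHom (algebraMap A B)] [Algebra.EssFiniteType A B]
    (ω : Ω[B⁄k]) (hω : ∀ y : Ω[B⁄k], ∃ b : B, y = b • ω)
    [Field κA] [Field κB] [Algebra k κA] [Algebra k κB] [Algebra A κA] [Algebra B κB]
    [Algebra κA κB] [IsScalarTower k B κB] [IsScalarTower k κA κB]
    (hcomm : ∀ a : A, algebraMap B κB (algebraMap A B a) = algebraMap κA κB (algebraMap A κA a))
    (hκA : Function.Surjective (algebraMap A κA)) (hκB : Function.Surjective (algebraMap B κB))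
    [FiniteDimensional k κB] [Algebra.IsSeparable κA κB]
    (e : ℕ) (he : (maximalIdeal A).map (algebraMap A B) = maximalIdeal B ^ e) (h2 : 2 ≤ e)
    (hB0 : maximalIdeal B ≠ ⊥) : Algebra.IsSeparable k κB := by
  by_contra hns
  -- `Ω[κB⁄k]` is nontrivial
  have hnt : ¬ Subsingleton Ω[κB⁄k] := fun h => hns (by
    haveI : Algebra.FormallyUnramified k κB := ⟨h⟩
    exact Algebra.FormallyUnramified.isSeparable k κB)
  -- some element of `κA` has nonzero differential in `κB`
  haveI : Algebra.FormallyUnramified κA κB := .of_isSeparable κA κB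
  have hsurj : Function.Surjective (mapBaseChange k κA κB) := by
    rw [← LinearMap.range_eq_top, range_mapBaseChange, ← top_le_iff]
    intro y _
    rw [LinearMap.mem_ker]
    exact Subsingleton.elim _ _
  obtain ⟨c, hc⟩ : ∃ c : κA, D k κB (algebraMap κA κB c) ≠ 0 := by
    by_contra hall
    simp only [not_exists, not_not] at hall
    apply hnt
    have hzero : KaehlerDifferential.map k k κA κB = 0 := by
      apply Derivation.liftKaehlerDifferential_unique
      ext c
      simp [hall c]
    refine ⟨fun y z => ?_⟩
    have h0 : ∀ w, mapBaseChange k κA κB w = 0 := by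
      intro w
      induction w with
      | zero => simp
      | tmul r s => rw [mapBaseChange_tmul, hzero]; simp
      | add _ _ h1 h2 => rw [map_add, h1, h2, add_zero]
    obtain ⟨y', rfl⟩ := hsurj y
    obtain ⟨z', rfl⟩ := hsurj z
    rw [h0, h0]
  obtain ⟨a, rfl⟩ := hκA c
  obtain ⟨b, hb⟩ := hω (D k B (algebraMap A B a))
  have hker : RingHom.ker (algebraMap B κB) = maximalIdeal B :=
    IsLocalRing.eq_maximalIdeal (RingHom.ker_isMaximal_of_surjective _ hκB)
  have hbu : IsUnit b := by
    by_contra hnu
    have hb0 : algebraMap B κB b = 0 := by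
      have : b ∈ maximalIdeal B := (IsLocalRing.mem_maximalIdeal b).mpr hnu
      rwa [← hker] at this
    apply hc
    rw [← hcomm, ← KaehlerDifferential.map_D k k B κB, hb, map_smul,
      ← algebraMap_smul κB b, hb0, zero_smul]
  -- hence `Ω[B⁄A] = 0`
  haveI : Algebra.FormallyUnramified A B := by
    refine ⟨⟨fun y z => ?_⟩⟩
    have hall : ∀ w : Ω[B⁄k], KaehlerDifferential.map k A B B w = 0 := by
      intro w
      obtain ⟨b', rfl⟩ := hω w
      have hω' : ω = (↑hbu.unit⁻¹ : B) • D k B (algebraMap A B a) := by
        rw [hb, smul_smul, IsUnit.val_inv_mul, one_smul]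
      rw [map_smul, hω', map_smul, KaehlerDifferential.map_D]
      simp
    obtain ⟨y', rfl⟩ := KaehlerDifferential.map_surjective k A B y
    obtain ⟨z', rfl⟩ := KaehlerDifferential.map_surjective k A B z
    rw [hall, hall]
  have h5 := Algebra.FormallyUnramified.map_maximalIdeal (R := A) (S := B)
  rw [he] at h5
  apply hB0
  have hle : maximalIdeal B ≤ maximalIdeal B • maximalIdeal B := by
    conv_lhs => rw [← h5]
    rw [smul_eq_mul, ← pow_two]
    exact Ideal.pow_le_pow_right h2
  exact Submodule.eq_bot_of_le_smul_of_le_jacobson_bot (maximalIdeal B) (maximalIdeal B)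
    (IsNoetherian.noetherian _) hle (IsLocalRing.maximalIdeal_le_jacobson _)

end Groth.Agent.Lib.Helper69.TameSep
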