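import Mathlib
import Groth.Prelude.Def_HTop2

/-!
# Descending morphisms along a universal homeomorphism onto a reduced scheme, Zariski locally
-/

open AlgebraicGeometry CategoryTheory Limits
universe u

namespace Groth.Agent.Lib.Helper69.UHGlue

variable {T' T Y : Scheme.{u}}

/-- base changes of a universal homeomorphism are surjective -/
lemma surjective_snd_of_isUnivHomeo (p : T' ⟶ T) (hp : FlatMor.IsUnivHomeo p) {W : Scheme.{u}}
    (g : W ⟶ T) : Function.Surjective (pullback.snd p g) := by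
  have h := hp (pullback.fst p g) g (pullback.snd p g) (IsPullback.of_hasPullback p g).flip
  exact h.surjective

lemma isDominant_snd_of_isUnivHomeo (p : T' ⟶ T) (hp : FlatMor.IsUnivHomeo p) {W : Scheme.{u}}
    (g : W ⟶ T) : IsDominant (pullback.snd p g) :=
  have : Surjective (pullback.snd p g) := ⟨surjective_snd_of_isUnivHomeo p hp g⟩
  inferInstance

/-- Gluing lemma in the pullback form. -/
theorem exists_desc_of_cover (p : T' ⟶ T) (hp : FlatMor.IsUnivHomeo p) [IsReduced T]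
    [Y.IsSeparated] (f' : T' ⟶ Y) (𝒰 : T.OpenCover) (fi : ∀ i, 𝒰.X i ⟶ Y)
    (hfi : ∀ i, pullback.fst p (𝒰.f i) ≫ f' = pullback.snd p (𝒰.f i) ≫ fi i) :
    ∃ f : T ⟶ Y, p ≫ f = f' := by
  have hcompat : ∀ i j, pullback.fst (𝒰.f i) (𝒰.f j) ≫ fi i = pullback.snd _ _ ≫ fi j := by
    intro i j
    set W := pullback (𝒰.f i) (𝒰.f j) with hW
    have hWred : IsReduced W := by
      have : IsReduced (𝒰.X i) := isReduced_of_isOpenImmersion (𝒰.f i)
      exact isReduced_of_isOpenImmersion (pullback.fst (𝒰.f i) (𝒰.f j))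
    let g : W ⟶ T := pullback.fst (𝒰.f i) (𝒰.f j) ≫ 𝒰.f i
    have hdom := isDominant_snd_of_isUnivHomeo p hp g
    apply ext_of_isDominant (pullback.snd p g)
    -- both sides equal `pullback.fst p g ≫ f'`
    have hi : pullback.snd p g ≫ pullback.fst (𝒰.f i) (𝒰.f j) ≫ fi i = pullback.fst p g ≫ f' := by
      let l : pullback p g ⟶ pullback p (𝒰.f i) :=
        pullback.lift (pullback.fst p g) (pullback.snd p g ≫ pullback.fst (𝒰.f i) (𝒰.f j))
          (by rw [pullback.condition]; simp [g])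
      have h1 : l ≫ pullback.fst p (𝒰.f i) = pullback.fst p g := pullback.lift_fst _ _ _
      have h2 : l ≫ pullback.snd p (𝒰.f i) =
          pullback.snd p g ≫ pullback.fst (𝒰.f i) (𝒰.f j) := pullback.lift_snd _ _ _
      rw [← Category.assoc, ← h2, Category.assoc, ← hfi i, ← Category.assoc, h1]
    have hj : pullback.snd p g ≫ pullback.snd (𝒰.f i) (𝒰.f j) ≫ fi j = pullback.fst p g ≫ f' := by
      let l : pullback p g ⟶ pullback p (𝒰.f j) :=
        pullback.lift (pullback.fst p g) (pullback.snd p g ≫ pullback.snd (𝒰.f i) (𝒰.f j))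
          (by rw [pullback.condition]; simp [g, pullback.condition])
      have h1 : l ≫ pullback.fst p (𝒰.f j) = pullback.fst p g := pullback.lift_fst _ _ _
      have h2 : l ≫ pullback.snd p (𝒰.f j) =
          pullback.snd p g ≫ pullback.snd (𝒰.f i) (𝒰.f j) := pullback.lift_snd _ _ _
      rw [← Category.assoc, ← h2, Category.assoc, ← hfi j, ← Category.assoc, h1]
    rw [hi, hj]
  refine ⟨𝒰.glueMorphisms fi hcompat, ?_⟩
  apply (𝒰.pullback₁ p).hom_ext
  intro i'
  have key : ∀ i : 𝒰.I₀, pullback.fst p (𝒰.f i) ≫ p ≫ 𝒰.glueMorphisms fi hcompat =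
      pullback.fst p (𝒰.f i) ≫ f' := by
    intro i
    have h1 : 𝒰.f i ≫ 𝒰.glueMorphisms fi hcompat = fi i := Scheme.Cover.ι_glueMorphisms 𝒰 fi hcompat i
    rw [← Category.assoc, pullback.condition, Category.assoc, h1, hfi i]
  exact key i'

/-- Gluing lemma in the form of milestone S13835. -/
theorem exists_desc_of_affineOpens (p : T' ⟶ T) (hp : FlatMor.IsUnivHomeo p) [IsReduced T]
    [Y.IsSeparated] (f' : T' ⟶ Y) {ι : Type u} (U : ι → T.affineOpens)
    (hU : ⨆ i, (U i : T.Opens) = ⊤)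
    (hloc : ∀ i, ∃ fi : ((U i : T.Opens) : Scheme.{u}) ⟶ Y,
      (p ⁻¹ᵁ (U i : T.Opens)).ι ≫ f' = (p ∣_ (U i : T.Opens)) ≫ fi) :
    ∃ f : T ⟶ Y, p ≫ f = f' := by
  choose fi hfi using hloc
  let 𝒰 : T.OpenCover := T.openCoverOfIsOpenCover (fun i => (U i : T.Opens)) hU
  refine exists_desc_of_cover p hp f' 𝒰 fi ?_
  intro i
  change pullback.fst p (U i : T.Opens).ι ≫ f' = pullback.snd p (U i : T.Opens).ι ≫ fi i
  have hpb := isPullback_morphismRestrict p (U i : T.Opens)
  let l : pullback p (U i : T.Opens).ι ⟶ (p ⁻¹ᵁ (U i : T.Opens) : Scheme.{u}) :=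
    hpb.lift (pullback.snd p (U i : T.Opens).ι) (pullback.fst p (U i : T.Opens).ι)
      pullback.condition.symm
  have h1 : l ≫ (p ∣_ (U i : T.Opens)) = pullback.snd p (U i : T.Opens).ι := hpb.lift_fst _ _ _
  have h2 : l ≫ (p ⁻¹ᵁ (U i : T.Opens)).ι = pullback.fst p (U i : T.Opens).ι :=
    hpb.lift_snd _ _ _
  rw [← h2, Category.assoc, hfi i, ← Category.assoc, h1]

end Groth.Agent.Lib.Helper69.UHGlue
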