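import Mathlib
import Groth.Agent.Lib.Helper69.RelWN
import Groth.Agent.S9407

/-!
# The relative weak normalization commutes with localization / étale base change (helper69)
-/

open AlgebraicGeometry CategoryTheory
open scoped TensorProduct
universe u

namespace Groth.Agent.Lib.Helper69.WNBaseChange

open Groth.Agent.Lib.Helper69.UHRing Groth.Agent.Lib.Helper69.AWNRing
  Groth.Agent.Lib.Helper69.WeakNorm Groth.Agent.Lib.Helper69.RelWN

section bc
variable {A A' C : Type u} [CommRing A] [CommRing A'] [CommRing C] [Algebra A A'] [Algebra A C]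

/-- ring-level universal homeomorphisms are stable under base change -/
theorem isUH_baseChange (h : IsUH (algebraMap A C)) : IsUH (algebraMap A' (A' ⊗[A] C)) := by
  rw [isUH_iff] at h ⊢
  have sq := (isPullback_SpecMap_of_isPushout _ _ _ _
    (CommRingCat.isPushout_tensorProduct A A' C)).flip
  have hst : (FlatMor.IsUnivHomeo : MorphismProperty Scheme.{u}).IsStableUnderBaseChange := by
    unfold FlatMor.IsUnivHomeo
    infer_instance
  have := MorphismProperty.of_isPullback (P := FlatMor.IsUnivHomeo) sq h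
  exact this

end bc

/-- the properties of a base change `A → A'` needed for the weak normalization to commute -/
structure GoodBC (A A' : Type u) [CommRing A] [CommRing A'] [Algebra A A'] : Prop where
  flat : Module.Flat A A'
  red : ∀ (T : Type u) [CommRing T] [Algebra A T] [IsReduced T], IsReduced (A' ⊗[A] T)
  intcl : ∀ (B : Type u) [CommRing B] [Algebra A B],
    Function.Surjective (TensorProduct.toIntegralClosure A A' B)

section good
variable (A A' : Type u) [CommRing A] [CommRing A'] [Algebra A A']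

theorem goodBC_of_etale [Algebra.Etale A A'] : GoodBC A A' where
  flat := inferInstance
  red T _ _ _ := by
    have h1 : IsReduced (T ⊗[A] A') := Groth.Agent.S9407.result T (T ⊗[A] A')
    exact isReduced_of_injective (Algebra.TensorProduct.comm A A' T).toRingEquiv.toRingHom
      (Algebra.TensorProduct.comm A A' T).injective
  intcl B _ _ := (TensorProduct.toIntegralClosure_bijective_of_smooth).2

theorem goodBC_of_isLocalization (M : Submonoid A) [IsLocalization M A'] : GoodBC A A' where
  flat := IsLocalization.flat A' M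
  red T _ _ hT := by
    have h0 : IsLocalization (Algebra.algebraMapSubmonoid T M) (T ⊗[A] A') :=
      IsLocalization.tensor (S := T) A' M
    have h1 : IsReduced (T ⊗[A] A') :=
      isReduced_localizationPreserves (Algebra.algebraMapSubmonoid T M) (T ⊗[A] A') hT
    exact isReduced_of_injective (Algebra.TensorProduct.comm A A' T).toRingEquiv.toRingHom
      (Algebra.TensorProduct.comm A A' T).injective
  intcl B _ _ := (TensorProduct.toIntegralClosure_bijective_of_isLocalization M).2

end good

section main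
variable {A A' B : Type u} [CommRing A] [CommRing A'] [CommRing B] [Algebra A A'] [Algebra A B]

lemma map_id_eq {M N : Type u} [CommRing M] [CommRing N] [Algebra A M] [Algebra A N]
    (φ : M →ₐ[A] N) (z : A' ⊗[A] M) :
    Algebra.TensorProduct.map (AlgHom.id A A') φ z =
      Algebra.TensorProduct.map (AlgHom.id A' A') φ z := by
  induction z with
  | zero => simp
  | tmul a m => rfl
  | add x y hx hy => rw [map_add, map_add, hx, hy]

theorem map_mem_Bwn (hk : RingHom.ker (algebraMap A B) ≤ nilradical A) (z : A' ⊗[A] Bwn A B) :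
    Algebra.TensorProduct.map (AlgHom.id A A') (Bwn A B).val z ∈ Bwn A' (A' ⊗[A] B) := by
  have hUH := isUH_baseChange (A' := A') (isUH_Bwn hk)
  rw [map_id_eq]
  exact range_le_Bwn (Algebra.TensorProduct.map (AlgHom.id A' A') (Bwn A B).val) hUH ⟨z, rfl⟩

/-- two algebra maps to a reduced ring agree on elements of the equalizer subalgebra -/
lemma eq_of_isNilpotent_of_isReduced {S P Q : Type u} [CommRing S] [CommRing P] [CommRing Q]
    [Algebra S P] [Algebra S Q] [IsReduced Q] (α β : P →ₐ[S] Q) (p : P)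
    (hp : IsNilpotent (p ⊗ₜ[S] (1 : P) - (1 : P) ⊗ₜ[S] p)) : α p = β p := by
  have h1 := (hp.map (Algebra.TensorProduct.productMap α β)).eq_zero
  rw [map_sub, sub_eq_zero] at h1
  simpa using h1

/-- flat base change of an equalizer, element form -/
lemma exists_of_map_eq {M N : Type u} [CommRing M] [CommRing N] [Algebra A M] [Algebra A N]
    [Module.Flat A A'] (f g : M →ₐ[A] N) (y : A' ⊗[A] M)
    (hy : Algebra.TensorProduct.map (AlgHom.id A' A') f y =
      Algebra.TensorProduct.map (AlgHom.id A' A') g y) :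
    ∃ z : A' ⊗[A] (AlgHom.equalizer f g),
      Algebra.TensorProduct.map (AlgHom.id A' A') (AlgHom.equalizer f g).val z = y := by
  let zz : AlgHom.equalizer (Algebra.TensorProduct.map (AlgHom.id A' A') f)
      (Algebra.TensorProduct.map (AlgHom.id A' A') g) := ⟨y, hy⟩
  refine ⟨(AlgHom.tensorEqualizerEquiv A' A' f g).symm zz, ?_⟩
  rw [← AlgHom.coe_tensorEqualizer A' A' f g, ← AlgHom.tensorEqualizerEquiv_apply,
    AlgEquiv.apply_symm_apply]

lemma coe_toIntegralClosure (y : A' ⊗[A] (Bint A B)) :
    ((TensorProduct.toIntegralClosure A A' B y : Bint A' (A' ⊗[A] B)) : A' ⊗[A] B) =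
      Algebra.TensorProduct.map (AlgHom.id A' A') (Bint A B).val y := rfl

theorem exists_of_mem_eqSub [Module.Flat A A'] (hgood : GoodBC A A') {Bi Bi' : Type u} [CommRing Bi] [Algebra A Bi]
    [CommRing Bi'] [Algebra A' Bi'] (τe : A' ⊗[A] Bi ≃ₐ[A'] Bi') (e : Bi') (he : e ∈ eqSub A' Bi') :
    ∃ z : A' ⊗[A] eqSub A Bi,
      Algebra.TensorProduct.map (AlgHom.id A' A') (eqSub A Bi).val z = τe.symm e := by
  have hQred : IsReduced ((Bi ⊗[A] Bi) ⧸ nilradical (Bi ⊗[A] Bi)) :=
    (Ideal.isRadical_iff_quotient_reduced _).mp (Ideal.radical_isRadical _)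
  have hQ : IsReduced (A' ⊗[A] ((Bi ⊗[A] Bi) ⧸ nilradical (Bi ⊗[A] Bi))) :=
    hgood.red ((Bi ⊗[A] Bi) ⧸ nilradical (Bi ⊗[A] Bi))
  have hnil : IsNilpotent (e ⊗ₜ[A'] (1 : Bi') - (1 : Bi') ⊗ₜ[A'] e) := (mem_eqSub _ _ e).mp he
  have hFG := eq_of_isNilpotent_of_isReduced (S := A') (P := Bi')
    (Q := A' ⊗[A] ((Bi ⊗[A] Bi) ⧸ nilradical (Bi ⊗[A] Bi)))
    ((Algebra.TensorProduct.map (AlgHom.id A' A')
      ((Ideal.Quotient.mkₐ A (nilradical (Bi ⊗[A] Bi))).comp
        Algebra.TensorProduct.includeLeft)).comp τe.symm.toAlgHom)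
    ((Algebra.TensorProduct.map (AlgHom.id A' A')
      ((Ideal.Quotient.mkₐ A (nilradical (Bi ⊗[A] Bi))).comp
        Algebra.TensorProduct.includeRight)).comp τe.symm.toAlgHom) e hnil
  exact exists_of_map_eq _ _ (τe.symm e) hFG

/-- the weak normalization inside the integral closure, mapped onto `Bwn` -/
noncomputable def κ (A B : Type u) [CommRing A] [CommRing B] [Algebra A B] : E A B →ₐ[A] Bwn A B :=
  (ιE A B).rangeRestrict

lemma val_comp_κ : (Bwn A B).val.comp (κ A B) = ιE A B := rfl

theorem mem_range_of_mem_Bwn (hgood : GoodBC A A') (x : A' ⊗[A] B)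
    (hx : x ∈ Bwn A' (A' ⊗[A] B)) :
    x ∈ Set.range (Algebra.TensorProduct.map (AlgHom.id A A') (Bwn A B).val) := by
  have := hgood.flat
  obtain ⟨e, rfl⟩ := hx
  let τe : A' ⊗[A] (Bint A B) ≃ₐ[A'] Bint A' (A' ⊗[A] B) :=
    AlgEquiv.ofBijective (TensorProduct.toIntegralClosure A A' B)
      ⟨TensorProduct.toIntegralClosure_injective_of_flat, hgood.intcl B⟩
  have hy : TensorProduct.toIntegralClosure A A' B (τe.symm e.1) = e.1 :=
    τe.apply_symm_apply e.1
  obtain ⟨z, hz⟩ := exists_of_mem_eqSub hgood τe e.1 e.2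
  -- transport to Bwn
  refine ⟨Algebra.TensorProduct.map (AlgHom.id A A') (κ A B) z, ?_⟩
  have hx : (ιE A' (A' ⊗[A] B) e : A' ⊗[A] B) =
      Algebra.TensorProduct.map (AlgHom.id A' A') (Bint A B).val (τe.symm e.1) := by
    rw [← coe_toIntegralClosure, hy]
    rfl
  change _ = ιE A' (A' ⊗[A] B) e
  rw [hx, ← hz, map_id_eq, map_id_eq, ← AlgHom.comp_apply, ← AlgHom.comp_apply,
    ← Algebra.TensorProduct.map_comp, ← Algebra.TensorProduct.map_comp, val_comp_κ]
  rfl

theorem Bwn_baseChange (hgood : GoodBC A A') (hk : RingHom.ker (algebraMap A B) ≤ nilradical A) :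
    (Bwn A' (A' ⊗[A] B) : Set (A' ⊗[A] B)) =
      Set.range (Algebra.TensorProduct.map (AlgHom.id A A') (Bwn A B).val) := by
  ext x
  constructor
  · intro hx
    exact mem_range_of_mem_Bwn hgood x hx
  · rintro ⟨z, rfl⟩
    exact map_mem_Bwn hk z

/-- characterization of `Bwn` by maximality -/
theorem eq_Bwn (hk : RingHom.ker (algebraMap A B) ≤ nilradical A) (C : Subalgebra A B)
    (hC : FlatMor.IsUnivHomeo (Spec.map (CommRingCat.ofHom (algebraMap A C))))
    (hmax : ∀ D : Subalgebra A B,
      FlatMor.IsUnivHomeo (Spec.map (CommRingCat.ofHom (algebraMap A D))) → D ≤ C) :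
    C = Bwn A B := by
  apply le_antisymm
  · have := range_le_Bwn C.val ((isUH_iff _).mpr hC)
    rwa [Subalgebra.range_val] at this
  · exact hmax _ ((isUH_iff _).mp (isUH_Bwn hk))

end main

end Groth.Agent.Lib.Helper69.WNBaseChange
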