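import Mathlib
import Groth.Prelude.Def_CurvBase
import Groth.Prelude.Def_FlatCA
import Groth.Agent.Lib.QCoh.Helper18_PullbackStalk
import Groth.Agent.Lib.Helper62.BCStalk2

/-! # Weakly associated points under field base change: stalk translation (helper69)

Reduces the scheme statement (Stacks 0CUB-type: `y ∈ X_K` weakly associated to `π^*F` ⇒ `π y` weakly
associated to `F`) to the ring statement (Stacks 10.66.19-type) for `R = O_{X,x}`,
`RK = K ⊗[k] R`. -/

set_option autoImplicit false
set_option linter.style.haveILetI false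

universe u

open CategoryTheory CategoryTheory.Limits AlgebraicGeometry TensorProduct

noncomputable section

namespace Groth.Agent.Lib.Helper69.WeakAssStalk

open Groth.Agent.Lib.Helper62.BCStalk

/-- kernel of `toSpanSingleton` is the annihilator of the span. -/
theorem ker_toSpanSingleton_eq {R M : Type*} [CommRing R] [AddCommGroup M] [Module R M] (m : M) :
    LinearMap.ker (LinearMap.toSpanSingleton R M m) = (Submodule.span R {m}).annihilator := by
  ext r
  rw [LinearMap.mem_ker, LinearMap.toSpanSingleton_apply, Submodule.mem_annihilator_span_singleton]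

/-- In a local ring, if the maximal ideal is minimal over `I` then `rad I` is the maximal ideal. -/
theorem radical_eq_maximalIdeal {R : Type*} [CommRing R] [IsLocalRing R] {I : Ideal R}
    (h : IsLocalRing.maximalIdeal R ∈ I.minimalPrimes) :
    I.radical = IsLocalRing.maximalIdeal R := by
  apply le_antisymm
  · exact (Ideal.IsPrime.radical_le_iff (IsLocalRing.maximalIdeal.isMaximal R).isPrime).mpr h.1.2
  · rw [Ideal.radical_eq_sInf]
    refine le_sInf ?_
    rintro P ⟨hIP, hP⟩
    exact h.2 ⟨hP, hIP⟩ (IsLocalRing.le_maximalIdeal hP.ne_top)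

/-- The ring statement (Stacks 10.66.19; the type of milestone S9592). -/
def RingStatement : Prop :=
  ∀ {k K R : Type u} [Field k] [Field K] [Algebra k K] [CommRing R] [Algebra k R] (RK : Type u)
    [CommRing RK] [Algebra k RK] [Algebra K RK] [Algebra R RK] [IsScalarTower k K RK]
    [IsScalarTower k R RK] [Algebra.IsPushout k K R RK] (M : Type u) [AddCommGroup M] [Module R M]
    (MK : Type u) [AddCommGroup MK] [Module RK MK] [Module R MK] [IsScalarTower R RK MK]
    (f : M →ₗ[R] MK) (_ : IsBaseChange RK f) (q : Ideal RK) [q.IsPrime]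
    (_ : q ∈ FlatCA.weakAss RK MK), q.comap (algebraMap R RK) ∈ FlatCA.weakAss R M

attribute [local instance] Algebra.TensorProduct.rightAlgebra

/-- Abstract form of the translation: `R → T` local, `T` the localization of `RK` at `q`,
`z ∈ T ⊗[R] M` with `rad (Ann z) = m_T` gives `q` weakly associated to `RK ⊗[R] M`. -/
theorem mem_weakAss_of_local {R RK T M : Type u} [CommRing R] [CommRing RK] [CommRing T]
    [IsLocalRing T] [Algebra R RK] [Algebra RK T] [Algebra R T] [IsScalarTower R RK T]
    [AddCommGroup M] [Module R M] (q : Ideal RK) [q.IsPrime]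
    (hq : q = (IsLocalRing.maximalIdeal T).comap (algebraMap RK T))
    [IsLocalization.AtPrime T q] (z : T ⊗[R] M)
    (hz : Ideal.radical (LinearMap.ker (LinearMap.toSpanSingleton T (T ⊗[R] M) z)) =
      IsLocalRing.maximalIdeal T) :
    q ∈ FlatCA.weakAss RK (RK ⊗[R] M) := by
  let MK := RK ⊗[R] M
  let e2 : T ⊗[RK] MK ≃ₗ[T] T ⊗[R] M := AlgebraTensorModule.cancelBaseChange R RK T T M
  haveI hlm : IsLocalizedModule q.primeCompl (TensorProduct.mk RK T MK 1) :=
    (isLocalizedModule_iff_isBaseChange q.primeCompl T _).mpr (TensorProduct.isBaseChange RK MK T)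
  obtain ⟨⟨w, s⟩, hws⟩ := IsLocalizedModule.surj q.primeCompl (TensorProduct.mk RK T MK 1)
    (e2.symm z)
  have hws' : (s.1 : RK) • (e2.symm z) = TensorProduct.mk RK T MK 1 w := hws
  -- annihilator of z'' equals that of z
  have hann : ∀ t : T, t • (e2.symm z) = 0 ↔ t • z = 0 := by
    intro t
    rw [← map_smul, EmbeddingLike.map_eq_zero_iff]
  have hsunit : IsUnit (algebraMap RK T s.1) := IsLocalization.map_units T s
  have hmem : ∀ t : T, t • z = 0 → t ∈ IsLocalRing.maximalIdeal T := by
    intro t ht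
    rw [← hz]
    exact Ideal.le_radical (by rw [LinearMap.mem_ker, LinearMap.toSpanSingleton_apply]; exact ht)
  -- key facts about w
  have hw1 : ∀ r : RK, r • w = 0 → r ∈ q := by
    intro r hr
    have h0 : (algebraMap RK T r * algebraMap RK T s.1) • (e2.symm z) = 0 := by
      rw [mul_smul]
      have : algebraMap RK T s.1 • (e2.symm z) = TensorProduct.mk RK T MK 1 w := by
        rw [← hws', algebraMap_smul]
      rw [this, algebraMap_smul, ← map_smul, hr, map_zero]
    have h1 := hmem _ ((hann _).mp h0)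
    have h2 : algebraMap RK T r ∈ IsLocalRing.maximalIdeal T := by
      rcases (IsLocalRing.maximalIdeal.isMaximal T).isPrime.mem_or_mem h1 with h | h
      · exact h
      · exact absurd hsunit ((IsLocalRing.mem_maximalIdeal _).mp h)
    rw [hq]; exact h2
  have hw2 : ∀ a ∈ q, ∃ t ∉ q, ∃ n : ℕ, (t * a ^ n) • w = 0 := by
    intro a ha
    have ha' : algebraMap RK T a ∈ IsLocalRing.maximalIdeal T := by rw [hq] at ha; exact ha
    rw [← hz] at ha'
    obtain ⟨n, hn⟩ := ha'
    rw [LinearMap.mem_ker, LinearMap.toSpanSingleton_apply] at hn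
    have h0 : TensorProduct.mk RK T MK 1 (a ^ n • w) = 0 := by
      rw [map_smul, ← hws', ← algebraMap_smul T (a ^ n), smul_comm, map_pow,
        (hann _).mpr hn, smul_zero]
    obtain ⟨t, ht⟩ := (IsLocalizedModule.eq_zero_iff q.primeCompl
      (TensorProduct.mk RK T MK 1)).mp h0
    exact ⟨t.1, t.2, n, by rw [mul_smul]; exact ht⟩
  refine ⟨w, ⟨inferInstance, ?_⟩, ?_⟩
  · intro r hr
    exact hw1 r ((Submodule.mem_annihilator_span_singleton w r).mp hr)
  · rintro P ⟨hP, hPann⟩ hPq a ha
    obtain ⟨t, htq, n, htn⟩ := hw2 a ha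
    have h3 : t * a ^ n ∈ P := hPann ((Submodule.mem_annihilator_span_singleton w _).mpr htn)
    rcases hP.mem_or_mem h3 with h | h
    · exact absurd (hPq h) htq
    · exact hP.mem_of_pow_mem n h

/-- The scheme statement follows from the ring statement. -/
theorem main (H : RingStatement.{u}) (k : Type u) [Field k] (K : Type u) [Field K] [Algebra k K]
    (X : Scheme.{u}) [X.Over (Spec (CommRingCat.of k))] (F : X.Modules) (hF : Coh.IsQCoh F)
    (y : ↥(Curv2.bc k X K))
    (hy : Curv2.IsWeakAssPoint ((Scheme.Modules.pullback (Curv2.bcFst k X K)).obj F) y) :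
    Curv2.IsWeakAssPoint F (Curv2.bcFst k X K y) := by
  let f : X ⟶ Spec (CommRingCat.of k) := X ↘ Spec (CommRingCat.of k)
  letI algR : Algebra k (X.presheaf.stalk ((bcπ f K).base y)) :=
    (stalkStr f ((bcπ f K).base y)).toAlgebra
  obtain ⟨can, -, h2, hloc⟩ := exists_canMap f K y rfl
  haveI : F.IsQuasicoherent := hF
  obtain ⟨e⟩ := Groth.Agent.Lib.QCoh.nonempty_stalk_pullback_linearEquiv (bcπ f K) F y
  obtain ⟨z, hz⟩ := hy
  letI aRT : Algebra (X.presheaf.stalk ((bcπ f K).base y)) ((bc f K).presheaf.stalk y) :=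
    ((bcπ f K).stalkMap y).hom.toAlgebra
  letI aKT : Algebra (K ⊗[k] X.presheaf.stalk ((bcπ f K).base y)) ((bc f K).presheaf.stalk y) :=
    can.toAlgebra
  haveI : IsScalarTower (X.presheaf.stalk ((bcπ f K).base y))
      (K ⊗[k] X.presheaf.stalk ((bcπ f K).base y)) ((bc f K).presheaf.stalk y) :=
    IsScalarTower.of_algebraMap_eq' (by ext a; exact (h2 a).symm)
  haveI := hloc
  have hz' : Ideal.radical (LinearMap.ker (LinearMap.toSpanSingleton ((bc f K).presheaf.stalk y)
      (((bc f K).presheaf.stalk y) ⊗[X.presheaf.stalk ((bcπ f K).base y)]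
        (F.presheaf.stalk ((bcπ f K).base y))) (e z))) =
      IsLocalRing.maximalIdeal ((bc f K).presheaf.stalk y) := by
    have hker : LinearMap.ker (LinearMap.toSpanSingleton ((bc f K).presheaf.stalk y)
        (((bc f K).presheaf.stalk y) ⊗[X.presheaf.stalk ((bcπ f K).base y)]
          (F.presheaf.stalk ((bcπ f K).base y))) (e z)) =
        LinearMap.ker (LinearMap.toSpanSingleton ((bc f K).presheaf.stalk y)
          (((Scheme.Modules.pullback (bcπ f K)).obj F).presheaf.stalk y) z) := by
      ext t
      rw [LinearMap.mem_ker, LinearMap.mem_ker, LinearMap.toSpanSingleton_apply,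
        LinearMap.toSpanSingleton_apply, ← map_smul, EmbeddingLike.map_eq_zero_iff]
    rw [hker]
    exact hz
  have hq := mem_weakAss_of_local
    (q := (IsLocalRing.maximalIdeal ((bc f K).presheaf.stalk y)).comap can) rfl (e z) hz'
  have h3 := H (k := k) (K := K) (R := X.presheaf.stalk ((bcπ f K).base y))
    (K ⊗[k] X.presheaf.stalk ((bcπ f K).base y)) (F.presheaf.stalk ((bcπ f K).base y))
    ((K ⊗[k] X.presheaf.stalk ((bcπ f K).base y)) ⊗[X.presheaf.stalk ((bcπ f K).base y)]
      (F.presheaf.stalk ((bcπ f K).base y)))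
    (TensorProduct.mk _ _ _ 1) (TensorProduct.isBaseChange _ _ _) _ hq
  have hcomap : ((IsLocalRing.maximalIdeal ((bc f K).presheaf.stalk y)).comap can).comap
      (algebraMap (X.presheaf.stalk ((bcπ f K).base y))
        (K ⊗[k] X.presheaf.stalk ((bcπ f K).base y))) =
      IsLocalRing.maximalIdeal (X.presheaf.stalk ((bcπ f K).base y)) := by
    ext a
    simp only [Ideal.mem_comap]
    change can (1 ⊗ₜ a) ∈ _ ↔ _
    rw [h2]
    have hl : IsLocalHom ((bcπ f K).stalkMap y).hom := inferInstance
    rw [IsLocalRing.mem_maximalIdeal, IsLocalRing.mem_maximalIdeal, mem_nonunits_iff,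
      mem_nonunits_iff, not_iff_not]
    exact ⟨fun h => hl.map_nonunit a h, fun h => h.map _⟩
  rw [hcomap] at h3
  obtain ⟨m, hm⟩ := h3
  refine ⟨m, ?_⟩
  rw [ker_toSpanSingleton_eq]
  exact radical_eq_maximalIdeal hm

end Groth.Agent.Lib.Helper69.WeakAssStalk
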